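import Groth.Agent.CurveBridge.Field
import Mathlib.AlgebraicGeometry.ValuativeCriterion

/-!
Closed points of a regular proper integral curve are the places of its function field.
-/

set_option linter.style.haveILetI false

universe u

open CategoryTheory AlgebraicGeometry Opposite TopologicalSpace

namespace Groth.CurveBridge

variable (k : Type u) [Field k] (X : Scheme.{u}) [X.Over (Spec (CommRingCat.of k))]

/-- A regular curve: dimension one and all local rings regular. -/
structure IsRegCurve : Prop where
  dim : topologicalKrullDim X = 1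
  reg : ∀ x : X, IsRegularLocalRing (X.presheaf.stalk x)

/-- The closed points. -/
abbrev Pt : Type u := {x : X // IsClosed ({x} : Set X)}

variable {k X}

theorem IsRegCurve.dvr [IsIntegral X] [LocallyOfFiniteType (X ↘ Spec (CommRingCat.of k))]
    (h : IsRegCurve X) (x : Pt X) : IsDiscreteValuationRing (X.presheaf.stalk x.1) :=
  isDVR_stalk k X h.dim x.2 (h.reg x.1)

variable (k) in
theorem fromSpecStalk_over (x : X) :
    X.fromSpecStalk x ≫ (X ↘ Spec (CommRingCat.of k)) =
      Spec.map (CommRingCat.ofHom (Curv2.stalkMap k X x)) := by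
  refine ext_of_isAffine ?_
  rw [Scheme.Hom.comp_appTop, Scheme.fromSpecStalk_appTop]
  rw [← cancel_epi (Scheme.ΓSpecIso (CommRingCat.of k)).inv,
    ← Scheme.ΓSpecIso_inv_naturality (CommRingCat.ofHom (Curv2.stalkMap k X x))]
  ext c
  simp [Curv2.stalkMap, Coh.toGlobal]

theorem range_toFF_generic [IsIntegral X] (x : X) (hx : x = genericPoint X) :
    Function.Surjective (algebraMap (X.presheaf.stalk x) X.functionField) := by
  subst hx
  intro z
  refine ⟨z, ?_⟩
  change (X.presheaf.stalkSpecializes _).hom z = z
  rw [TopCat.Presheaf.stalkSpecializes_refl]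
  rfl

/-- The valuation ring of a closed point in the function field. -/
noncomputable def stalkVal [IsIntegral X] [LocallyOfFiniteType (X ↘ Spec (CommRingCat.of k))]
    (h : IsRegCurve X) (x : Pt X) : ValuationSubring X.functionField where
  __ := (algebraMap (X.presheaf.stalk x.1) X.functionField).range
  mem_or_inv_mem' z := by
    haveI := h.dvr (k := k) x
    rcases ValuationRing.isInteger_or_isInteger (X.presheaf.stalk x.1) z with ⟨a, ha⟩ | ⟨a, ha⟩
    · exact Or.inl ⟨a, ha⟩
    · exact Or.inr ⟨a, ha⟩

section

variable [IsIntegral X] [LocallyOfFiniteType (X ↘ Spec (CommRingCat.of k))] (h : IsRegCurve X)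
include h

theorem mem_stalkVal {x : Pt X} {z : X.functionField} :
    z ∈ stalkVal (k := k) h x ↔ ∃ a, algebraMap (X.presheaf.stalk x.1) X.functionField a = z :=
  Iff.rfl

theorem stalkVal_ne_top (x : Pt X) : stalkVal (k := k) h x ≠ ⊤ := by
  haveI := h.dvr (k := k) x
  intro htop
  refine IsDiscreteValuationRing.not_isField (X.presheaf.stalk x.1) ?_
  refine MulEquiv.isField (Field.toIsField X.functionField) (RingEquiv.ofBijective _
    ⟨IsFractionRing.injective (X.presheaf.stalk x.1) X.functionField, fun z => ?_⟩).toMulEquiv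
  exact (mem_stalkVal h).mp (htop ▸ ValuationSubring.mem_top z)

theorem exists_placeAt (x : Pt X) :
    ∃ P : FunFld.Place k X.functionField, P.O = stalkVal (k := k) h x :=
  (isFF k X h.dim).exists_place_O_eq (stalkVal (k := k) h x)
    (fun c => ⟨_, algebraMap_functionField k X x.1 c⟩) (stalkVal_ne_top h x)

/-- The place of a closed point. -/
noncomputable def placeAt (x : Pt X) : FunFld.Place k X.functionField := (exists_placeAt h x).choose

theorem placeAt_O (x : Pt X) : (placeAt (k := k) h x).O = stalkVal (k := k) h x :=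
  (exists_placeAt h x).choose_spec

theorem placeAt_le_one_iff (x : Pt X) (z : X.functionField) :
    (placeAt (k := k) h x).1 z ≤ 1 ↔ ∃ a, algebraMap (X.presheaf.stalk x.1) X.functionField a = z := by
  show z ∈ (placeAt (k := k) h x).O ↔ _
  rw [placeAt_O]
  rfl

theorem placeAt_lt_one_iff (x : Pt X) (a : X.presheaf.stalk x.1) :
    (placeAt (k := k) h x).1 (algebraMap _ X.functionField a) < 1 ↔
      a ∈ IsLocalRing.maximalIdeal _ := by
  set P := placeAt (k := k) h x
  have hle : P.1 (algebraMap _ X.functionField a) ≤ 1 := (placeAt_le_one_iff h x _).mpr ⟨a, rfl⟩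
  rw [IsLocalRing.mem_maximalIdeal, mem_nonunits_iff]
  constructor
  · rintro hlt ⟨u, rfl⟩
    have h1 : P.1 (algebraMap _ X.functionField (↑u⁻¹ : X.presheaf.stalk x.1)) ≤ 1 :=
      (placeAt_le_one_iff h x _).mpr ⟨_, rfl⟩
    have h2 : P.1 (algebraMap _ X.functionField (u : X.presheaf.stalk x.1) *
        algebraMap _ X.functionField (↑u⁻¹ : X.presheaf.stalk x.1)) = 1 := by
      rw [← map_mul, Units.mul_inv, map_one, map_one]
    rw [map_mul] at h2
    exact absurd ((mul_le_of_le_one_right' h1).trans_lt hlt) (by rw [h2]; exact lt_irrefl 1)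
  · intro hnu
    refine lt_of_le_of_ne hle fun h1 => hnu ?_
    obtain ⟨b, hb⟩ := (placeAt_le_one_iff h x (algebraMap _ X.functionField a)⁻¹).mp (by
      rw [map_inv₀, h1, inv_one])
    refine IsUnit.of_mul_eq_one b (IsFractionRing.injective (X.presheaf.stalk x.1) X.functionField ?_)
    rw [map_mul, hb, map_one, mul_inv_cancel₀]
    intro h0
    rw [h0, map_zero] at h1
    exact zero_ne_one h1

end

section Proper

variable [IsIntegral X] [IsProper (X ↘ Spec (CommRingCat.of k))] (h : IsRegCurve X)
include h

theorem placeAt_injective : Function.Injective (placeAt (k := k) h) := by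
  intro x y hxy
  haveI : X.IsSeparated := ⟨by
    rw [show Limits.terminal.from X = (X ↘ Spec (CommRingCat.of k)) ≫ Limits.terminal.from _ from
      Limits.terminal.hom_ext _ _]
    infer_instance⟩
  have hr : (algebraMap (X.presheaf.stalk x.1) X.functionField).range ≤
      (algebraMap (X.presheaf.stalk y.1) X.functionField).range := by
    rintro _ ⟨a, rfl⟩
    exact (placeAt_le_one_iff (k := k) h y _).mp (hxy ▸ (placeAt_le_one_iff h x _).mpr ⟨a, rfl⟩)
  obtain ⟨α, hα⟩ := Groth.PropsBasic2.exists_comp_eq_of_range_le hr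
  have hs : y.1 ⤳ x.1 := Groth.PropsBasic2.specializes_of_comp_eq α hα
  have := specializes_iff_mem_closure.mp hs
  rw [y.2.closure_eq] at this
  exact Subtype.ext this

/-- Every place is centred at a closed point. -/
theorem placeAt_surjective : Function.Surjective (placeAt (k := k) h) := by
  intro P
  set K := X.functionField
  let ψ : k →+* P.O := algebraMap k P.O
  have hsq : X.fromSpecStalk (genericPoint X) ≫ (X ↘ Spec (CommRingCat.of k)) =
      Spec.map (CommRingCat.ofHom (algebraMap P.O K)) ≫ Spec.map (CommRingCat.ofHom ψ) := by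
    rw [fromSpecStalk_over, ← Spec.map_comp]
    rfl
  have hex : ValuativeCriterion.Existence (X ↘ Spec (CommRingCat.of k)) := by
    have hu : UniversallyClosed (X ↘ Spec (CommRingCat.of k)) := inferInstance
    rw [UniversallyClosed.eq_valuativeCriterion] at hu
    exact hu.1
  obtain ⟨l, hl₁, -⟩ := (hex
    { R := P.O, K := K, i₁ := X.fromSpecStalk (genericPoint X),
      i₂ := Spec.map (CommRingCat.ofHom ψ), commSq := ⟨hsq⟩ }).exists_lift
  dsimp only at hl₁
  set x := l (IsLocalRing.closedPoint P.O) with hx
  let α := Scheme.stalkClosedPointTo l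
  have hα : α ≫ CommRingCat.ofHom (algebraMap P.O K) = Groth.PropsBasic2.toFF x := by
    refine Spec.map_injective ?_
    rw [← cancel_mono (X.fromSpecStalk x), Spec.map_comp, Category.assoc,
      Scheme.Spec_stalkClosedPointTo_fromSpecStalk, hl₁]
    exact (Scheme.SpecMap_stalkSpecializes_fromSpecStalk _).symm
  have hmem : ∀ a, algebraMap (X.presheaf.stalk x) K a ∈ P.O := fun a => by
    have := ConcreteCategory.congr_hom hα a
    rw [Groth.PropsBasic2.algebraMap_eq_toFF]
    rw [← this]
    exact (α a).2
  have hxne : x ≠ genericPoint X := by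
    intro he
    obtain ⟨z, hz⟩ := Groth.FunFld1.exists_val_gt_one P
    obtain ⟨a, rfl⟩ := range_toFF_generic x he z
    exact absurd (hmem a) (not_le.mpr hz)
  refine ⟨⟨x, (isClosed_singleton_iff X h.dim x).mpr hxne⟩, ?_⟩
  refine Groth.FunFld1.Place.eq_of_forall_le_one _ _ fun z hz => ?_
  obtain ⟨a, rfl⟩ := (placeAt_le_one_iff h _ z).mp hz
  exact hmem a

/-- Closed points correspond to places. -/
noncomputable def placeEquiv : Pt X ≃ FunFld.Place k X.functionField :=
  Equiv.ofBijective _ ⟨placeAt_injective h, placeAt_surjective h⟩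

end Proper

end Groth.CurveBridge
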