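import Groth.Agent.CurveBridge.SmoothCurve
import Groth.Agent.S4445
import Groth.Agent.FunFld1.Extension
import Groth.Agent.Ega4Algebra1.RegularNormal

/-!
Endomorphisms of a regular proper curve and of its function field.
-/

set_option linter.style.haveILetI false
set_option linter.unusedSectionVars false

universe u

open CategoryTheory AlgebraicGeometry Opposite TopologicalSpace

namespace Groth.CurveBridge.AutField

variable {k : Type u} [Field k] {X : Scheme.{u}} [X.Over (Spec (CommRingCat.of k))] [IsIntegral X]

/-- The map of function fields of a morphism fixing the generic point. -/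
noncomputable def fieldHom (u : X ⟶ X) (hu : u (genericPoint X) = genericPoint X) :
    X.functionField ⟶ X.functionField :=
  X.presheaf.stalkSpecializes (specializes_of_eq hu) ≫ u.stalkMap (genericPoint X)

/-- The map of function fields of a morphism fixing the generic point, as a ring map. -/
noncomputable abbrev fieldMap (u : X ⟶ X) (hu : u (genericPoint X) = genericPoint X) :
    X.functionField →+* X.functionField :=
  (fieldHom u hu).hom

/-- The generic point. -/
noncomputable def genMap : Spec X.functionField ⟶ X := X.fromSpecStalk (genericPoint X)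

theorem spec_fieldHom (u : X ⟶ X) (hu : u (genericPoint X) = genericPoint X) :
    Spec.map (fieldHom u hu) ≫ genMap = genMap ≫ u := by
  rw [fieldHom, genMap, Spec.map_comp, Category.assoc, Scheme.SpecMap_stalkSpecializes_fromSpecStalk,
    Scheme.SpecMap_stalkMap_fromSpecStalk]

instance : Mono (genMap (X := X)) := inferInstanceAs (Mono (X.fromSpecStalk (genericPoint X)))

theorem fieldMap_algebraMap (u : X ⟶ X) (hu : u (genericPoint X) = genericPoint X)
    (hs : u ≫ (X ↘ Spec (CommRingCat.of k)) = X ↘ Spec (CommRingCat.of k)) (c : k) :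
    fieldMap u hu (algebraMap k X.functionField c) = algebraMap k X.functionField c := by
  have h := congrArg (fun m => m ≫ (X ↘ Spec (CommRingCat.of k))) (spec_fieldHom u hu)
  simp only [Category.assoc, hs, genMap, fromSpecStalk_over, ← Spec.map_comp] at h
  exact ConcreteCategory.congr_hom (Spec.map_injective h) c

theorem fieldHom_id : fieldHom (𝟙 X) rfl = 𝟙 X.functionField := by
  apply Spec.map_injective
  rw [← cancel_mono genMap, spec_fieldHom, Category.comp_id, Spec.map_id, Category.id_comp]

theorem fieldHom_comp (u v : X ⟶ X) (hu : u (genericPoint X) = genericPoint X)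
    (hv : v (genericPoint X) = genericPoint X) (huv : (u ≫ v) (genericPoint X) = genericPoint X) :
    fieldHom (u ≫ v) huv = fieldHom v hv ≫ fieldHom u hu := by
  apply Spec.map_injective
  rw [← cancel_mono genMap, spec_fieldHom, Spec.map_comp, Category.assoc, spec_fieldHom,
    ← Category.assoc, ← Category.assoc, spec_fieldHom u hu]

theorem fieldHom_congr {u v : X ⟶ X} (he : u = v) (hu : u (genericPoint X) = genericPoint X)
    (hv : v (genericPoint X) = genericPoint X) : fieldHom u hu = fieldHom v hv := by
  subst he; rfl

theorem fieldMap_stalk (u : X ⟶ X) (hu : u (genericPoint X) = genericPoint X) (x : X)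
    (a : X.presheaf.stalk (u x)) :
    fieldMap u hu (algebraMap (X.presheaf.stalk (u x)) X.functionField a) =
      algebraMap (X.presheaf.stalk x) X.functionField (u.stalkMap x a) := by
  have h := Scheme.Hom.stalkSpecializes_stalkMap u (genericPoint X) x (genericPoint_specializes x)
  rw [Groth.PropsBasic2.algebraMap_eq_toFF, Groth.PropsBasic2.algebraMap_eq_toFF]
  refine Eq.trans ?_ (ConcreteCategory.congr_hom h a)
  show (X.presheaf.stalkSpecializes _ ≫ X.presheaf.stalkSpecializes _ ≫ u.stalkMap (genericPoint X)).hom a = _
  rw [← Category.assoc, TopCat.Presheaf.stalkSpecializes_comp]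

variable [IsProper (X ↘ Spec (CommRingCat.of k))] (h : IsRegCurve X)
include h

theorem isClosed_image (u : X ⟶ X) (hs : u ≫ (X ↘ Spec (CommRingCat.of k)) = X ↘ Spec (CommRingCat.of k))
    (x : Pt X) : IsClosed ({u x.1} : Set X) := by
  haveI : IsProper (u ≫ (X ↘ Spec (CommRingCat.of k))) := by rw [hs]; infer_instance
  haveI : IsProper u := IsProper.of_comp u (X ↘ Spec (CommRingCat.of k))
  rw [← Set.image_singleton]
  exact u.isClosedMap _ x.2

theorem comapPlace_placeAt (u : X ⟶ X) (hu : u (genericPoint X) = genericPoint X)
    (hs : u ≫ (X ↘ Spec (CommRingCat.of k)) = X ↘ Spec (CommRingCat.of k))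
    (σ : X.functionField ≃ₐ[k] X.functionField) (hσ : (σ : X.functionField →+* X.functionField) = fieldMap u hu)
    (x : Pt X) :
    Groth.FunFld1.comapPlace σ (placeAt (k := k) h x) = placeAt h ⟨u x.1, isClosed_image h u hs x⟩ := by
  refine (Groth.FunFld1.Place.eq_of_forall_le_one _ _ fun z hz => ?_).symm
  obtain ⟨a, rfl⟩ := (placeAt_le_one_iff h _ z).mp hz
  show (placeAt (k := k) h x).1 ((σ : X.functionField →+* X.functionField) _) ≤ 1
  rw [hσ, fieldMap_stalk]
  exact (placeAt_le_one_iff h x _).mpr ⟨_, rfl⟩

variable (k) in
/-- Endomorphisms of the function field come from unique endomorphisms of the curve. -/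
theorem existsUnique_of_algHom (φ : X.functionField →ₐ[k] X.functionField) :
    ∃! u : X ⟶ X, u ≫ (X ↘ Spec (CommRingCat.of k)) = X ↘ Spec (CommRingCat.of k) ∧
      ∃ hu : u (genericPoint X) = genericPoint X, fieldMap u hu = φ := by
  have hd : ∀ x : X, IsClosed ({x} : Set X) → ringKrullDim (X.presheaf.stalk x) = 1 := fun x hx => by
    haveI := h.dvr (k := k) ⟨x, hx⟩
    exact IsPrincipalIdealRing.ringKrullDim_eq_one _ (IsDiscreteValuationRing.not_isField _)
  have hn : Pi1.IsNormalScheme X := fun x => by
    haveI := h.reg x
    exact ⟨Groth.Ega4Algebra1.isDomain_of_isRegularLocalRing _, Groth.Ega4Algebra1.isIntegrallyClosed_of_isRegularLocalRing _⟩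
  exact Groth.Agent.S4445.result k X X hd hn hd φ

end Groth.CurveBridge.AutField
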