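import Groth.Agent.FunFld1.RiemannRoch
import Groth.Agent.FunFld1.Rational
import Mathlib.Algebra.Module.Submodule.Union

/-!
Clifford's theorem for function fields over an algebraically closed field, and numerical consequences.
-/

set_option linter.style.haveILetI false

namespace Groth.CurveBridge

open WithZero FunFld Groth.FunFld1

variable {k K : Type*} [Field k] [Field K] [Algebra k K]

theorem ell_mono (hF : IsFF k K) {D E : Divisor k K} (h : D ≤ E) : ell D ≤ ell E := by
  haveI : FiniteDimensional k (L E) := hF.finiteDimensional_L E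
  exact Submodule.finrank_mono (Groth.FunFld1.L_mono h)

variable [IsAlgClosed k] (hK : IsFunctionField k K)
include hK

/-- For effective `D`, `E`: `ℓ(D) + ℓ(E) ≤ 1 + ℓ(D + E)`. -/
theorem ell_add_ell_le {D E : Divisor k K} (hD : 0 ≤ D) (hE : 0 ≤ E) :
    ell D + ell E ≤ 1 + ell (D + E) := by
  have hF : IsFF k K := IsFF.of_isFunctionField hK
  classical
  have hex : ∃ n : ℕ, ∃ D' : Divisor k K,
      0 ≤ D' ∧ D' ≤ D ∧ L D ≤ L D' ∧ D'.deg = (n : ℤ) :=
    ⟨D.deg.toNat, D, hD, le_rfl, le_rfl, (Int.toNat_of_nonneg (Groth.FunFld1.deg_nonneg hD)).symm⟩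
  obtain ⟨D', h0, hle, hL, hdeg⟩ := Nat.find_spec hex
  have hLD : L D' = L D := le_antisymm (Groth.FunFld1.L_mono hle) hL
  have hproper : ∀ P : Place k K, ¬ L D' ≤ L (D' - Finsupp.single P 1) := by
    intro P hP
    by_cases hc : 0 < D' P
    · have h0' : 0 ≤ D' - Finsupp.single P 1 := fun Q => by
        rw [Finsupp.sub_apply, Finsupp.coe_zero, Pi.zero_apply]
        by_cases hQ : P = Q
        · subst hQ; rw [Finsupp.single_eq_same]; omega
        · rw [Finsupp.single_eq_of_ne (Ne.symm hQ), sub_zero]; exact h0 Q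
      have hle' : D' - Finsupp.single P 1 ≤ D :=
        (sub_le_self _ (Finsupp.single_nonneg.mpr zero_le_one)).trans hle
      have hd : (D' - Finsupp.single P 1).deg = (Nat.find hex : ℤ) - 1 := by
        rw [Groth.FunFld1.deg_sub, Groth.FunFld1.deg_single, hdeg, deg_eq_one_of_isAlgClosed hF P]
        simp
      have hpos : 1 ≤ Nat.find hex := by
        have := Groth.FunFld1.deg_nonneg h0'
        omega
      refine Nat.find_min hex (m := Nat.find hex - 1) (by omega)
        ⟨_, h0', hle', hL.trans hP, ?_⟩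
      rw [hd]; push_cast [hpos]; ring
    · have h1 : (1 : K) ∈ L D' := Groth.FunFld1.L_mono h0 (by
        rw [Groth.FunFld1.L_zero_eq hK]; exact Submodule.mem_one.mpr ⟨1, map_one _⟩)
      have h2 : P.1 (1 : K) ≤ exp ((D' - Finsupp.single P 1 : Divisor k K) P) := hP h1 P
      rw [map_one, Finsupp.sub_apply, Finsupp.single_eq_same, ← exp_zero, exp_le_exp] at h2
      have := h0 P
      simp only [Finsupp.coe_zero, Pi.zero_apply] at this
      omega
  haveI : Infinite k := inferInstance
  let p : {P // P ∈ E.support} → Submodule k (L D') := fun P =>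
    Submodule.comap (L D').subtype (L (D' - Finsupp.single P.1 1))
  obtain ⟨⟨z, hz⟩, hzn⟩ := Submodule.exists_forall_notMem_of_forall_ne_top p fun P h =>
    hproper P.1 fun x hx => Submodule.eq_top_iff'.mp h ⟨x, hx⟩
  haveI : FiniteDimensional k (L (D' + E)) := hF.finiteDimensional_L _
  haveI : FiniteDimensional k (L E) := hF.finiteDimensional_L _
  let f : ↥(L E) →ₗ[k] ↥(L (D' + E)) :=
    ((LinearMap.mulRight k z).comp (L E).subtype).codRestrict (L (D' + E)) fun x P => by
      change P.1 ((x : K) * z) ≤ _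
      rw [map_mul, Finsupp.add_apply, add_comm, exp_add]
      exact mul_le_mul' (x.2 P) (hz P)
  let A : Submodule k ↥(L (D' + E)) := Submodule.comap (L (D' + E)).subtype (L D')
  let φ : ↥(L E) →ₗ[k] (↥(L (D' + E)) ⧸ A) := A.mkQ.comp f
  have hker : LinearMap.ker φ ≤ Submodule.comap (L E).subtype (L (0 : Divisor k K)) := by
    intro x hx
    rw [LinearMap.mem_ker, LinearMap.comp_apply, Submodule.mkQ_apply,
      Submodule.Quotient.mk_eq_zero] at hx
    intro P
    have hxz : P.1 ((x : K) * z) ≤ exp (D' P) := hx P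
    rw [Finsupp.coe_zero, Pi.zero_apply]
    by_cases hP : P ∈ E.support
    · have hz1 : ¬ P.1 z ≤ exp ((D' - Finsupp.single P 1 : Divisor k K) P) := by
        intro hcon
        apply hzn ⟨P, hP⟩
        intro Q
        by_cases hQ : P = Q
        · subst hQ; exact hcon
        · change Q.1 z ≤ _
          rw [Finsupp.sub_apply, Finsupp.single_eq_of_ne (Ne.symm hQ), sub_zero]
          exact hz Q
      have hzP : P.1 z = exp (D' P) := by
        have hz2 : P.1 z ≤ exp (D' P) := hz P
        rw [Finsupp.sub_apply, Finsupp.single_eq_same, not_le] at hz1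
        obtain ⟨n, hn⟩ : ∃ n : ℤ, P.1 z = exp n :=
          WithZero.ne_zero_iff_exists.mp (zero_le'.trans_lt hz1).ne' |>.imp fun n h => h.symm
        rw [hn, exp_le_exp] at hz2
        rw [hn, exp_lt_exp] at hz1
        rw [hn]; congr 1; omega
      rw [map_mul, hzP] at hxz
      calc P.1 (x : K) = P.1 (x : K) * exp (D' P) * exp (-(D' P)) := by
            rw [mul_assoc, ← exp_add, add_neg_cancel, exp_zero, mul_one]
        _ ≤ exp (D' P) * exp (-(D' P)) := mul_le_mul' hxz le_rfl
        _ = exp 0 := by rw [← exp_add, add_neg_cancel]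
    · have : P.1 (x : K) ≤ exp (E P) := x.2 P
      rwa [Finsupp.notMem_support_iff.mp hP] at this
  haveI : FiniteDimensional k (L (0 : Divisor k K)) := hF.finiteDimensional_L _
  have h0le : L (0 : Divisor k K) ≤ L E := Groth.FunFld1.L_mono hE
  have hk : Module.finrank k (LinearMap.ker φ) ≤ 1 := by
    refine (Submodule.finrank_mono hker).trans ?_
    rw [(Submodule.comapSubtypeEquivOfLe h0le).finrank_eq]
    exact (Groth.FunFld1.ell_zero_eq hK).le
  have hA : Module.finrank k A = ell D := by
    rw [(Submodule.comapSubtypeEquivOfLe (Groth.FunFld1.L_mono (le_add_of_nonneg_right hE) :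
      L D' ≤ L (D' + E))).finrank_eq, hLD]
    rfl
  have hmain := LinearMap.finrank_range_add_finrank_ker φ
  have hr : Module.finrank k (LinearMap.range φ) ≤ Module.finrank k (↥(L (D' + E)) ⧸ A) :=
    Submodule.finrank_le _
  have hq := Submodule.finrank_quotient_add_finrank A
  have hle2 : ell (D' + E) ≤ ell (D + E) := ell_mono hF (by gcongr)
  unfold ell at *
  omega

/-- Clifford's theorem. -/
theorem clifford {C D : Divisor k K} (hC : IsCanonical k K C) (h1 : L D ≠ ⊥) (h2 : L (C - D) ≠ ⊥) :
    2 * (ell D : ℤ) ≤ D.deg + 2 := by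
  have hF : IsFF k K := IsFF.of_isFunctionField hK
  obtain ⟨x, hx, hD⟩ := hF.exists_effective_of_ne_bot h1
  obtain ⟨y, hy, hE⟩ := hF.exists_effective_of_ne_bot h2
  have h := ell_add_ell_le hK hD hE
  rw [hF.ell_add_div D hx, hF.ell_add_div (C - D) hy,
    show D + FunFld.div k x + (C - D + FunFld.div k y) = C + FunFld.div k (x * y) by
      rw [hF.div_mul hx hy]; abel,
    hF.ell_add_div C (mul_ne_zero hx hy), Groth.FunFld1.ell_canonical hK hC] at h
  have := Groth.FunFld1.riemann_roch hK hC D
  omega

/-- Either non-special, or Clifford's bound holds. -/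
theorem nonspecial_or_clifford {D : Divisor k K} (h1 : 1 ≤ ell D) :
    (ell D : ℤ) = D.deg + 1 - genus k K ∨ 2 * (ell D : ℤ) ≤ D.deg + 2 := by
  obtain ⟨C, hC⟩ := Groth.FunFld1.exists_isCanonical hK
  have hne : L D ≠ ⊥ := by
    intro h
    unfold ell at h1
    rw [h, finrank_bot] at h1
    omega
  by_cases h2 : L (C - D) = ⊥
  · left
    rw [Groth.FunFld1.riemann_roch hK hC D]
    unfold ell
    rw [h2, finrank_bot]
    simp
  · exact Or.inr (clifford hK hC hne h2)

theorem ell_le_deg_of_pos {D : Divisor k K} (hg : 1 ≤ genus k K) (hd : 0 < D.deg) :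
    (ell D : ℤ) ≤ D.deg := by
  rcases Nat.eq_zero_or_pos (ell D) with h | h
  · omega
  · rcases nonspecial_or_clifford hK h with h' | h' <;> omega

/-- The slope inequality. -/
theorem slope_le {D : Divisor k K} {d : ℤ} (hd : 2 * (genus k K : ℤ) ≤ d) {m : ℕ} (hm : 1 ≤ m)
    (hsec : m + 1 ≤ ell D) (hdeg : D.deg ≤ d) :
    d * (m : ℤ) ≤ D.deg * (d - genus k K) := by
  rcases nonspecial_or_clifford hK (D := D) (by omega) with h | h
  · have h1 : (m : ℤ) ≤ D.deg - genus k K := by omega
    nlinarith
  · have h1 : 2 * (m : ℤ) ≤ D.deg := by omega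
    nlinarith

/-- The strict slope inequality. -/
theorem slope_lt {D : Divisor k K} {d : ℤ} (hg : 1 ≤ genus k K) (hd : 2 * (genus k K : ℤ) < d)
    {m : ℕ} (hm : 1 ≤ m) (hsec : m + 1 ≤ ell D) (hdeg : D.deg ≤ d)
    (hlt : D.deg < d ∨ (m : ℤ) < d - genus k K) :
    d * (m : ℤ) < D.deg * (d - genus k K) := by
  rcases nonspecial_or_clifford hK (D := D) (by omega) with h | h
  · have h1 : (m : ℤ) ≤ D.deg - genus k K := by omega
    rcases hlt with h2 | h2
    · nlinarith
    · rcases eq_or_lt_of_le hdeg with h3 | h3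
      · rw [h3]; exact mul_lt_mul_of_pos_left h2 (by omega)
      · nlinarith
  · have h1 : 2 * (m : ℤ) ≤ D.deg := by omega
    nlinarith

end Groth.CurveBridge

namespace Groth.CurveBridge

open WithZero FunFld Groth.FunFld1

variable {k K : Type*} [Field k] [Field K] [Algebra k K]

/-- A function field over an algebraically closed field has infinitely many places. -/
theorem infinite_place [IsAlgClosed k] (hF : IsFF k K) : Infinite (Place k K) := by
  obtain ⟨x, hx, -⟩ := id hF
  have hz : ∀ c : k, ∃ P : Place k K, P.1 (x - algebraMap k K c) < 1 := fun c => by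
    refine hF.exists_zero_place fun halg => hx ?_
    have := halg.add (isAlgebraic_algebraMap (R := k) (A := K) c)
    rwa [sub_add_cancel] at this
  choose P hP using hz
  refine Infinite.of_injective P fun a b hab => ?_
  by_contra hne
  have h1 := hP a
  have h2 : (P a).1 (x - algebraMap k K b) < 1 := hab ▸ hP b
  have h3 := (P a).1.map_sub_lt h2 h1
  rw [sub_sub_sub_cancel_left, ← map_sub,
    val_eq_one_of_isAlgebraic (P a) (isAlgebraic_algebraMap _)
      (fun h => hne (sub_eq_zero.mp ((map_eq_zero _).mp h)))] at h3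
  exact lt_irrefl _ h3

/-- Effective divisors of every degree `r ≤ g` with `ℓ = 1` exist. -/
theorem exists_effective_ell_one [IsAlgClosed k] (hK : IsFunctionField k K) :
    ∀ r : ℕ, r ≤ genus k K → ∃ D : Divisor k K, 0 ≤ D ∧ D.deg = r ∧ ell D = 1 := by
  have hF : IsFF k K := IsFF.of_isFunctionField hK
  haveI := infinite_place hF
  obtain ⟨C, hC⟩ := Groth.FunFld1.exists_isCanonical hK
  intro r
  induction r with
  | zero => exact fun _ => ⟨0, le_rfl, Groth.FunFld1.deg_zero, Groth.FunFld1.ell_zero_eq hK⟩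
  | succ r ih =>
    intro hr
    obtain ⟨D, h0, hd, hl⟩ := ih (by omega)
    have hrr := Groth.FunFld1.riemann_roch hK hC D
    have hne : L (C - D) ≠ ⊥ := fun h => by
      unfold ell at hrr hl
      rw [h, finrank_bot] at hrr
      omega
    obtain ⟨x, hx, hx0⟩ := Submodule.exists_mem_ne_zero_of_ne_bot hne
    obtain ⟨P, hP⟩ := Infinite.exists_notMem_finset (C - D + FunFld.div k x).support
    have hP0 := Finsupp.notMem_support_iff.mp hP
    refine ⟨D + Finsupp.single P 1, add_nonneg h0 (Finsupp.single_nonneg.mpr zero_le_one), ?_, ?_⟩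
    · rw [Groth.FunFld1.deg_add, Groth.FunFld1.deg_single, deg_eq_one_of_isAlgClosed hF P, hd]
      simp
    · have hrr' := Groth.FunFld1.riemann_roch hK hC (D + Finsupp.single P 1)
      have hlt : ell (C - (D + Finsupp.single P 1)) < ell (C - D) := by
        haveI : FiniteDimensional k (L (C - D)) := hF.finiteDimensional_L _
        refine Submodule.finrank_lt_finrank_of_lt
          (lt_of_le_of_ne (Groth.FunFld1.L_mono (sub_le_sub_left
            (le_add_of_nonneg_right (Finsupp.single_nonneg.mpr zero_le_one)) C)) fun he => ?_)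
        have hx' : x ∈ L (C - (D + Finsupp.single P 1)) := he.symm ▸ hx
        have h1 := ((hF.mem_L_iff hx0).mp hx') P
        rw [sub_add_eq_sub_sub, sub_add_eq_add_sub, Finsupp.sub_apply, Finsupp.single_eq_same,
          hP0] at h1
        simp at h1
      have hge : ell D ≤ ell (D + Finsupp.single P 1) :=
        ell_mono hF (le_add_of_nonneg_right (Finsupp.single_nonneg.mpr zero_le_one))
      rw [Groth.FunFld1.deg_add, Groth.FunFld1.deg_single, deg_eq_one_of_isAlgClosed hF P] at hrr'
      omega

end Groth.CurveBridge
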