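import Groth.Agent.CurveBridge.Cohomology
import Groth.Agent.EulerDeg.Coherent
import Groth.Agent.KTheory.LocFree
import Groth.Agent.LocFree.Basic

/-!
Invertible submodules of invertible modules on integral proper curves: degree, `h⁰`, `h¹`.
-/

set_option linter.style.haveILetI false
set_option linter.unusedSectionVars false

universe u

open CategoryTheory AlgebraicGeometry Opposite TopologicalSpace
open Groth.PicAux

namespace Groth.CurveBridge

theorem isCoh_of_isInvertible {X : Scheme.{u}} {L : X.Modules} (hL : PicF.IsInvertible L) :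
    Coh.IsCoh L :=
  Groth.KTheory.LocFree.isCoh
    (Groth.LocFree.isFinLocFree_of_rank (Groth.LocFree.isInvertible_iff_ofRank_one.1 hL))

variable {X : Scheme.{u}} [IsIntegral X] {M L : X.Modules} (ι : M ⟶ L) [Mono ι]

theorem app_injective_of_mono (U : X.Opens) : Function.Injective (ι.app U) :=
  (TopCat.Presheaf.app_injective_iff_stalkFunctor_map_injective
      (F := (⟨M.presheaf, M.isSheaf⟩ : TopCat.Sheaf Ab.{u} X)) (G := L.presheaf)
      ((Scheme.Modules.toPresheaf X).map ι)).mp ((Groth.QCohMod.mono_iff_stalk ι).mp inferInstance) U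

/-- A mono of invertible modules is surjective on the generic stalk. -/
theorem coker_generic_eq_zero (hM : PicF.IsInvertible M) (hL : PicF.IsInvertible L)
    (q : (Limits.cokernel ι).presheaf.stalk (genericPoint X)) : q = 0 := by
  have hsurj : Function.Surjective ((Groth.QCohMod.stalk (genericPoint X)).map (Limits.cokernel.π ι)) :=
    (Groth.QCohMod.epi_iff_stalk _).mp inferInstance _
  obtain ⟨g, rfl⟩ := hsurj q
  obtain ⟨W, hW, m, rfl⟩ := Groth.QCohMod.exists_germ L (genericPoint X) g
  obtain ⟨UM, eM, hUM, heM⟩ := (isInvertible_iff_exists_gen M).1 hM (genericPoint X)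
  obtain ⟨UL, eL, hUL, heL⟩ := (isInvertible_iff_exists_gen L).1 hL (genericPoint X)
  let U : X.Opens := UM ⊓ UL
  have hU : genericPoint X ∈ U := ⟨hUM, hUL⟩
  obtain ⟨a, ha⟩ := heL.exists_coeff (inf_le_right : U ≤ UL) (ι.app U (res M inf_le_left eM))
  have ha0 : a ≠ 0 := by
    intro h0
    have h9 : res M (inf_le_left : U ≤ UM) eM = 0 :=
      app_injective_of_mono ι U (by rw [ha, h0, zero_smul, map_zero])
    have h1 : (1 : Γ(X, U)) = 0 := (heM.res (inf_le_left : U ≤ UM)).smul_inj le_rfl
      (by rw [one_smul, zero_smul, res_self, h9])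
    have := congrArg (X.presheaf.germ U (genericPoint X) hU) h1
    rw [map_one, map_zero] at this
    exact one_ne_zero this
  let V : X.Opens := X.basicOpen a
  have hV : genericPoint X ∈ V := by
    rw [Scheme.mem_basicOpen X a _ hU]
    refine (IsUnit.mk0 (show X.functionField from X.presheaf.germ U _ hU a) fun h0 => ha0 ?_)
    exact germ_injective_of_isIntegral X (U := U) (genericPoint X) hU (by rw [map_zero]; exact h0)
  have hVU : V ≤ U := X.basicOpen_le a
  have hau : IsUnit (resX X hVU a) := RingedSpace.isUnit_res_basicOpen X.toRingedSpace a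
  obtain ⟨c, hc⟩ := heL.exists_coeff (inf_le_right.trans (hVU.trans inf_le_right) : W ⊓ V ≤ UL)
    (res L (inf_le_left : W ⊓ V ≤ W) m)
  obtain ⟨b, hb⟩ := (hau.map (X.presheaf.map (homOfLE (inf_le_right : W ⊓ V ≤ V)).op).hom).exists_left_inv
  have hm : res L (inf_le_left : W ⊓ V ≤ W) m =
      ι.app (W ⊓ V) ((c * b) • res M (inf_le_right.trans (hVU.trans inf_le_left)) eM) := by
    have h1 := congrArg (res L (inf_le_right.trans hVU : W ⊓ V ≤ U)) ha
    rw [← app_res, res_smul, res_res, res_res] at h1
    rw [Scheme.Modules.Hom.app_smul, h1, smul_smul, hc]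
    congr 1
    have hb' : b * resX X (inf_le_right.trans hVU : W ⊓ V ≤ U) a = 1 := by
      rw [← resX_resX hVU (inf_le_right : W ⊓ V ≤ V)]; exact hb
    rw [mul_assoc, hb', mul_one]
  rw [← germ_res' L (inf_le_left : W ⊓ V ≤ W) _ ⟨hW, hV⟩ m, hm, Groth.QCohMod.stalk_map_germ]
  have h2 := congrArg (fun ψ : M ⟶ Limits.cokernel ι => ψ.app (W ⊓ V)
    ((c * b) • res M (inf_le_right.trans (hVU.trans inf_le_left)) eM)) (Limits.cokernel.condition ι)
  refine Eq.trans (congrArg _ h2) ?_
  exact map_zero _

variable (k : Type u) [Field k] [X.Over (Spec (CommRingCat.of k))]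
  [IsProper (X ↘ Spec (CommRingCat.of k))] (hdim : topologicalKrullDim X = 1)
include hdim

theorem coker_closed_support (hM : PicF.IsInvertible M) (hL : PicF.IsInvertible L) (x : X)
    (hx : ¬ IsClosed ({x} : Set X)) :
    Limits.IsZero ((Groth.EulerDeg.stalkAb (X := X.toTopCat) x).obj (Coh.toAb (Limits.cokernel ι))) := by
  have he : x = genericPoint X := by
    by_contra hne
    exact hx ((isClosed_singleton_iff X hdim x).mpr hne)
  subst he
  haveI : Subsingleton ((Limits.cokernel ι).presheaf.stalk (genericPoint X)) :=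
    ⟨fun a b => (coker_generic_eq_zero ι hM hL a).trans (coker_generic_eq_zero ι hM hL b).symm⟩
  exact @AddCommGrpCat.isZero_of_subsingleton _
    ‹Subsingleton ((Limits.cokernel ι).presheaf.stalk (genericPoint X))›

/-- The numerics of an invertible submodule. -/
theorem sub_numerics (hM : PicF.IsInvertible M) (hL : PicF.IsInvertible L) :
    ∃ d : ℕ, Curv2.deg k X L 1 = Curv2.deg k X M 1 + d ∧
      Module.finrank k (Coh.HH X M 0) ≤ Module.finrank k (Coh.HH X L 0) ∧
      Module.finrank k (Coh.HH X L 0) ≤ Module.finrank k (Coh.HH X M 0) + d ∧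
      Module.finrank k (Coh.HH X L 1) ≤ Module.finrank k (Coh.HH X M 1) ∧
      (d = 0 → IsIso ι) := by
  haveI : IsNoetherian X := Groth.EulerDeg.isNoetherian_of_proper k X
  haveI : NoetherianSpace X.toTopCat := (inferInstance : NoetherianSpace X)
  haveI : QuasiSober X.toTopCat := (inferInstance : QuasiSober X)
  let S : ShortComplex X.Modules :=
    ShortComplex.mk ι (Limits.cokernel.π ι) (Limits.cokernel.condition ι)
  have hS : S.ShortExact := { exact := ShortComplex.exact_cokernel ι }
  have hfM := Groth.EulerDeg.finCoh k X (isCoh_of_isInvertible hM)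
  have hfL := Groth.EulerDeg.finCoh k X (isCoh_of_isInvertible hL)
  have hfQ : Groth.EulerDeg.FinCoh k (Limits.cokernel ι) := Groth.EulerDeg.FinCoh.right hS hfM hfL
  have hQ1 : ∀ n, Subsingleton (Coh.HH X (Limits.cokernel ι) (n + 1)) := fun n =>
    Groth.EulerDeg.subsingleton_H_succ_of_closed_support (X := X.toTopCat)
      (Coh.toAb (Limits.cokernel ι)) (coker_closed_support ι hdim hM hL) n
  haveI := hQ1 0
  haveI : Module.Finite k (Coh.HH X S.X₁ 0) := hfM.finite 0
  haveI : Module.Finite k (Coh.HH X S.X₁ 1) := hfM.finite 1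
  haveI : Module.Finite k (Coh.HH X S.X₂ 0) := hfL.finite 0
  haveI : Module.Finite k (Coh.HH X S.X₂ 1) := hfL.finite 1
  haveI : Module.Finite k (Coh.HH X S.X₃ 0) := hfQ.finite 0
  refine ⟨Module.finrank k (Coh.HH X (Limits.cokernel ι) 0), ?_,
    LinearMap.finrank_le_finrank_of_injective (Groth.EulerDeg.injective_zero k hS), ?_, ?_, ?_⟩
  · have h := Groth.EulerDeg.deg_add hS hfM hfQ 1 0
    rw [show (S.X₂ : X.Modules) = L from rfl, show (S.X₁ : X.Modules) = M from rfl,
      show (S.X₃ : X.Modules) = Limits.cokernel ι from rfl] at h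
    rw [show (1 : ℕ) + 0 = 1 from rfl] at h
    rw [h]
    unfold Curv2.deg
    rw [Groth.EulerDeg.euler_eq_sub (M := Limits.cokernel ι) fun n hn => by
      obtain ⟨m, rfl⟩ : ∃ m, n = m + 1 := ⟨n - 1, by omega⟩
      exact hQ1 m, Groth.EulerDeg.finrank_eq_zero_of_subsingleton (hQ1 0)]
    simp
  · have h := (Groth.EulerDeg.hMap k S.g 0).finrank_range_add_finrank_ker
    rw [LinearMap.exact_iff.mp (Groth.EulerDeg.exact_mid k hS 0)] at h
    have h1 := Submodule.finrank_le (LinearMap.range (Groth.EulerDeg.hMap k S.g 0))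
    have h2 := LinearMap.finrank_range_le (Groth.EulerDeg.hMap k S.f 0)
    have hb : Module.finrank k (Coh.HH X S.X₂ 0) ≤
        Module.finrank k (Coh.HH X S.X₁ 0) + Module.finrank k (Coh.HH X S.X₃ 0) := by omega
    exact hb
  · refine LinearMap.finrank_le_finrank_of_surjective (f := Groth.EulerDeg.hMap k S.f 1) ?_
    intro y
    exact ((Groth.EulerDeg.exact_mid k hS 1) y).mp (Subsingleton.elim _ _)
  · intro h0
    haveI : Subsingleton (Coh.HH X S.X₃ 0) := Module.finrank_zero_iff.mp h0
    haveI : Subsingleton Γ(Limits.cokernel ι, ⊤) :=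
      @Function.Injective.subsingleton _ _ _
        (sec0 (k := k) (Limits.cokernel ι)).symm.injective ‹Subsingleton (Coh.HH X S.X₃ 0)›
    have hfl := Groth.EulerDeg.isFlasque_of_closed_support (X := X.toTopCat)
      (Coh.toAb (Limits.cokernel ι)) (coker_closed_support ι hdim hM hL)
    have hz : ∀ x : X, Function.Surjective ((Groth.QCohMod.stalk x).map ι) := by
      intro x g
      have hex : ((ShortComplex.mk ι (Limits.cokernel.π ι) (Limits.cokernel.condition ι)).map
          (Groth.QCohMod.stalk x)).Exact :=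
        (ShortComplex.exact_cokernel ι).map (Groth.QCohMod.stalk x)
      rw [ShortComplex.ab_exact_iff] at hex
      refine hex g ?_
      obtain ⟨W, hW, m, rfl⟩ := Groth.QCohMod.exists_germ L x g
      change (Groth.QCohMod.stalk x).map (Limits.cokernel.π ι) _ = 0
      rw [Groth.QCohMod.stalk_map_germ]
      obtain ⟨t, ht⟩ := (AddCommGrpCat.epi_iff_surjective _).mp
        (hfl.epi (U := op (⊤ : X.Opens)) (V := op W) (homOfLE le_top).op)
        ((Limits.cokernel.π ι).app W m)
      have ht0 : t = 0 := Subsingleton.elim (α := Γ(Limits.cokernel ι, ⊤)) _ _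
      rw [← ht, ht0, map_zero]
      exact map_zero _
    haveI : Epi ι := (Groth.QCohMod.epi_iff_stalk ι).mpr hz
    exact isIso_of_mono_of_epi ι

include ι in
theorem deg_le_of_mono (hM : PicF.IsInvertible M) (hL : PicF.IsInvertible L) :
    Curv2.deg k X M 1 ≤ Curv2.deg k X L 1 := by
  obtain ⟨d, h, -⟩ := sub_numerics ι k hdim hM hL
  omega

include ι in
theorem deg_lt_of_mono (hM : PicF.IsInvertible M) (hL : PicF.IsInvertible L) (hι : ¬ IsIso ι) :
    Curv2.deg k X M 1 < Curv2.deg k X L 1 := by
  obtain ⟨d, h, -, -, -, hd⟩ := sub_numerics ι k hdim hM hL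
  rcases Nat.eq_zero_or_pos d with h0 | h0
  · exact absurd (hd h0) hι
  · omega

end Groth.CurveBridge
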