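import Groth.Agent.CurveBridge.Linear
import Groth.Agent.CurveBridge.Clifford
import Groth.Agent.CurveBridge.SubLine
import Groth.Agent.EulerDeg.LineBundle
import Groth.Agent.PicAux.Powers

/-!
Numerical characterisation of canonical modules, global generation by degree.
-/

set_option linter.style.haveILetI false
set_option linter.unusedSectionVars false

universe u

open CategoryTheory AlgebraicGeometry Opposite TopologicalSpace WithZero

namespace Groth.CurveBridge

variable {k : Type u} [Field k] {X : Scheme.{u}} [X.Over (Spec (CommRingCat.of k))] [IsIntegral X]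
  [IsProper (X ↘ Spec (CommRingCat.of k))] (h : IsRegCurve X)
include h

variable (hK : FunFld.IsFunctionField k X.functionField)
include hK

theorem isCanonical_of_numerics {L : X.Modules} {D : FunFld.Divisor k X.functionField}
    (h0 : Module.finrank k (Coh.HH X L 0) = FunFld.ell D) (hd : Curv2.deg k X L 1 = D.deg)
    (hg : Module.finrank k (Coh.HH X L 0) = Curv2.genus k X)
    (hdeg : Curv2.deg k X L 1 = 2 * (Curv2.genus k X : ℤ) - 2) :
    FunFld.IsCanonical k X.functionField D := by
  rw [Groth.FunFld1.isCanonical_iff hK, ← genus_eq h hK]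
  exact ⟨h0.symm.trans hg, hd.symm.trans hdeg⟩

/-- An invertible module with the numerics of the canonical one is unique. -/
theorem nonempty_iso_of_canonical_numerics {L M : X.Modules} (hL : PicF.IsInvertible L)
    (hM : PicF.IsInvertible M) (hLg : Curv2.genus k X ≤ Module.finrank k (Coh.HH X L 0))
    (hLd : Curv2.deg k X L 1 = 2 * (Curv2.genus k X : ℤ) - 2)
    (hMg : Curv2.genus k X ≤ Module.finrank k (Coh.HH X M 0))
    (hMd : Curv2.deg k X M 1 = 2 * (Curv2.genus k X : ℤ) - 2) : Nonempty (L ≅ M) := by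
  have hF := Groth.FunFld1.IsFF.of_isFunctionField hK
  obtain ⟨C, hC⟩ := Groth.FunFld1.exists_isCanonical hK
  obtain ⟨hCl, hCd⟩ := (Groth.FunFld1.isCanonical_iff hK C).mp hC
  have key : ∀ {N : X.Modules}, PicF.IsInvertible N → Curv2.genus k X ≤ Module.finrank k (Coh.HH X N 0) →
      Curv2.deg k X N 1 = 2 * (Curv2.genus k X : ℤ) - 2 →
      ∃ (φ : N ⟶ constK X) (D : FunFld.Divisor k X.functionField) (y : X.functionField),
        IsDivEmb h φ D ∧ y ≠ 0 ∧ D + FunFld.div k y = C := by
    intro N hN hg hd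
    obtain ⟨φ, D, hφ, h0, hdD, -⟩ := exists_divEmb h hK hN
    rw [h0, genus_eq h hK] at hg
    rw [hdD, genus_eq h hK] at hd
    have hrr := Groth.FunFld1.riemann_roch hK hC D
    have hne : FunFld.L (C - D) ≠ ⊥ := fun hb => by
      unfold FunFld.ell at hrr hg
      rw [hb, finrank_bot] at hrr
      omega
    obtain ⟨x, hx, hxD⟩ := Groth.FunFld1.exists_eq_neg_div hK hne
      (by rw [Groth.FunFld1.deg_sub, hCd, hd, sub_self])
    refine ⟨φ, D, x⁻¹, hφ, inv_ne_zero hx, ?_⟩
    rw [sub_add_eq_add_sub, sub_eq_zero] at hxD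
    rw [hF.div_inv, ← hxD]
    abel
  obtain ⟨φ, D, y, hφ, hy, hDy⟩ := key hL hLg hLd
  obtain ⟨ψ, E, z, hψ, hz, hEz⟩ := key hM hMg hMd
  refine nonempty_iso_of_linEquiv h hK hL hM hφ hψ (mul_ne_zero hy (inv_ne_zero hz)) ?_
  rw [hF.div_mul hy (inv_ne_zero hz), hF.div_inv, ← add_assoc, hDy, ← hEz]
  abel

/-- Degree at least `2g` gives global generation. -/
theorem isGloballyGenerated_of_deg_ge (hP : ∀ P : FunFld.Place k X.functionField, P.deg = 1)
    {L : X.Modules} (hL : PicF.IsInvertible L)
    (hd : 2 * (Curv2.genus k X : ℤ) ≤ Curv2.deg k X L 1) : Curv2.IsGloballyGenerated L := by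
  obtain ⟨φ, D, hφ, -, hdD, -⟩ := exists_divEmb h hK hL
  refine isGloballyGenerated_of_no_base h hK hL hφ fun P => ?_
  rw [hdD, genus_eq h hK] at hd
  have h1 := Groth.FunFld1.ell_eq_of_deg_ge hK (D := D) (by omega)
  have h2 : (D - Finsupp.single P 1).deg = D.deg - 1 := by
    rw [Groth.FunFld1.deg_sub, Groth.FunFld1.deg_single, hP P]; simp
  have h3 := Groth.FunFld1.ell_eq_of_deg_ge hK (D := D - Finsupp.single P 1) (by omega)
  omega

/-- A module with canonical numerics is globally generated when the genus is positive. -/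
theorem isGloballyGenerated_of_canonical (hP : ∀ P : FunFld.Place k X.functionField, P.deg = 1)
    (hg : 1 ≤ Curv2.genus k X) {L : X.Modules} (hL : PicF.IsInvertible L)
    (hh : Module.finrank k (Coh.HH X L 0) = Curv2.genus k X)
    (hdeg : Curv2.deg k X L 1 = 2 * (Curv2.genus k X : ℤ) - 2) : Curv2.IsGloballyGenerated L := by
  obtain ⟨φ, D, hφ, h0, hdD, -⟩ := exists_divEmb h hK hL
  have hC := isCanonical_of_numerics h hK h0 hdD hh hdeg
  refine isGloballyGenerated_of_no_base h hK hL hφ fun P => ?_
  rw [genus_eq h hK] at hg hh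
  have h1 := Groth.FunFld1.ell_single_one_eq_one hK (by omega) (hP P)
  have h2 := Groth.FunFld1.riemann_roch hK hC (Finsupp.single P 1)
  rw [Groth.FunFld1.deg_single, hP P, h1] at h2
  rw [← h0, hh]
  omega

omit hK in
/-- The differentials are globally generated in positive genus. -/
theorem omega_isGloballyGenerated [IsAlgClosed k] [Smooth (X ↘ Spec (CommRingCat.of k))]
    (hg : 1 ≤ Curv2.genus k X) :
    Curv2.IsGloballyGenerated (Omega.sheaf (X ↘ Spec (CommRingCat.of k))) := by
  have hK := isFunctionField (k := k) (X := X) h.dim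
  obtain ⟨h0, -, hd⟩ := omega_numerics (k := k) (X := X) h
  exact isGloballyGenerated_of_canonical h hK
    (fun P => Groth.FunFld1.deg_eq_one_of_isAlgClosed (isFF k X h.dim) P) hg
    (isInvertible_omega hK) h0 hd

end Groth.CurveBridge

namespace Groth.CurveBridge

open Groth.PicAux

variable {k : Type u} [Field k] {X : Scheme.{u}} [X.Over (Spec (CommRingCat.of k))]

/-- A nonzero global section of an invertible module gives a mono from the structure sheaf. -/
theorem exists_mono_of_nontrivial (k : Type u) [Field k] [X.Over (Spec (CommRingCat.of k))]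
    [IsIntegral X] {N : X.Modules} (hN : PicF.IsInvertible N)
    (h : Nontrivial (Coh.HH X N 0)) : ∃ s : Coh.structureModule X ⟶ N, Mono s := by
  haveI := h
  obtain ⟨x, hx⟩ := exists_ne (0 : Coh.HH X N 0)
  refine ⟨homOfSection (sec0 (k := k) N x), Groth.EulerDeg.mono_of_ne_zero
    (Groth.EulerDeg.isInvertible_structureModule X) hN fun h0 => hx ?_⟩
  refine (sec0 (k := k) N).injective ?_
  rw [map_zero, ← homOfSection_one (sec0 (k := k) N x), h0]
  rfl

/-- A mono `O → N ⊗ M` with `L ⊗ M ≅ O` gives a mono `L → N`. -/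
theorem exists_mono_of_section_tensor {L M N : X.Modules} (hLM : ClSub.IsInverseOf L M)
    (s : Coh.structureModule X ⟶ CohB1.tensorMod N M) [Mono s] : ∃ ι : L ⟶ N, Mono ι := by
  haveI := isEquivalence_tensorRightMod hLM
  let a : L ≅ CohB1.tensorMod (Coh.structureModule X) L := (exists_leftUnitor L).choose.symm
  let b : CohB1.tensorMod (CohB1.tensorMod N M) L ≅ N :=
    (exists_associator N M L).choose ≪≫
      PicGrp.tensorModIso (Iso.refl N) (isInverseOf_symm hLM).some ≪≫ SecTwist.unitorR N
  let m : CohB1.tensorMod (Coh.structureModule X) L ⟶ CohB1.tensorMod (CohB1.tensorMod N M) L :=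
    (DCoh.tensorRightMod L).map s
  haveI : Mono m := inferInstanceAs (Mono ((DCoh.tensorRightMod L).map s))
  exact ⟨a.hom ≫ m ≫ b.hom, inferInstance⟩

variable [IsIntegral X] [IsProper (X ↘ Spec (CommRingCat.of k))] (h : IsRegCurve X)
include h

/-- Clifford for a module mapping into the differentials. -/
theorem clifford_of_le_omega [IsAlgClosed k] [Smooth (X ↘ Spec (CommRingCat.of k))] {L : X.Modules}
    (hL : PicF.IsInvertible L) (hs : Nontrivial (Coh.HH X L 0))
    (ι : L ⟶ Omega.sheaf (X ↘ Spec (CommRingCat.of k))) [Mono ι] :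
    2 * (Module.finrank k (Coh.HH X L 0) : ℤ) ≤ Curv2.deg k X L 1 + 2 := by
  have hK := isFunctionField (k := k) (X := X) h.dim
  have hF := Groth.FunFld1.IsFF.of_isFunctionField hK
  obtain ⟨d, -, -, -, h1le, -⟩ := sub_numerics ι k h.dim hL (isInvertible_omega hK)
  rw [(omega_numerics (k := k) (X := X) h).2.1] at h1le
  obtain ⟨φ, D, -, h0, hdD, h1⟩ := exists_divEmb h hK hL
  obtain ⟨C, hC⟩ := Groth.FunFld1.exists_isCanonical hK
  have hrr := Groth.FunFld1.riemann_roch hK hC D
  rw [genus_eq h hK] at h1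
  have hne : FunFld.L (C - D) ≠ ⊥ := fun hb => by
    unfold FunFld.ell at hrr h1
    rw [hb, finrank_bot] at hrr
    omega
  have hne1 : FunFld.L D ≠ ⊥ := fun hb => by
    haveI := hs
    haveI : Module.Finite k (Coh.HH X L 0) := finite_h h hK hL 0
    have := Module.finrank_pos (R := k) (M := Coh.HH X L 0)
    unfold FunFld.ell at h0
    rw [hb, finrank_bot] at h0
    omega
  have := clifford hK hC hne1 hne
  rw [h0, hdD]
  exact this

end Groth.CurveBridge
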