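import Groth.Agent.CurveBridge.DoubleCover

/-!
The double cover of the line attached to a pencil of degree two.
-/

set_option linter.style.haveILetI false
set_option linter.unusedSectionVars false

universe u

open CategoryTheory AlgebraicGeometry Opposite TopologicalSpace WithZero
open Groth.PicAux Groth.Chow Groth.FunFld1 Groth.PropsBasic.Ample

namespace Groth.CurveBridge.DoubleCover

variable (k : Type u) [Field k] (X : Scheme.{u}) [X.Over (Spec (CommRingCat.of k))] [IsIntegral X]
  [IsProper (X ↘ Spec (CommRingCat.of k))] [Smooth (X ↘ Spec (CommRingCat.of k))]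
  (hdim : topologicalKrullDim X = 1)
  (h0 : Module.finrank k (Coh.HH X (Coh.structureModule X) 0) = 1)
  (hg : 1 ≤ Curv2.genus k X)
include hdim h0 hg

/-- A degree two divisor with two independent functions has no base places. -/
theorem ell_sub_lt {D : FunFld.Divisor k X.functionField} (hd : D.deg = 2) (hl : FunFld.ell D = 2)
    (P : FunFld.Place k X.functionField) : FunFld.ell (D - Finsupp.single P 1) < FunFld.ell D := by
  have h : IsRegCurve X := isRegCurve_of_smooth k X hdim
  have hK := isFunctionField_field k X hdim h0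
  have hF := isFF k X hdim
  have hPpos := hF.deg_pos P
  have hdP : (D - Finsupp.single P (1 : ℤ)).deg = 2 - P.deg := by
    rw [Groth.FunFld1.deg_sub, Groth.FunFld1.deg_single, hd]; simp
  suffices hle : FunFld.ell (D - Finsupp.single P (1 : ℤ)) ≤ 1 by omega
  set E := D - Finsupp.single P (1 : ℤ) with hE
  by_cases hb : FunFld.L E = ⊥
  · unfold FunFld.ell
    rw [hb, finrank_bot]
    omega
  obtain ⟨x, hx, hxE⟩ := hF.exists_effective_of_ne_bot hb
  have hdE : (E + FunFld.div k x).deg = 2 - P.deg := by
    rw [Groth.FunFld1.deg_add, hF.deg_div, add_zero, hdP]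
  rcases le_or_gt (2 : ℤ) P.deg with hP2 | hP2
  · have h1 := Groth.FunFld1.ell_le_deg_add_one hK hxE
    rw [hF.ell_add_div _ hx, hdE] at h1
    omega
  · obtain ⟨M, hM, m0, md, -⟩ := exists_invertible_numerics h hK E
    have h1 := finrank_h0_le_deg_field k X hdim h0 hM hg (by rw [md, hdP]; omega)
    rw [m0, md, hdP] at h1
    omega

omit hdim h0 hg in
theorem surjective_stalkSpecializes {Y : Scheme.{u}} {y y' : Y} (e : y = y') :
    Function.Surjective (Y.presheaf.stalkSpecializes (specializes_of_eq e)).hom := by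
  subst e
  rw [TopCat.Presheaf.stalkSpecializes_refl]
  exact Function.surjective_id

omit hdim h0 hg in
/-- The residue field of the line at the image of the generic point is its function field. -/
theorem isSeparable_functionField (f : X ⟶ CohB1.ProjSpace 1 k)
    (hf : f (genericPoint X) = genericPoint ↥(CohB1.ProjSpace 1 k))
    (hsep : letI := (f.residueFieldMap (genericPoint X)).hom.toAlgebra
      Algebra.IsSeparable ((CohB1.ProjSpace 1 k).residueField (f (genericPoint X)))
        (X.residueField (genericPoint X))) :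
    letI := (((CohB1.ProjSpace 1 k).presheaf.stalkSpecializes (specializes_of_eq hf) ≫
      f.stalkMap (genericPoint X)).hom).toAlgebra
    Algebra.IsSeparable (CohB1.ProjSpace 1 k).functionField X.functionField := by
  letI := (f.residueFieldMap (genericPoint X)).hom.toAlgebra
  letI := (((CohB1.ProjSpace 1 k).presheaf.stalkSpecializes (specializes_of_eq hf) ≫
      f.stalkMap (genericPoint X)).hom).toAlgebra
  let ψ : (CohB1.ProjSpace 1 k).functionField →+*
      (CohB1.ProjSpace 1 k).residueField (f (genericPoint X)) :=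
    ((CohB1.ProjSpace 1 k).residue (f (genericPoint X))).hom.comp
      ((CohB1.ProjSpace 1 k).presheaf.stalkSpecializes (specializes_of_eq hf)).hom
  have hψ : Function.Bijective ψ :=
    ⟨ψ.injective, ((CohB1.ProjSpace 1 k).residue_surjective _).comp
      (surjective_stalkSpecializes hf)⟩
  refine (Algebra.IsSeparable.iff_of_equiv_equiv (RingEquiv.ofBijective ψ hψ) (ToLine.genEquiv X) ?_).mpr hsep
  refine RingHom.ext fun a => ?_
  exact ConcreteCategory.congr_hom (Scheme.residue_residueFieldMap f (genericPoint X))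
    (((CohB1.ProjSpace 1 k).presheaf.stalkSpecializes (specializes_of_eq hf)).hom a)

/-- A pencil of degree two is a separable double cover of the line. -/
theorem exists_double_cover {L : X.Modules} (hL : PicF.IsInvertible L)
    (hd : Curv2.deg k X L 1 = 2) (hl : Module.finrank k (Coh.HH X L 0) = 2) :
    ∃ f : X ⟶ CohB1.ProjSpace 1 k, f ≫ CohB1.ProjSpace.toSpec 1 k = X ↘ Spec (CommRingCat.of k) ∧
      IsFinite f ∧ Flat f ∧ f.residueDegree (genericPoint X) = 2 ∧
      (∀ y : ↥(CohB1.ProjSpace 1 k), Scheme.Hom.finrank f y = 2) ∧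
      (letI := (f.residueFieldMap (genericPoint X)).hom.toAlgebra
       Algebra.IsSeparable ((CohB1.ProjSpace 1 k).residueField (f (genericPoint X)))
         (X.residueField (genericPoint X))) ∧
      ∃ V : X.Opens, (V : Set X).Nonempty ∧ Etale (V.ι ≫ f) := by
  have h : IsRegCurve X := isRegCurve_of_smooth k X hdim
  have hK := isFunctionField_field k X hdim h0
  have hF := isFF k X hdim
  obtain ⟨φ, D, hφ, e0, ed, -⟩ := exists_divEmb h hK hL
  haveI := hφ.1
  rw [hd] at ed
  rw [hl] at e0
  haveI := hF.finiteDimensional_L D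
  let b := Module.finBasisOfFinrankEq k (FunFld.L D) (n := 2) e0.symm
  have hli : LinearIndependent k fun l => ((b l : FunFld.L D) : X.functionField) :=
    b.linearIndependent.map' _ (Submodule.ker_subtype _)
  obtain ⟨s, hs, -⟩ := exists_sections h hK hL hφ _ (fun l => (b l).2) hli
  have hU : ⨆ i, ToPn.U L s i = ⊤ := by
    refine eq_top_iff.mpr fun y _ => Opens.mem_iSup.mpr ?_
    have key : ∀ x : Pt X, ∃ l, x.1 ∈ ToPn.U L s l := fun x => by
      set P := placeAt (k := k) h x with hP
      obtain ⟨w, hw, hwP⟩ := exists_val_eq_of_ell_lt hF (ell_sub_lt k X hdim h0 hg ed.symm e0.symm P)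
      by_contra! hc
      have hlt : ∀ l, P.1 (b l : X.functionField) < exp (D P) := fun l => by
        refine lt_of_le_of_ne ((b l).2 P) fun he => hc l ((mem_gloc_iff h hφ hL (s l) x).mpr ?_)
        rw [hs l, ← hP]; exact he
      have he := congrArg Subtype.val (b.sum_repr ⟨w, hw⟩)
      rw [Submodule.coe_sum] at he
      change _ = w at he
      rw [← he] at hwP
      refine hwP.not_lt (Valuation.map_sum_lt _ exp_ne_zero fun l _ => ?_)
      rw [Submodule.coe_smul, Algebra.smul_def, map_mul]
      rcases eq_or_ne (b.repr ⟨w, hw⟩ l) 0 with hz | hz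
      · rw [hz, map_zero, map_zero, zero_mul]; exact exp_pos
      · rw [Groth.FunFld1.val_algebraMap P hz, one_mul]; exact hlt l
    by_cases hy : y = genericPoint X
    · obtain ⟨P⟩ := hF.nonempty_place
      obtain ⟨x, -⟩ := placeAt_surjective (k := k) h P
      obtain ⟨l, hl'⟩ := key x
      exact ⟨l, hy ▸ (genericPoint_specializes x.1).mem_open (ToPn.U L s l).2 hl'⟩
    · exact key ⟨y, (isClosed_singleton_iff X h.dim y).mpr hy⟩
  obtain ⟨f, hr⟩ := ToPn.exists_r (X ↘ Spec (CommRingCat.of k)) L s hU
  have hover := ToPn.r_toSpec hr hU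
  refine ⟨f, hover, ?_⟩
  have h0ne : zv φ (s 0) ≠ 0 := by rw [hs]; exact hli.ne_zero 0
  obtain ⟨hD, hchart⟩ := ratio_facts h hφ hL hU h0ne
  set t := zv φ (s 1) / zv φ (s 0) with ht
  have htr : Transcendental k t := fun halg => by
    obtain ⟨c, hc⟩ := hK.2 t halg
    have hne : (b 1 : X.functionField) = c • (b 0 : X.functionField) := by
      rw [Algebra.smul_def, hc, ht, hs 1, hs 0, div_mul_cancel₀ _ (hli.ne_zero 0)]
    have := Fintype.linearIndependent_iff.mp hli ![c, -1] (by
      rw [Fin.sum_univ_two]; simp [hne]) 1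
    simp at this
  have ht2 : Module.finrank (IntermediateField.adjoin k ({t} : Set X.functionField)) X.functionField = 2 := by
    have h1 := congrArg FunFld.Divisor.deg hD
    rw [Groth.FunFld1.deg_add, hF.deg_div, add_zero, hF.deg_poleDiv_eq htr, ← ed] at h1
    exact_mod_cast h1.symm
  have hη : genericPoint X ∈ ToPn.U L s 0 := generic_mem_gloc h hφ hL 0 h0ne hU
  have hgt : X.presheaf.germ (ToPn.U L s 0) (genericPoint X) hη (ToPn.c L s 0 1) = t := by
    rw [ht, zv_coord s (φ := φ) 0 1 hη, mul_div_assoc, div_self h0ne, mul_one]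
  have hrange := ToLine.range_eq_adjoin_of hU hr 0 1 (by decide) hη
  rw [hgt] at hrange
  obtain ⟨hdeg, hsiff⟩ := ToLine.coordinate_of_range f hrange
  rw [ht2] at hdeg
  have hsep := hsiff.mpr (separable_of_finrank_two k X hdim h0 hg ht2)
  haveI : LocallyOfFiniteType (CohB1.ProjSpace.toSpec 1 k) := inferInstance
  haveI : IsLocallyNoetherian (CohB1.ProjSpace 1 k) :=
    LocallyOfFiniteType.isLocallyNoetherian (CohB1.ProjSpace.toSpec 1 k)
  haveI : IsProper (f ≫ CohB1.ProjSpace.toSpec 1 k) := hover ▸ inferInstance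
  haveI : IsProper f := IsProper.of_comp f (CohB1.ProjSpace.toSpec 1 k)
  have hP1 : topologicalKrullDim ↥(CohB1.ProjSpace 1 k) = 1 := by
    rw [Groth.Variety2.PSpace.dim_projSpace]; rfl
  have hgen : f (genericPoint X) = genericPoint ↥(CohB1.ProjSpace 1 k) := by
    refine Groth.Curves1.CurveMor.map_genericPoint (CohB1.ProjSpace.toSpec 1 k) f hP1.le ?_
    by_contra hc
    rw [Set.not_nontrivial_iff] at hc
    have hall : ∀ x : Pt X, (placeAt (k := k) h x).1 t ≤ 1 := fun x => by
      refine (hchart x).mp ?_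
      have hx : f x.1 = f (genericPoint X) := hc ⟨_, rfl⟩ ⟨_, rfl⟩
      refine (ToPn.preimage_D hr hU 0).le ?_
      have := (ToPn.preimage_D hr hU 0).ge hη
      change f (genericPoint X) ∈ Proj.basicOpen _ _ at this
      change f x.1 ∈ Proj.basicOpen _ _
      rw [hx]
      exact this
    have hz : zeroDiv k t⁻¹ = 0 := Finsupp.ext fun P => by
      obtain ⟨x, rfl⟩ := placeAt_surjective (k := k) h P
      have := hall x
      rw [val_eq_exp_neg_ord _ (fun he : t = 0 => htr (he ▸ isAlgebraic_zero)), ← exp_zero, exp_le_exp] at this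
      rw [hF.zeroDiv_apply, ord_inv, Finsupp.zero_apply]
      omega
    have := hF.deg_poleDiv_eq htr
    rw [hz, ht2, Groth.FunFld1.deg_zero] at this
    omega
  haveI : LocallyQuasiFinite f := by
    refine Groth.Curves1.CurveMor.locallyQuasiFinite (X ↘ Spec (CommRingCat.of k))
      (CohB1.ProjSpace.toSpec 1 k) f hover hdim.le fun x hx => ?_
    rw [Groth.Curves1.CurveMor.eq_genericPoint_of_not_isClosed (X ↘ Spec (CommRingCat.of k)) hdim.le hx,
      hgen]
    exact Groth.Curves1.CurveMor.not_isClosed_genericPoint hP1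
  haveI hfin : IsFinite f := IsFinite.of_isProper_of_locallyQuasiFinite f
  haveI hflat : Flat f := Groth.Curves1.CurveMor.flat_of_dominant f hgen (fun y => by
    haveI := Groth.Duality.Pn.isRegularLocalRing_stalk 1 k y
    exact Groth.Calg1.isIntegrallyClosed_of_regular
      (Groth.Curves1.CurveMor.ringKrullDim_stalk_le_one hP1.le y)) hP1.le
  refine ⟨hfin, hflat, hdeg.symm, ?_, hsep, ?_⟩
  · haveI := Groth.Variety2.locallyOfFinitePresentation_of_noetherian f
    haveI : IsFinite (f ∣_ LefPen.chart 1 k 0) :=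
      IsZariskiLocalAtTarget.restrict (P := @IsFinite) inferInstance _
    haveI : Flat (f ∣_ LefPen.chart 1 k 0) :=
      IsZariskiLocalAtTarget.restrict (P := @Flat) inferInstance _
    obtain ⟨-, w, hw⟩ := Groth.Misc6.GenericDegree.finrank_eq_residueFieldMap f
      (Proj.isAffineOpen_basicOpen (CohB1.polyGrading 1 k) _ (ToPn.X_mem 0) one_pos) hgen
      ((ToPn.preimage_D hr hU 0).ge hη)
    rw [Scheme.Hom.finrank_of_isPullback _ _ _ _ (isPullback_morphismRestrict f _).flip] at hw
    intro y
    rw [(Scheme.Hom.isLocallyConstant_finrank f).apply_eq_of_isPreconnected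
      isPreconnected_univ (Set.mem_univ y) (Set.mem_univ _), hw]
    exact hdeg.symm
  · letI : (CohB1.ProjSpace 1 k).Over (Spec (CommRingCat.of k)) := ⟨CohB1.ProjSpace.toSpec 1 k⟩
    haveI : LocallyOfFiniteType (CohB1.ProjSpace 1 k ↘ Spec (CommRingCat.of k)) :=
      inferInstanceAs (LocallyOfFiniteType (CohB1.ProjSpace.toSpec 1 k))
    haveI : QuasiCompact (CohB1.ProjSpace 1 k ↘ Spec (CommRingCat.of k)) :=
      inferInstanceAs (QuasiCompact (CohB1.ProjSpace.toSpec 1 k))
    exact ((Groth.Agent.S7863.result k X (CohB1.ProjSpace 1 k) (hdim.trans hP1.symm) f hover hgen).2).mpr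
      (isSeparable_functionField k X f hgen hsep)

end Groth.CurveBridge.DoubleCover
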