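import Groth.Agent.Curves1.FrobTwist.Extend
import Groth.Agent.CurveBridge.PencilMap
import Groth.Agent.Misc6.GenericDegree

/-!
The subfield defined by a finite flat morphism of integral schemes.
-/

set_option linter.style.haveILetI false
set_option linter.unusedSectionVars false

universe u

open CategoryTheory CategoryTheory.Limits AlgebraicGeometry
open Groth.Curves1.FrobTwist

namespace Groth.CurveBridge.FieldRange

/-- The subfield as the image of the residue field. -/
theorem range_fieldMap {X Y : Scheme.{u}} [IsIntegral X] [IsIntegral Y] (f : X ⟶ Y)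
    (e : f (genericPoint X) = genericPoint Y) :
    Set.range (fieldMap f e) =
      Set.range ((ToLine.genEquiv X).symm.toRingHom.comp (f.residueFieldMap (genericPoint X)).hom) := by
  have key : ∀ b : Y.presheaf.stalk (f (genericPoint X)),
      (ToLine.genEquiv X).symm.toRingHom.comp (f.residueFieldMap (genericPoint X)).hom (Y.residue _ b) =
        (f.stalkMap (genericPoint X)).hom b := fun b =>
    (congrArg (ToLine.genEquiv X).symm
      (ConcreteCategory.congr_hom (Scheme.residue_residueFieldMap f (genericPoint X)) b)).trans
      ((ToLine.genEquiv X).symm_apply_apply _)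
  ext z
  constructor
  · rintro ⟨a, rfl⟩
    exact ⟨_, key _⟩
  · rintro ⟨w, rfl⟩
    obtain ⟨b, rfl⟩ := IsLocalRing.residue_surjective (R := Y.presheaf.stalk (f (genericPoint X))) w
    obtain ⟨a, rfl⟩ := DoubleCover.surjective_stalkSpecializes e b
    exact ⟨a, (key _).symm⟩

/-- A finite flat morphism keeps the generic point. -/
theorem map_generic_of_flat {X Y : Scheme.{u}} [IsIntegral X] [IsIntegral Y] (f : X ⟶ Y) [Flat f] :
    f (genericPoint X) = genericPoint Y := by
  obtain ⟨z, hz, hfz⟩ := Flat.generalizingMap f (genericPoint_specializes (f (genericPoint X)))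
  have hzη : z = genericPoint X := (hz.antisymm (genericPoint_specializes z)).eq
  subst hzη
  exact hfz

/-- The degree over the subfield of a finite flat morphism of constant rank. -/
theorem finrank_fieldRange {X Y : Scheme.{u}} [IsIntegral X] [IsIntegral Y] (f : X ⟶ Y) [IsFinite f] [Flat f]
    {n : ℕ} (hr : ∀ y : Y, Scheme.Hom.finrank f y = n) (e : f (genericPoint X) = genericPoint Y) :
    Module.finrank (fieldMap f e).fieldRange X.functionField = n := by
  obtain ⟨V, hV, hη, -⟩ := exists_isAffineOpen_mem_and_subset (x := f (genericPoint X)) (U := ⊤) trivial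
  haveI : IsFinite (f ∣_ V) := IsZariskiLocalAtTarget.restrict (P := @IsFinite) inferInstance _
  haveI : Flat (f ∣_ V) := IsZariskiLocalAtTarget.restrict (P := @Flat) inferInstance _
  obtain ⟨-, w, hw⟩ := Groth.Misc6.GenericDegree.finrank_eq_residueFieldMap f hV e hη
  rw [Scheme.Hom.finrank_of_isPullback _ _ _ _ (isPullback_morphismRestrict f _).flip, hr] at hw
  letI := (f.residueFieldMap (genericPoint X)).hom.toAlgebra
  let ι := (ToLine.genEquiv X).symm.toRingHom.comp (f.residueFieldMap (genericPoint X)).hom
  let e₀ : Y.residueField (f (genericPoint X)) ≃+* (fieldMap f e).fieldRange :=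
    RingEquiv.ofBijective (ι.codRestrict (fieldMap f e).fieldRange fun a => (range_fieldMap f e).ge ⟨a, rfl⟩)
      ⟨fun a b hab => ι.injective (congrArg Subtype.val hab), fun z => by
        obtain ⟨a, ha⟩ := (range_fieldMap f e).le z.2
        exact ⟨a, Subtype.ext ha⟩⟩
  have hc : (algebraMap (fieldMap f e).fieldRange X.functionField).comp e₀.toRingHom =
      (ToLine.genEquiv X).symm.toRingHom.comp (algebraMap _ (X.residueField (genericPoint X))) := rfl
  rw [← Algebra.finrank_eq_of_equiv_equiv e₀ (ToLine.genEquiv X).symm hc]
  exact hw.symm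

end Groth.CurveBridge.FieldRange
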