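import Groth.Agent.CurveBridge.Main
import Groth.Agent.PicAux.Cocycle
import Groth.Agent.Variety2.Normal

/-!
The invertible module of a divisor on a regular proper integral curve.
-/

set_option linter.style.haveILetI false
set_option linter.unusedSectionVars false

universe u

open CategoryTheory AlgebraicGeometry Opposite TopologicalSpace WithZero
open Groth.PicAux

namespace Groth.CurveBridge

variable {k : Type u} [Field k] {X : Scheme.{u}} [X.Over (Spec (CommRingCat.of k))] [IsIntegral X]
  [IsProper (X ↘ Spec (CommRingCat.of k))] (h : IsRegCurve X)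
include h

/-- A rational function without poles on an open is a section. -/
theorem exists_section_of_le_one (W : X.Opens) [Nonempty W] (z : X.functionField)
    (hz : ∀ y : Pt X, y.1 ∈ W → (placeAt (k := k) h y).1 z ≤ 1) :
    ∃ s : Γ(X, W), ∀ hW : genericPoint X ∈ W, X.presheaf.germ W (genericPoint X) hW s = z := by
  obtain ⟨s, hs⟩ := Groth.Variety2.exists_section_of_forall_stalk W z fun x hx => by
    by_cases hx' : x = genericPoint X
    · exact range_toFF_generic (X := X) x hx' z
    · exact (placeAt_le_one_iff (k := k) h ⟨x, (isClosed_singleton_iff X h.dim x).mpr hx'⟩ z).mp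
        (hz _ hx)
  exact ⟨s, fun _ => hs⟩

/-- Near a closed point some rational function has exactly the prescribed divisor. -/
theorem exists_local_equation (D : FunFld.Divisor k X.functionField) (x : Pt X) :
    ∃ (U : X.Opens) (f : X.functionField), x.1 ∈ U ∧ f ≠ 0 ∧
      ∀ y : Pt X, y.1 ∈ U → (placeAt (k := k) h y).1 f = exp (D (placeAt (k := k) h y)) := by
  classical
  have hF := isFF k X h.dim
  obtain ⟨f, hf⟩ := Groth.FunFld1.exists_val_eq_exp (placeAt (k := k) h x) (D (placeAt (k := k) h x))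
  have hf0 : f ≠ 0 := by
    intro h0
    rw [h0, map_zero] at hf
    exact exp_ne_zero hf.symm
  have hfin : ({P : FunFld.Place k X.functionField | P.ord f ≠ 0} ∪ (D.support : Set _)).Finite :=
    (hF.finite_support_ord f).union D.support.finite_toSet
  let T : Set X := Subtype.val '' ((placeAt (k := k) h ⁻¹' ({P : FunFld.Place k X.functionField |
    P.ord f ≠ 0} ∪ (D.support : Set _))) \ {x})
  have hTfin : T.Finite :=
    ((hfin.preimage (placeAt_injective (k := k) h).injOn).sdiff).image _
  have hTc : IsClosed T := by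
    rw [← Set.biUnion_of_singleton T]
    exact hTfin.isClosed_biUnion (by rintro _ ⟨y, -, rfl⟩; exact y.2)
  refine ⟨⟨Tᶜ, hTc.isOpen_compl⟩, f, ?_, hf0, fun y hy => ?_⟩
  · rintro ⟨y, hy, hyx⟩
    exact hy.2 (Subtype.ext hyx)
  · by_cases hyx : y = x
    · subst hyx; exact hf
    · have hn : placeAt (k := k) h y ∉ ({P : FunFld.Place k X.functionField | P.ord f ≠ 0} ∪
          (D.support : Set _)) := fun hm => hy ⟨y, ⟨hm, hyx⟩, rfl⟩
      rw [Set.mem_union, not_or, Set.mem_setOf_eq, not_not, Finset.mem_coe,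
        Finsupp.notMem_support_iff] at hn
      rw [Groth.FunFld1.val_eq_exp_neg_ord _ hf0, hn.1, hn.2, neg_zero]

/-- Every divisor comes from an invertible module. -/
theorem exists_invertible_embedding (D : FunFld.Divisor k X.functionField) :
    ∃ (L : X.Modules) (φ : L ⟶ constK X) (U₀ : X.Opens) (_ : genericPoint X ∈ U₀) (e₀ : Γ(L, U₀)),
      PicF.IsInvertible L ∧ φ.app U₀ e₀ = ksec U₀ 1 ∧ Mono φ ∧
      ∀ (x : Pt X) z, InStalk φ x.1 z ↔
        (placeAt (k := k) h x).1 z ≤ exp (D (placeAt (k := k) h x)) := by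
  classical
  choose U f hxU hf0 hf using exists_local_equation (k := k) h D
  let S : Set X := Subtype.val '' (placeAt (k := k) h ⁻¹' (D.support : Set _))
  have hSc : IsClosed S := by
    rw [← Set.biUnion_of_singleton S]
    exact ((D.support.finite_toSet.preimage (placeAt_injective (k := k) h).injOn).image _).isClosed_biUnion
      (by rintro _ ⟨y, -, rfl⟩; exact y.2)
  let V : Option (Pt X) → X.Opens := fun i => i.elim ⟨Sᶜ, hSc.isOpen_compl⟩ U
  let g : Option (Pt X) → X.functionField := fun i => i.elim 1 f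
  have hgen : genericPoint X ∈ (⟨Sᶜ, hSc.isOpen_compl⟩ : X.Opens) := by
    rintro ⟨y, -, hy⟩
    exact (isClosed_singleton_iff X h.dim _).mp y.2 hy
  have hV : ∀ i, genericPoint X ∈ V i := fun i => i.rec hgen fun x => generic_mem (U x) (hxU x)
  have hg0 : ∀ i, g i ≠ 0 := fun i => i.rec one_ne_zero hf0
  have hg : ∀ (i) (y : Pt X), y.1 ∈ V i →
      (placeAt (k := k) h y).1 (g i) = exp (D (placeAt (k := k) h y)) := by
    rintro (_ | x) y hy
    · change (placeAt (k := k) h y).1 1 = _
      rw [map_one, ← exp_zero]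
      congr 1
      by_contra hne
      exact hy ⟨y, Finsupp.mem_support_iff.mpr (Ne.symm hne), rfl⟩
    · exact hf x y hy
  have hcov : iSup V = ⊤ := eq_top_iff.mpr fun y _ => Opens.mem_iSup.mpr (by
    by_cases hy : y = genericPoint X
    · exact ⟨none, hy ▸ hgen⟩
    · exact ⟨some ⟨y, (isClosed_singleton_iff X h.dim y).mpr hy⟩, hxU _⟩)
  have hsec : ∀ i j, ∃ s : Γ(X, V i ⊓ V j), ∀ hW : genericPoint X ∈ V i ⊓ V j,
      X.presheaf.germ (V i ⊓ V j) (genericPoint X) hW s = g i / g j := fun i j => by
    haveI : Nonempty (V i ⊓ V j : X.Opens) := ⟨⟨_, hV i, hV j⟩⟩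
    refine exists_section_of_le_one (k := k) h _ _ fun y hy => ?_
    rw [map_div₀, hg i y hy.1, hg j y hy.2, div_self exp_ne_zero]
  choose η hη using hsec
  have hinj : ∀ (W : X.Opens) (hW : genericPoint X ∈ W),
      Function.Injective (X.presheaf.germ W (genericPoint X) hW) := fun W hW =>
    germ_injective_of_isIntegral X (U := W) (genericPoint X) hW
  have hunit : ∀ i j, IsUnit (η i j) := fun i j => by
    haveI : Nonempty (V i ⊓ V j : X.Opens) := ⟨⟨_, hV i, hV j⟩⟩
    obtain ⟨s, hs⟩ := exists_section_of_le_one (k := k) h (V i ⊓ V j) (g j / g i) fun y hy => by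
      rw [map_div₀, hg i y hy.1, hg j y hy.2, div_self exp_ne_zero]
    have hW : genericPoint X ∈ V i ⊓ V j := ⟨hV i, hV j⟩
    refine IsUnit.of_mul_eq_one s (hinj _ hW ?_)
    rw [map_mul, map_one, hη, hs, div_mul_div_comm, mul_comm (g j) (g i)]
    exact div_self (mul_ne_zero (hg0 i) (hg0 j))
  obtain ⟨L, s, hs, hL, hrel⟩ := exists_module_of_cocycle V η hcov hunit fun i j l => by
    have hW : genericPoint X ∈ V i ⊓ V j ⊓ V l := ⟨⟨hV i, hV j⟩, hV l⟩
    refine hinj _ hW ?_
    rw [map_mul, germ_resX', germ_resX', germ_resX', hη, hη, hη]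
    exact (div_mul_div_cancel₀ (hg0 j)).symm
  obtain ⟨φ, hφ⟩ := exists_hom_of_gen (M := constK X) hcov s hs (fun i => ksec (V i) (g i))
    fun i j r hr => by
      have e : r = η i j := (hs j).smul_inj inf_le_right (hr.symm.trans (hrel i j))
      have hW : genericPoint X ∈ V i ⊓ V j := ⟨hV i, hV j⟩
      rw [res_ksec, res_ksec, e, ksec_smul hW, hη]
      congr 1
      exact (div_mul_cancel₀ _ (hg0 j)).symm
  have happ : ∀ W : X.Opens, Function.Injective (φ.app W) := by
    intro W
    refine (injective_iff_map_eq_zero _).mpr fun m hm => ?_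
    refine res_ext (fun i => W ⊓ V i) (fun _ => inf_le_left) (le_iSup_inf hcov W) fun i => ?_
    obtain ⟨c, hc⟩ := (hs i).exists_coeff (inf_le_right : W ⊓ V i ≤ V i) (res L inf_le_left m)
    by_cases hW : genericPoint X ∈ W ⊓ V i
    · have h1 := congrArg (φ.app (W ⊓ V i)) hc
      rw [app_res, hm, res_zero, Scheme.Modules.Hom.app_smul, app_res, hφ, res_ksec] at h1
      have h2 := congrArg (kv hW) h1.symm
      rw [kv_smul, kv_ksec, map_zero, mul_eq_zero, or_iff_left (hg0 i)] at h2
      rw [hc, hinj _ hW (h2.trans (map_zero _).symm), zero_smul, res_zero]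
    · have hb : W ⊓ V i = ⊥ := by
        rw [← Opens.not_nonempty_iff_eq_bot]
        exact fun ⟨x, hx⟩ => hW (generic_mem _ hx)
      exact res_ext (ι := Empty) (fun e => e.elim) (fun e => e.elim) (hb.le.trans bot_le)
        (fun e => e.elim)
  haveI : Mono φ := by
    rw [Groth.QCohMod.mono_iff_stalk]
    intro x
    exact (TopCat.Presheaf.app_injective_iff_stalkFunctor_map_injective
      (F := (⟨L.presheaf, L.isSheaf⟩ : TopCat.Sheaf Ab.{u} X)) (G := (constK X).presheaf)
      ((Scheme.Modules.toPresheaf X).map φ)).mpr happ x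
  have hD : ∀ (x : Pt X) z, InStalk φ x.1 z ↔
      (placeAt (k := k) h x).1 z ≤ exp (D (placeAt (k := k) h x)) := fun x z => by
    have hx : x.1 ∈ V (some x) := hxU x
    rw [inStalk_iff_of_gen φ hx (hs (some x)), hφ, kv_ksec, ← hg (some x) x hx,
      ← div_le_one₀ (zero_lt_iff.mpr ((Valuation.ne_zero_iff _).mpr (hg0 (some x)))), ← map_div₀,
      placeAt_le_one_iff]
    exact exists_congr fun a => (eq_div_iff (hg0 (some x))).symm
  exact ⟨L, φ, _, hgen, s none, hL, hφ none, inferInstance, hD⟩

/-- Every divisor comes from an invertible module with the expected cohomology. -/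
theorem exists_invertible_of_divisor (D : FunFld.Divisor k X.functionField) :
    ∃ L : X.Modules, PicF.IsInvertible L ∧
      Nonempty (Coh.HH X L 0 ≃ₗ[k] FunFld.L D) ∧
      Nonempty ((↥(FunFld.adele k X.functionField) ⧸ FunFld.ADK D) ≃ₗ[k] Coh.HH X L 1) := by
  obtain ⟨L, φ, U₀, hU₀, e₀, hL, hφ, hm, hD⟩ := exists_invertible_embedding (k := k) h D
  exact ⟨L, hL, nonempty_h0_equiv φ h hU₀ hφ hD, nonempty_h1_equiv φ h hU₀ hφ hD⟩

variable (hK : FunFld.IsFunctionField k X.functionField)
include hK

/-- Riemann–Roch numerics of the module of a divisor. -/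
theorem exists_invertible_numerics (D : FunFld.Divisor k X.functionField) :
    ∃ L : X.Modules, PicF.IsInvertible L ∧ Module.finrank k (Coh.HH X L 0) = FunFld.ell D ∧
      Curv2.deg k X L 1 = D.deg ∧
      (Module.finrank k (Coh.HH X L 1) : ℤ) =
        (FunFld.ell D : ℤ) - (D.deg + 1 - Curv2.genus k X) := by
  obtain ⟨L, hL, ⟨e0⟩, ⟨e1⟩⟩ := exists_invertible_of_divisor (k := k) h D
  obtain ⟨-, hq⟩ := Groth.FunFld1.adele_quotient hK D
  rw [e1.finrank_eq, ← genus_eq h hK] at hq
  unfold Groth.FunFld1.delta at hq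
  have h0 : Module.finrank k (Coh.HH X L 0) = FunFld.ell D := e0.finrank_eq
  refine ⟨L, hL, h0, ?_, by linarith⟩
  unfold Curv2.deg
  rw [euler_structure h hK, Groth.EulerDeg.euler_eq_sub fun n hn => subsingleton_HH k h L hn, h0]
  push_cast
  linarith

end Groth.CurveBridge
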