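import Groth.Agent.CurveBridge.BaseChange
import Groth.Agent.FunFld1.Rational
import Groth.Agent.FunFld1.Frobenius

/-!
The function field over the algebraic closure is generated by the constants and the function field;
degree two subfields in positive genus give separable extensions.
-/

set_option linter.style.haveILetI false
set_option linter.unusedSectionVars false

universe u

open CategoryTheory CategoryTheory.Limits AlgebraicGeometry Opposite TopologicalSpace
open Groth.FunFld1


namespace Groth.CurveBridge.BarField

variable (k : Type u) [Field k] (X : Scheme.{u}) [X.Over (Spec (CommRingCat.of k))]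
  [IsIntegral X] [IsIntegral (Xb k X)]

theorem proj_genericPoint : proj k X (genericPoint (Xb k X)) = genericPoint X := by
  refine (IsGenericPoint.eq (S := (Set.univ : Set X)) ?_ (genericPoint_spec X))
  rw [isGenericPoint_def, Set.eq_univ_iff_forall]
  intro x
  obtain ⟨y, rfl⟩ := (proj k X).surjective x
  refine specializes_iff_mem_closure.mp ?_
  exact (Groth.PropsBasic2.generic_specializes y).map (proj k X).continuous

/-- The function field inside the function field over the closure. -/
noncomputable def incl : X.functionField →+* (Xb k X).functionField :=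
  ((proj k X).stalkMap (genericPoint (Xb k X))).hom.comp
    (X.presheaf.stalkSpecializes (specializes_of_eq (proj_genericPoint k X))).hom

theorem incl_germ {U : X.Opens} (hη : genericPoint X ∈ U) (a : Γ(X, U)) :
    incl k X (X.presheaf.germ U (genericPoint X) hη a) =
      (Xb k X).presheaf.germ (proj k X ⁻¹ᵁ U) (genericPoint (Xb k X))
        (by change proj k X _ ∈ U; rw [proj_genericPoint]; exact hη) ((proj k X).app U a) := by
  change ((proj k X).stalkMap _).hom ((X.presheaf.stalkSpecializes _).hom _) = _
  rw [TopCat.Presheaf.germ_stalkSpecializes_apply]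
  exact Scheme.Hom.germ_stalkMap_apply _ _ _ _ _

theorem incl_algebraMap (c : k) :
    incl k X (algebraMap k X.functionField c) =
      algebraMap (AlgebraicClosure k) (Xb k X).functionField (algebraMap k (AlgebraicClosure k) c) := by
  have hsq : Curv2.bcFst k X (AlgebraicClosure k) ≫ (X ↘ Spec (CommRingCat.of k)) =
      Curv2.bcSnd k X (AlgebraicClosure k) ≫
        Spec.map (CommRingCat.ofHom (algebraMap k (AlgebraicClosure k))) := pullback.condition
  refine (incl_germ k X (U := ⊤) trivial _).trans ?_
  change _ = (Xb k X).presheaf.germ ⊤ _ trivial _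
  congr 1
  have h1 := congrArg (fun φ : _ ⟶ Spec (CommRingCat.of k) => φ.appTop) hsq
  rw [Scheme.Hom.comp_appTop, Scheme.Hom.comp_appTop] at h1
  have h2 := ConcreteCategory.congr_hom h1 ((Scheme.ΓSpecIso (CommRingCat.of k)).inv c)
  refine h2.trans ?_
  change (Curv2.bcSnd k X (AlgebraicClosure k)).appTop _ = (Curv2.bcSnd k X (AlgebraicClosure k)).appTop _
  congr 1
  exact (ConcreteCategory.congr_hom (Scheme.ΓSpecIso_inv_naturality
    (CommRingCat.ofHom (algebraMap k (AlgebraicClosure k)))) c).symm

/-- Constants and the function field generate. -/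
theorem adjoin_range_incl :
    IntermediateField.adjoin (AlgebraicClosure k) (Set.range (incl k X)) = ⊤ := by
  obtain ⟨U, hU, hηU, -⟩ := exists_isAffineOpen_mem_and_subset (x := genericPoint X) (U := ⊤) trivial
  set W := proj k X ⁻¹ᵁ U with hWdef
  haveI : IsAffine (U : Scheme.{u}) := hU
  haveI : IsAffineHom (proj k X) :=
    MorphismProperty.pullback_fst (P := @IsAffineHom) _ _ inferInstance
  have hW : IsAffineOpen W := hU.preimage (proj k X)
  have hηW : genericPoint (Xb k X) ∈ W := by
    change proj k X _ ∈ U; rw [proj_genericPoint]; exact hηU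
  have hηW' : genericPoint (Xb k X) ∈ W.ι ''ᵁ ⊤ := by rwa [Scheme.Opens.ι_image_top]
  let g : Γ(W.toScheme, ⊤) →+* (Xb k X).functionField :=
    ((Xb k X).presheaf.germ (W.ι ''ᵁ ⊤) (genericPoint (Xb k X)) hηW').hom
  set M := IntermediateField.adjoin (AlgebraicClosure k) (Set.range (incl k X))
  let S : Subring Γ(W.toScheme, ⊤) := M.toSubfield.toSubring.comap g
  have hP : IsPullback (proj k X ∣_ U) (W.ι ≫ Curv2.bcSnd k X (AlgebraicClosure k))
      (U.ι ≫ (X ↘ Spec (CommRingCat.of k)))
      (Spec.map (CommRingCat.ofHom (algebraMap k (AlgebraicClosure k)))) :=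
    (isPullback_morphismRestrict (proj k X) U).paste_vert (IsPullback.of_hasPullback _ _)
  have hpo := isPushout_appTop_of_isPullback hP
  have hηU' : genericPoint X ∈ U.ι ''ᵁ ⊤ := by rwa [Scheme.Opens.ι_image_top]
  have h1 : ∀ a, (proj k X ∣_ U).appTop a ∈ S := fun a => by
    refine IntermediateField.subset_adjoin _ _ ⟨X.presheaf.germ (U.ι ''ᵁ ⊤) (genericPoint X) hηU' a, ?_⟩
    rw [incl_germ]
    change _ = g _
    rw [morphismRestrict_appTop]
    exact (TopCat.Presheaf.germ_res_apply (Xb k X).presheaf _ _ hηW' _).symm
  have h2 : ∀ b, (W.ι ≫ Curv2.bcSnd k X (AlgebraicClosure k)).appTop b ∈ S := fun b => by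
    obtain ⟨c, rfl⟩ := (ConcreteCategory.bijective_of_isIso
      (Scheme.ΓSpecIso (CommRingCat.of (AlgebraicClosure k))).inv).2 b
    have e : g ((W.ι ≫ Curv2.bcSnd k X (AlgebraicClosure k)).appTop
        ((Scheme.ΓSpecIso (CommRingCat.of (AlgebraicClosure k))).inv c)) =
          algebraMap (AlgebraicClosure k) (Xb k X).functionField c := by
      rw [Scheme.Hom.comp_appTop, Scheme.Opens.ι_appTop]
      exact TopCat.Presheaf.germ_res_apply (Xb k X).presheaf _ _ hηW' _
    show g _ ∈ M
    rw [e]
    exact M.algebraMap_mem c
  let inc : CommRingCat.of S ⟶ Γ(W.toScheme, ⊤) := CommRingCat.ofHom S.subtype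
  let d : Γ(W.toScheme, ⊤) ⟶ CommRingCat.of S := hpo.desc
    (CommRingCat.ofHom ((proj k X ∣_ U).appTop.hom.codRestrict S h1))
    (CommRingCat.ofHom ((W.ι ≫ Curv2.bcSnd k X (AlgebraicClosure k)).appTop.hom.codRestrict S h2))
    (CommRingCat.hom_ext (RingHom.ext fun a => Subtype.ext (ConcreteCategory.congr_hom hpo.w a)))
  have hd : d ≫ inc = 𝟙 _ := hpo.hom_ext (by rw [hpo.inl_desc_assoc, Category.comp_id]; rfl)
    (by rw [hpo.inr_desc_assoc, Category.comp_id]; rfl)
  have hmem : ∀ z, g z ∈ M := fun z => by
    have := ConcreteCategory.congr_hom hd z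
    change inc (d z) = z at this
    rw [← this]
    exact (d z).2
  haveI : IsAffine (W : Scheme.{u}) := hW
  haveI : Nonempty (W.ι ''ᵁ ⊤ : (Xb k X).Opens) := ⟨⟨_, hηW'⟩⟩
  haveI := functionField_isFractionRing_of_isAffineOpen (Xb k X) (W.ι ''ᵁ ⊤)
    (by rw [Scheme.Opens.ι_image_top]; exact hW)
  refine eq_top_iff.mpr fun z _ => ?_
  obtain ⟨a, b, -, rfl⟩ := IsFractionRing.div_surjective (A := Γ(Xb k X, W.ι ''ᵁ ⊤)) z
  exact div_mem (hmem a) (hmem b)

end Groth.CurveBridge.BarField

namespace Groth.CurveBridge

variable (k : Type u) [Field k] (X : Scheme.{u}) [X.Over (Spec (CommRingCat.of k))]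
  [IsIntegral X] [IsProper (X ↘ Spec (CommRingCat.of k))] [Smooth (X ↘ Spec (CommRingCat.of k))]

/-- In positive genus every subfield of index two `k(t)` gives a separable extension. -/
theorem separable_of_finrank_two (hdim : topologicalKrullDim X = 1)
    (h0 : Module.finrank k (Coh.HH X (Coh.structureModule X) 0) = 1)
    (hg : 1 ≤ Curv2.genus k X) {t : X.functionField}
    (h2 : Module.finrank (IntermediateField.adjoin k ({t} : Set X.functionField)) X.functionField = 2) :
    Algebra.IsSeparable (IntermediateField.adjoin k ({t} : Set X.functionField)) X.functionField := by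
  set F := IntermediateField.adjoin k ({t} : Set X.functionField) with hFdef
  haveI : FiniteDimensional F X.functionField := Module.finite_of_finrank_pos (by omega)
  obtain ⟨y, hy⟩ : ∃ y, y ∉ F := by
    by_contra! hall
    have : F = ⊤ := eq_top_iff.mpr fun z _ => hall z
    rw [IntermediateField.finrank_eq_one_iff_eq_top.mpr this] at h2
    omega
  have hi : IsIntegral F y := IsIntegral.of_finite F y
  set m := minpoly F y with hm
  have htop : IntermediateField.adjoin F ({y} : Set X.functionField) = ⊤ := by
    refine IntermediateField.eq_of_le_of_finrank_eq le_top ?_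
    rw [IntermediateField.adjoin.finrank hi, IntermediateField.finrank_top', h2]
    refine le_antisymm ((minpoly.natDegree_le y).trans h2.le) ?_
    by_contra hlt
    obtain ⟨z, hz⟩ := minpoly.natDegree_eq_one_iff.mp
      (show (minpoly F y).natDegree = 1 by have := minpoly.natDegree_pos hi; omega)
    exact hy (hz ▸ z.2)
  have hd : m.natDegree = 2 := by
    rw [hm, ← IntermediateField.adjoin.finrank hi, htop, IntermediateField.finrank_top', h2]
  suffices hs : IsSeparable F y by
    rw [← IntermediateField.isSeparable_adjoin_simple_iff_isSeparable, htop] at hs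
    exact AlgEquiv.Algebra.isSeparable IntermediateField.topEquiv
  by_contra hns
  have hder : Polynomial.derivative m = 0 := by
    by_contra hne
    exact hns ((Polynomial.separable_iff_derivative_ne_zero (minpoly.irreducible hi)).mpr hne)
  have hc : (2 : F) = 0 ∧ m.coeff 1 = 0 := by
    have e0 := congrArg (fun p => Polynomial.coeff p 0) hder
    have e1 := congrArg (fun p => Polynomial.coeff p 1) hder
    have h22 : m.coeff 2 = 1 := hd ▸ (minpoly.monic hi).coeff_natDegree
    simp [Polynomial.coeff_derivative, h22] at e0 e1
    exact ⟨by linear_combination e1, e0⟩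
  have hy2 : y ^ 2 ∈ F := by
    have := minpoly.aeval F y
    rw [← hm, Polynomial.aeval_eq_sum_range, hd, Finset.sum_range_succ, Finset.sum_range_succ,
      Finset.sum_range_one, show m.coeff 2 = 1 from hd ▸ (minpoly.monic hi).coeff_natDegree, hc.2] at this
    simp only [Algebra.smul_def, map_one, map_zero, zero_mul, one_mul, pow_zero, mul_one, add_zero] at this
    rw [show y ^ 2 = -(algebraMap F X.functionField (m.coeff 0)) by linear_combination this]
    exact neg_mem (m.coeff 0).2
  -- over the algebraic closure
  have h2X : (2 : X.functionField) = 0 := by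
    have := congrArg (algebraMap F X.functionField) hc.1
    rwa [map_ofNat, map_zero] at this
  haveI := isIntegral_bar k X h0
  have h := isRegCurve_bar k X hdim
  have hKb := isFunctionField (k := AlgebraicClosure k) (X := Xb k X) h.dim
  rw [← genus_bc k X, genus_eq h hKb] at hg
  set T := BarField.incl k X t
  set Y := BarField.incl k X y
  set E := IntermediateField.adjoin (AlgebraicClosure k) ({T} : Set (Xb k X).functionField) with hE
  have hFE : ∀ z ∈ F, BarField.incl k X z ∈ E := fun z hz => by
    induction hz using IntermediateField.adjoin_induction with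
    | mem w hw => rw [Set.mem_singleton_iff] at hw; subst hw; exact IntermediateField.mem_adjoin_simple_self _ _
    | algebraMap c => rw [BarField.incl_algebraMap]; exact E.algebraMap_mem _
    | add a b _ _ ha hb => rw [map_add]; exact add_mem ha hb
    | mul a b _ _ ha hb => rw [map_mul]; exact mul_mem ha hb
    | inv a _ ha => rw [map_inv₀]; exact inv_mem ha
  have hY2 : Y ^ 2 ∈ E := map_pow (BarField.incl k X) y 2 ▸ hFE _ hy2
  have hYi : IsIntegral E Y :=
    ⟨Polynomial.X ^ 2 - Polynomial.C ⟨Y ^ 2, hY2⟩, Polynomial.monic_X_pow_sub_C _ two_ne_zero, by simp⟩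
  have hEY : IntermediateField.adjoin E ({Y} : Set (Xb k X).functionField) = ⊤ := by
    set M := IntermediateField.adjoin E ({Y} : Set (Xb k X).functionField)
    have hall : ∀ z, BarField.incl k X z ∈ M := fun z => by
      have hz : z ∈ IntermediateField.adjoin F ({y} : Set X.functionField) := htop ▸ IntermediateField.mem_top
      induction hz using IntermediateField.adjoin_induction with
      | mem w hw => rw [Set.mem_singleton_iff] at hw; subst hw; exact IntermediateField.mem_adjoin_simple_self _ _
      | algebraMap c => exact M.algebraMap_mem ⟨_, hFE _ c.2⟩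
      | add a b _ _ ha hb => rw [map_add]; exact add_mem ha hb
      | mul a b _ _ ha hb => rw [map_mul]; exact mul_mem ha hb
      | inv a _ ha => rw [map_inv₀]; exact inv_mem ha
    refine eq_top_iff.mpr fun z _ => ?_
    have hle : IntermediateField.adjoin (AlgebraicClosure k) (Set.range (BarField.incl k X)) ≤
        M.restrictScalars (AlgebraicClosure k) :=
      IntermediateField.adjoin_le_iff.mpr (by rintro _ ⟨w, rfl⟩; exact hall w)
    exact hle (BarField.adjoin_range_incl k X ▸ IntermediateField.mem_top)
  haveI hfinE : FiniteDimensional E (Xb k X).functionField := by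
    haveI := IntermediateField.adjoin.finiteDimensional hYi
    rw [hEY] at this
    exact Module.Finite.equiv IntermediateField.topEquiv.toLinearEquiv
  have hle2 : Module.finrank E (Xb k X).functionField ≤ 2 := by
    have := IntermediateField.adjoin.finrank hYi
    rw [hEY, IntermediateField.finrank_top'] at this
    rw [this]
    refine (Polynomial.natDegree_le_of_dvd (minpoly.dvd E Y (p := Polynomial.X ^ 2 - Polynomial.C ⟨Y ^ 2, hY2⟩)
      (by simp)) (Polynomial.monic_X_pow_sub_C _ two_ne_zero).ne_zero).trans ?_
    rw [Polynomial.natDegree_X_pow_sub_C]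
  have h2b : (2 : (Xb k X).functionField) = 0 := by
    have := congrArg (BarField.incl k X) h2X
    rwa [map_ofNat, map_zero] at this
  haveI : Fact (Nat.Prime 2) := ⟨Nat.prime_two⟩
  haveI : CharP (Xb k X).functionField 2 := CharTwo.of_one_ne_zero_of_two_eq_zero one_ne_zero h2b
  haveI : CharP (AlgebraicClosure k) 2 := (RingHom.charP_iff (algebraMap (AlgebraicClosure k)
    (Xb k X).functionField) (algebraMap (AlgebraicClosure k) (Xb k X).functionField).injective 2).mpr ‹_›
  have hF := IsFF.of_isFunctionField hKb
  have hgeo := isGeometric_of_perfectField hKb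
  have h22 := finrank_frobField 2 hF hgeo
  -- the subfield of squares lies in `E`
  have hle : frobField (AlgebraicClosure k) (Xb k X).functionField 2 ≤ E := by
    refine IntermediateField.adjoin_le_iff.mpr ?_
    rintro _ ⟨z, rfl⟩
    have hz : z ∈ IntermediateField.adjoin E ({Y} : Set (Xb k X).functionField) := hEY ▸ IntermediateField.mem_top
    show z ^ 2 ∈ E
    induction hz using IntermediateField.adjoin_induction with
    | mem w hw => rw [Set.mem_singleton_iff] at hw; subst hw; exact hY2
    | algebraMap c => exact pow_mem c.2 2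
    | add a b _ _ ha hb => rw [add_sq, h2b, zero_mul, zero_mul, add_zero]; exact add_mem ha hb
    | mul a b _ _ ha hb => rw [mul_pow]; exact mul_mem ha hb
    | inv a _ ha => rw [inv_pow]; exact inv_mem ha
  have hrat : ∃ s : (Xb k X).functionField,
      IntermediateField.adjoin (AlgebraicClosure k) ({s} : Set (Xb k X).functionField) = ⊤ := by
    by_cases hT : E = ⊤
    · exact ⟨T, hT⟩
    · -- `E` is the field of squares, so `T` is a square
      have hEeq : frobField (AlgebraicClosure k) (Xb k X).functionField 2 = E := by
        haveI : FiniteDimensional (frobField (AlgebraicClosure k) (Xb k X).functionField 2)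
          (Xb k X).functionField := Module.finite_of_finrank_pos (by omega)
        refine IntermediateField.eq_of_le_of_finrank_le' hle ?_
        have hne : Module.finrank E (Xb k X).functionField ≠ 1 := fun h1 =>
          hT (IntermediateField.finrank_eq_one_iff_eq_top.mp h1)
        have := Module.finrank_pos (R := E) (M := (Xb k X).functionField)
        omega
      have hsq : ∀ z ∈ frobField (AlgebraicClosure k) (Xb k X).functionField 2,
          ∃ w : (Xb k X).functionField, w ^ 2 = z := fun z hz => by
        induction hz using IntermediateField.adjoin_induction with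
        | mem w hw => obtain ⟨v, rfl⟩ := hw; exact ⟨v, rfl⟩
        | algebraMap c =>
          obtain ⟨d, hd⟩ := IsAlgClosed.exists_pow_nat_eq c (n := 2) two_pos
          exact ⟨algebraMap _ _ d, by rw [← map_pow, hd]⟩
        | add a b _ _ ha hb =>
          obtain ⟨a', rfl⟩ := ha; obtain ⟨b', rfl⟩ := hb
          exact ⟨a' + b', by rw [add_sq, h2b, zero_mul, zero_mul, add_zero]⟩
        | mul a b _ _ ha hb =>
          obtain ⟨a', rfl⟩ := ha; obtain ⟨b', rfl⟩ := hb
          exact ⟨a' * b', mul_pow _ _ _⟩
        | inv a _ ha => obtain ⟨a', rfl⟩ := ha; exact ⟨a'⁻¹, inv_pow _ _⟩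
      obtain ⟨s, hs⟩ := hsq T (hEeq ▸ IntermediateField.mem_adjoin_simple_self _ T)
      refine ⟨s, eq_top_iff.mpr fun z _ => ?_⟩
      set S := IntermediateField.adjoin (AlgebraicClosure k) ({s} : Set (Xb k X).functionField)
      -- `z²` is a rational function of `s²`, hence the square of one of `s`
      have key : ∀ w ∈ E, ∃ v ∈ S, v ^ 2 = w := fun w hw => by
        induction hw using IntermediateField.adjoin_induction with
        | mem w hw => rw [Set.mem_singleton_iff] at hw; subst hw; exact ⟨s, IntermediateField.mem_adjoin_simple_self _ _, hs⟩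
        | algebraMap c =>
          obtain ⟨d, hd⟩ := IsAlgClosed.exists_pow_nat_eq c (n := 2) two_pos
          exact ⟨algebraMap _ _ d, S.algebraMap_mem d, by rw [← map_pow, hd]⟩
        | add a b _ _ ha hb =>
          obtain ⟨a', ha', rfl⟩ := ha; obtain ⟨b', hb', rfl⟩ := hb
          exact ⟨a' + b', add_mem ha' hb', by rw [add_sq, h2b, zero_mul, zero_mul, add_zero]⟩
        | mul a b _ _ ha hb =>
          obtain ⟨a', ha', rfl⟩ := ha; obtain ⟨b', hb', rfl⟩ := hb
          exact ⟨a' * b', mul_mem ha' hb', mul_pow _ _ _⟩
        | inv a _ ha => obtain ⟨a', ha', rfl⟩ := ha; exact ⟨a'⁻¹, inv_mem ha', inv_pow _ _⟩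
      obtain ⟨v, hv, hvz⟩ := key (z ^ 2) (hle (pow_mem_frobField 2 z))
      exact frobenius_inj (Xb k X).functionField 2 (hvz.trans rfl : v ^ 2 = z ^ 2) ▸ hv
  obtain ⟨s, hs⟩ := hrat
  have := genus_eq_zero_of_rational hKb hs
  omega

end Groth.CurveBridge
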