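import Groth.Agent.FunFld1.Quadratic

/-!
Equations `y² + Q(t) y = P(t)` for separable double covers of the projective line.
-/

set_option linter.style.haveILetI false
set_option linter.unusedSectionVars false

open Polynomial WithZero FunFld Groth.FunFld1

namespace Groth.CurveBridge.DoubleModel

variable {k K : Type*} [Field k] [Field K] [Algebra k K] {t : K}

theorem aeval_mem (p : k[X]) : aeval t p ∈ IntermediateField.adjoin k ({t} : Set K) :=
  IntermediateField.algebra_adjoin_le_adjoin k _ (aeval_mem_adjoin_singleton k t)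

theorem poleMul_apply (hF : IsFF k K) (m : ℕ) (R : Place k K) :
    (m • zeroDiv k t⁻¹ : Divisor k K) R = m * max (-R.ord t) 0 := by
  rw [Finsupp.smul_apply, hF.zeroDiv_apply, ord_inv, nsmul_eq_mul]

theorem adjoin_eq_top (h2 : Module.finrank (IntermediateField.adjoin k ({t} : Set K)) K = 2) {y : K}
    (hy : y ∉ IntermediateField.adjoin k ({t} : Set K)) :
    IntermediateField.adjoin (IntermediateField.adjoin k ({t} : Set K)) ({y} : Set K) = ⊤ ∧
      (minpoly (IntermediateField.adjoin k ({t} : Set K)) y).natDegree = 2 ∧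
      IntermediateField.adjoin k ({t, y} : Set K) = ⊤ := by
  set F := IntermediateField.adjoin k ({t} : Set K)
  haveI : FiniteDimensional F K := Module.finite_of_finrank_pos (by omega)
  have hi : IsIntegral F y := IsIntegral.of_finite F y
  have hd : (minpoly F y).natDegree = 2 := by
    refine le_antisymm ((minpoly.natDegree_le y).trans h2.le) ?_
    by_contra hlt
    have h1 : (minpoly F y).natDegree = 1 := by
      have := minpoly.natDegree_pos hi
      omega
    obtain ⟨z, hz⟩ := minpoly.natDegree_eq_one_iff.mp h1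
    exact hy (hz ▸ z.2)
  have htop : IntermediateField.adjoin F ({y} : Set K) = ⊤ := by
    refine IntermediateField.eq_of_le_of_finrank_eq le_top ?_
    rw [IntermediateField.adjoin.finrank hi, hd, IntermediateField.finrank_top', h2]
  refine ⟨htop, hd, ?_⟩
  rw [Set.pair_comm, ← Set.union_singleton (a := y), ← IntermediateField.adjoin_adjoin_left, htop,
    IntermediateField.restrictScalars_top]

variable (hK : IsFunctionField k K) (ht : Transcendental k t)
  (h2 : Module.finrank (IntermediateField.adjoin k ({t} : Set K)) K = 2)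
include hK ht h2

theorem ell_poleMul {n : ℕ} (hn : genus k K ≤ n) :
    (ell (n • zeroDiv k t⁻¹ : Divisor k K) : ℤ) = 2 * n + 1 - genus k K := by
  have hF : IsFF k K := IsFF.of_isFunctionField hK
  have hd : (n • zeroDiv k t⁻¹ : Divisor k K).deg = 2 * n := by
    rw [Groth.FunFld1.deg_nsmul, hF.deg_poleDiv_eq ht, h2]
    push_cast; ring
  rw [Groth.FunFld1.ell_eq_of_deg_ge hK (by rw [hd]; omega), hd]

theorem mem_adjoin_of_mem_genus {z : K}
    (hz : z ∈ L (genus k K • zeroDiv k t⁻¹ : Divisor k K)) :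
    z ∈ IntermediateField.adjoin k ({t} : Set K) := by
  have hF : IsFF k K := IsFF.of_isFunctionField hK
  haveI := hF.finiteDimensional_L (genus k K • zeroDiv k t⁻¹ : Divisor k K)
  let f : degreeLT k (genus k K + 1) →ₗ[k] K :=
    (aeval t).toLinearMap.comp (degreeLT k (genus k K + 1)).subtype
  have hinj : Function.Injective f := fun a b hab =>
    Subtype.ext (transcendental_iff_injective.mp ht hab)
  have hle : LinearMap.range f ≤ L (genus k K • zeroDiv k t⁻¹ : Divisor k K) := by
    rintro _ ⟨⟨p, hp⟩, rfl⟩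
    refine (mem_L_adjoin_iff hF ht (aeval_mem p) _).mpr ⟨p, ?_, rfl⟩
    rw [mem_degreeLT] at hp
    rcases eq_or_ne p 0 with rfl | hp0
    · simp
    · rw [degree_eq_natDegree hp0, Nat.cast_lt] at hp; omega
  have heq := Submodule.eq_of_le_of_finrank_le hle (by
    have h3 := ell_poleMul hK ht h2 (le_refl (genus k K))
    rw [LinearMap.finrank_range_of_inj hinj, (degreeLTEquiv k _).finrank_eq, Module.finrank_fin_fun]
    unfold ell at h3
    omega)
  obtain ⟨⟨p, hp⟩, rfl⟩ := heq.ge hz
  exact aeval_mem p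

theorem exists_mem_notMem :
    ∃ y ∈ L ((genus k K + 1) • zeroDiv k t⁻¹ : Divisor k K),
      y ∉ IntermediateField.adjoin k ({t} : Set K) := by
  have hF : IsFF k K := IsFF.of_isFunctionField hK
  by_contra! hall
  have hle : L ((genus k K + 1) • zeroDiv k t⁻¹ : Divisor k K) ≤
      LinearMap.range ((aeval t).toLinearMap.comp (degreeLT k (genus k K + 2)).subtype) := by
    intro z hz
    obtain ⟨q, hq, rfl⟩ := (mem_L_adjoin_iff hF ht (hall z hz) _).mp hz
    refine ⟨⟨q, mem_degreeLT.mpr ?_⟩, rfl⟩
    exact (degree_le_natDegree).trans_lt (by exact_mod_cast Nat.lt_succ_of_le hq)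
  haveI : Module.Finite k (degreeLT k (genus k K + 2)) :=
    Module.Finite.equiv (degreeLTEquiv k _).symm
  have h1 := (Submodule.finrank_mono hle).trans (LinearMap.finrank_range_le _)
  have h3 := ell_poleMul hK ht h2 (n := genus k K + 1) (Nat.le_succ (genus k K))
  rw [(degreeLTEquiv k _).finrank_eq, Module.finrank_fin_fun] at h1
  unfold ell at h3
  omega

theorem degree_lower {y : K} (hy : y ∉ IntermediateField.adjoin k ({t} : Set K)) {P Q : k[X]}
    (he : y ^ 2 + aeval t Q * y = aeval t P) :
    2 * genus k K + 1 ≤ max (2 * Q.natDegree) P.natDegree := by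
  by_contra hlt
  have hQ : Q.natDegree ≤ genus k K := by omega
  have hP : P.natDegree ≤ 2 * genus k K := by omega
  have hF : IsFF k K := IsFF.of_isFunctionField hK
  apply hy
  refine mem_adjoin_of_mem_genus hK ht h2 fun R => ?_
  by_contra hbig
  rw [not_le] at hbig
  have h1 := (mem_L_adjoin_iff hF ht (aeval_mem Q) (genus k K)).mpr ⟨Q, hQ, rfl⟩ R
  have h3 := (mem_L_adjoin_iff hF ht (aeval_mem P) (2 * genus k K)).mpr ⟨P, hP, rfl⟩ R
  set e := (genus k K • zeroDiv k t⁻¹ : Divisor k K) R with he'
  have h2e : ((2 * genus k K) • zeroDiv k t⁻¹ : Divisor k K) R = e + e := by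
    rw [he', mul_nsmul', two_nsmul, Finsupp.add_apply]
  have hy0 : 0 < R.1 y := lt_of_le_of_lt zero_le hbig
  have hPy : R.1 (aeval t P) < R.1 (y ^ 2) := by
    rw [map_pow, pow_two]
    refine (h3.trans (by rw [h2e, exp_add])).trans_lt ?_
    exact (mul_lt_mul_of_pos_right hbig exp_pos).trans_le (mul_le_mul_right hbig.le _)
  have hQy : R.1 (aeval t Q * y) < R.1 (y ^ 2) := by
    rw [map_mul, map_pow, pow_two]
    exact mul_lt_mul_of_pos_right (h1.trans_lt hbig) hy0
  have hlt' := R.1.map_sub_lt hPy hQy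
  rw [show aeval t P - aeval t Q * y = y ^ 2 by linear_combination -he] at hlt'
  exact lt_irrefl _ hlt'

variable [Algebra.IsSeparable (IntermediateField.adjoin k ({t} : Set K)) K]

theorem exists_eqn : ∃ (y : K) (P Q : k[X]), y ∉ IntermediateField.adjoin k ({t} : Set K) ∧
    y ^ 2 + aeval t Q * y = aeval t P ∧ Q.natDegree ≤ genus k K + 1 ∧
      P.natDegree ≤ 2 * genus k K + 2 := by
  have hF : IsFF k K := IsFF.of_isFunctionField hK
  obtain ⟨y, hyL, hyF⟩ := exists_mem_notMem hK ht h2
  set F := IntermediateField.adjoin k ({t} : Set K) with hFdef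
  obtain ⟨htop, hd, -⟩ := adjoin_eq_top h2 hyF
  haveI : FiniteDimensional F K := Module.finite_of_finrank_pos (by omega)
  have hi : IsIntegral F y := IsIntegral.of_finite F y
  set m := minpoly F y with hm
  have hmon : m.Monic := minpoly.monic hi
  set a : F := m.coeff 1 with ha
  set b : F := m.coeff 0 with hb
  have hform : ∀ z : K, aeval z m = z ^ 2 + a * z + b := fun z => by
    rw [aeval_eq_sum_range, hd, Finset.sum_range_succ, Finset.sum_range_succ, Finset.sum_range_one,
      show m.coeff 2 = 1 from hd ▸ hmon.coeff_natDegree]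
    simp only [Algebra.smul_def, map_one]
    change (b : K) * z ^ 0 + (a : K) * z ^ 1 + 1 * z ^ 2 = _
    ring
  have hroot : y ^ 2 + a * y + b = 0 := (hform y).symm.trans (minpoly.aeval F y)
  let pb : PowerBasis F K := (IntermediateField.adjoin.powerBasis hi).map
    ((IntermediateField.equivOfEq htop).trans IntermediateField.topEquiv)
  have hgen : pb.gen = y := by simp [pb]
  have hroot' : aeval (-(a : K) - y) (minpoly F pb.gen) = 0 := by
    rw [hgen, ← hm, hform]
    linear_combination hroot
  let σ : K ≃ₐ[F] K := AlgEquiv.ofBijective (pb.lift (-(a : K) - y) hroot') (AlgHom.bijective _)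
  have hσ : σ y = -(a : K) - y :=
    (congrArg (pb.lift (-(a : K) - y) hroot') hgen.symm).trans (pb.lift_gen _ hroot')
  have hinv : σ y ∈ L ((genus k K + 1) • zeroDiv k t⁻¹ : Divisor k K) := by
    intro R
    have h1 := hyL (comapPlace σ R)
    rw [comapPlace_apply, poleMul_apply hF] at h1
    have hox : (comapPlace σ R).ord t = R.ord t := by
      unfold Place.ord
      rw [comapPlace_apply, show σ t = t from
        σ.commutes ⟨t, IntermediateField.mem_adjoin_simple_self k t⟩]
    rw [hox] at h1
    rw [poleMul_apply hF]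
    exact h1
  have haL : (a : K) ∈ L ((genus k K + 1) • zeroDiv k t⁻¹ : Divisor k K) := by
    rw [show (a : K) = -(y + σ y) by rw [hσ]; ring]
    exact neg_mem (add_mem hyL hinv)
  have hbL : (b : K) ∈ L ((2 * genus k K + 2) • zeroDiv k t⁻¹ : Divisor k K) := by
    rw [show (b : K) = y * σ y by rw [hσ]; linear_combination hroot]
    intro R
    rw [map_mul, show 2 * genus k K + 2 = (genus k K + 1) + (genus k K + 1) by ring, add_nsmul,
      Finsupp.add_apply, exp_add]
    exact mul_le_mul' (hyL R) (hinv R)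
  obtain ⟨Q, hQ, hQa⟩ := (mem_L_adjoin_iff hF ht a.2 _).mp haL
  obtain ⟨P, hP, hPb⟩ := (mem_L_adjoin_iff hF ht b.2 _).mp hbL
  refine ⟨y, -P, Q, hyF, ?_, hQ, by rwa [natDegree_neg]⟩
  rw [map_neg, ← hQa, ← hPb]
  linear_combination hroot

/-- The model of a separable double cover. -/
theorem exists_model : ∃ (y : K) (P Q : k[X]),
    IntermediateField.adjoin k ({t, y} : Set K) = ⊤ ∧ y ^ 2 + aeval t Q * y = aeval t P ∧
    2 * genus k K + 1 ≤ max (2 * Q.natDegree) P.natDegree ∧
    max (2 * Q.natDegree) P.natDegree ≤ 2 * genus k K + 2 ∧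
    ((2 : k) ≠ 0 → ∃ (y' : K) (P' : k[X]),
      IntermediateField.adjoin k ({t, y'} : Set K) = ⊤ ∧ y' ^ 2 = aeval t P' ∧
      2 * genus k K + 1 ≤ P'.natDegree ∧ P'.natDegree ≤ 2 * genus k K + 2) := by
  obtain ⟨y, P, Q, hy, he, hQ, hP⟩ := exists_eqn hK ht h2
  refine ⟨y, P, Q, (adjoin_eq_top h2 hy).2.2, he, degree_lower hK ht h2 hy he,
    max_le (by omega) hP, fun h2k => ?_⟩
  set Q₂ := Polynomial.C (2⁻¹ : k) * Q with hQ₂
  have h22 : 2 * aeval t Q₂ = aeval t Q := by
    rw [hQ₂, map_mul, aeval_C, ← mul_assoc, ← map_ofNat (algebraMap k K) 2, ← map_mul,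
      mul_inv_cancel₀ h2k, map_one, one_mul]
  have hy' : y + aeval t Q₂ ∉ IntermediateField.adjoin k ({t} : Set K) := fun hm =>
    hy (by simpa using sub_mem hm (aeval_mem (t := t) Q₂))
  have he' : (y + aeval t Q₂) ^ 2 = aeval t (P + Q₂ ^ 2) := by
    rw [map_add, map_pow]
    linear_combination he + y * h22
  have hlow := degree_lower hK ht h2 hy' (P := P + Q₂ ^ 2) (Q := 0)
    (by rw [map_zero, zero_mul, add_zero]; exact he')
  refine ⟨_, _, (adjoin_eq_top h2 hy').2.2, he', by simpa using hlow, ?_⟩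
  refine (natDegree_add_le _ _).trans (max_le hP ?_)
  rw [natDegree_pow]
  have : Q₂.natDegree ≤ Q.natDegree := natDegree_C_mul_le _ _
  omega

end Groth.CurveBridge.DoubleModel
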