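import Groth.Agent.CurveBridge.TensorNumerics
import Groth.Agent.EulerDeg.FiniteSupport
import Groth.Prelude.Def_LinSer

/-!
Linear series: dimension of spans, and uniqueness of the pencil of degree two.
-/

set_option linter.style.haveILetI false
set_option linter.unusedSectionVars false

universe u

open CategoryTheory AlgebraicGeometry Opposite TopologicalSpace WithZero

namespace Groth.CurveBridge

section LinIndep

variable {k : Type u} [Field k] {X : Scheme.{u}} [X.Over (Spec (CommRingCat.of k))]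

attribute [local instance] Groth.EulerDeg.secModule

theorem le_finrank_of_linIndep {L : X.Modules} [Module.Finite k (Coh.HH X L 0)] {n : ℕ}
    (s : Fin n → LinSer.Sect X L) (hs : LinSer.LinIndep k X L s) :
    n ≤ Module.finrank k (Coh.HH X L 0) := by
  let e := Groth.EulerDeg.h0Equiv k L
  haveI : Module.Finite k Γ(L, (⊤ : X.Opens)) := Module.Finite.equiv e
  let s' : Fin n → Γ(L, (⊤ : X.Opens)) := s
  have hli : LinearIndependent k s' := by
    rw [Fintype.linearIndependent_iff]
    intro c hc i
    refine congrFun (hs c ?_) i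
    refine Eq.trans (Finset.sum_congr rfl fun j _ => ?_) hc
    rw [Groth.EulerDeg.smul_sec]
    congr 1
    exact (Groth.PicAux.resX_self _ _).symm
  have := hli.fintype_card_le_finrank
  rw [Fintype.card_fin, ← e.finrank_eq] at this
  exact this

end LinIndep

section FunFld

open Groth.FunFld1 FunFld

variable {k K : Type*} [Field k] [Field K] [Algebra k K]

theorem exists_val_eq_of_ell_lt (hF : IsFF k K) {D : Divisor k K} {P : Place k K}
    (hb : ell (D - Finsupp.single P 1) < ell D) : ∃ z ∈ L D, P.1 z = exp (D P) := by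
  have hne : ¬ L D ≤ L (D - Finsupp.single P 1) := fun hle => by
    haveI := hF.finiteDimensional_L (D - Finsupp.single P 1)
    exact hb.not_ge (Submodule.finrank_mono hle)
  obtain ⟨z, hz, hzn⟩ := Set.not_subset.mp hne
  refine ⟨z, hz, le_antisymm (hz P) (not_lt.mp fun hlt => hzn fun Q => ?_)⟩
  by_cases hQ : P = Q
  · subst hQ
    rw [Finsupp.sub_apply, Finsupp.single_eq_same]
    rcases eq_or_ne (P.1 z) 0 with h0 | h0
    · rw [h0]; exact zero_le
    · rw [← exp_log h0, exp_lt_exp] at hlt
      rw [← exp_log h0, exp_le_exp]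
      omega
  · rw [Finsupp.sub_apply, Finsupp.single_eq_of_ne (Ne.symm hQ), sub_zero]
    exact hz Q

theorem span_one_pair (hK : IsFunctionField k K) {D : Divisor k K} (hD : 0 ≤ D) (h2 : ell D = 2)
    {x : K} (hx : x ∈ L D) (hxc : x ∉ Set.range (algebraMap k K)) :
    L D = Submodule.span k (Set.range ![1, x]) := by
  have hF : IsFF k K := IsFF.of_isFunctionField hK
  haveI := hF.finiteDimensional_L D
  have h1 : (1 : K) ∈ L D := Groth.FunFld1.L_mono hD (by
    rw [Groth.FunFld1.L_zero_eq hK]; exact Submodule.mem_one.mpr ⟨1, map_one _⟩)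
  have hli : LinearIndependent k ![1, x] := by
    rw [LinearIndependent.pair_iff]
    intro s t hst
    rcases eq_or_ne t 0 with ht | ht
    · subst ht
      simp only [zero_smul, add_zero, smul_eq_zero, one_ne_zero, or_false] at hst
      exact ⟨hst, rfl⟩
    · refine absurd ?_ hxc
      refine ⟨-s / t, ?_⟩
      have ht' : algebraMap k K t ≠ 0 := (map_ne_zero _).mpr ht
      rw [Algebra.smul_def, Algebra.smul_def, mul_one] at hst
      rw [map_div₀, map_neg, div_eq_iff ht']
      linear_combination -hst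
  symm
  refine Submodule.eq_of_le_of_finrank_le (Submodule.span_le.mpr ?_) ?_
  · rintro _ ⟨i, rfl⟩
    fin_cases i
    · exact h1
    · exact hx
  · rw [finrank_span_eq_card hli, Fintype.card_fin]
    exact h2.le

variable [IsAlgClosed k] (hK : IsFunctionField k K)
include hK

theorem ell_eq_two_of_deg_two {D : Divisor k K} (hg : 2 ≤ genus k K) (hd : D.deg = 2)
    (h2 : 2 ≤ ell D) : ell D = 2 := by
  rcases nonspecial_or_clifford hK (D := D) (by omega) with h | h <;> omega

theorem linEquiv_of_effective_g12 {D E : Divisor k K} (hg : 2 ≤ genus k K) (hD : 0 ≤ D)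
    (hE : 0 ≤ E) (hdD : D.deg = 2) (hdE : E.deg = 2) (hlD : 2 ≤ ell D) (hlE : 2 ≤ ell E) :
    ∃ w : K, w ≠ 0 ∧ D = E - FunFld.div k w := by
  have hF : IsFF k K := IsFF.of_isFunctionField hK
  have h2D := ell_eq_two_of_deg_two hK hg hdD hlD
  have h2E := ell_eq_two_of_deg_two hK hg hdE hlE
  obtain ⟨x, hx, hxc⟩ := exists_nonconst_mem hK hlD
  obtain ⟨y, hy, hyc⟩ := exists_nonconst_mem hK hlE
  haveI := hF.finiteDimensional_L (D + E)
  have h1D : (1 : K) ∈ L D := by
    rw [span_one_pair hK hD h2D hx hxc]; exact Submodule.subset_span ⟨0, rfl⟩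
  have h1E : (1 : K) ∈ L E := by
    rw [span_one_pair hK hE h2E hy hyc]; exact Submodule.subset_span ⟨0, rfl⟩
  have hmul : ∀ a ∈ L D, ∀ b ∈ L E, a * b ∈ L (D + E) := fun a ha b hb P => by
    rw [map_mul, Finsupp.add_apply, exp_add]
    exact mul_le_mul' (ha P) (hb P)
  have hle : ell (D + E) ≤ 3 := by
    rcases Nat.eq_zero_or_pos (ell (D + E)) with h | h
    · omega
    · have hd4 : (D + E).deg = 4 := by rw [Groth.FunFld1.deg_add, hdD, hdE]; rfl
      rcases nonspecial_or_clifford hK h with h' | h' <;> omega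
  let v : Fin 4 → ↥(L (D + E)) :=
    ![⟨1 * 1, hmul _ h1D _ h1E⟩, ⟨x * 1, hmul _ hx _ h1E⟩, ⟨1 * y, hmul _ h1D _ hy⟩,
      ⟨x * y, hmul _ hx _ hy⟩]
  have hdep : ¬ LinearIndependent k v := fun hli => by
    have := hli.fintype_card_le_finrank
    rw [Fintype.card_fin] at this
    unfold ell at hle
    omega
  obtain ⟨g, hg0, i, hi⟩ := Fintype.not_linearIndependent_iff.mp hdep
  have hrel : algebraMap k K (g 0) + algebraMap k K (g 1) * x +
      (algebraMap k K (g 2) + algebraMap k K (g 3) * x) * y = 0 := by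
    have := congrArg (fun z : ↥(L (D + E)) => (z : K)) hg0
    simp [v, Fin.sum_univ_four, Algebra.smul_def] at this
    linear_combination this
  have hzero : ∀ a b : k, algebraMap k K a + algebraMap k K b * x = 0 → a = 0 ∧ b = 0 := by
    intro a b hab
    rcases eq_or_ne b 0 with hb | hb
    · subst hb
      rw [map_zero, zero_mul, add_zero, map_eq_zero] at hab
      exact ⟨hab, rfl⟩
    · refine absurd ⟨-a / b, ?_⟩ hxc
      rw [map_div₀, map_neg, div_eq_iff ((map_ne_zero _).mpr hb)]
      linear_combination -hab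
  set w := algebraMap k K (g 2) + algebraMap k K (g 3) * x with hwdef
  have hw : w ≠ 0 := by
    intro h0
    obtain ⟨e2, e3⟩ := hzero _ _ h0
    obtain ⟨e0, e1⟩ := hzero (g 0) (g 1) (by rw [h0, zero_mul, add_zero] at hrel; exact hrel)
    apply hi
    fin_cases i <;> assumption
  have hcomb : ∀ a b : k, algebraMap k K a + algebraMap k K b * x ∈ L D := fun a b => by
    rw [← mul_one (algebraMap k K a), ← Algebra.smul_def, ← Algebra.smul_def]
    exact add_mem (Submodule.smul_mem _ _ h1D) (Submodule.smul_mem _ _ hx)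
  have hwy : w * y ∈ L D := by
    have e : w * y = -(algebraMap k K (g 0) + algebraMap k K (g 1) * x) := by
      linear_combination hrel
    rw [e]
    exact neg_mem (hcomb _ _)
  have hwE : ∀ z ∈ L E, w * z ∈ L D := by
    intro z hz
    rw [span_one_pair hK hE h2E hy hyc, Submodule.mem_span_range_iff_exists_fun] at hz
    obtain ⟨c, rfl⟩ := hz
    simp only [Fin.sum_univ_two, Matrix.cons_val_zero, Matrix.cons_val_one, mul_add, mul_smul_comm,
      mul_one]
    exact add_mem (Submodule.smul_mem _ _ (hcomb _ _)) (Submodule.smul_mem _ _ hwy)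
  refine ⟨w, hw, (Groth.FunFld1.eq_of_le_of_deg_eq hF (fun P => ?_) ?_).symm⟩
  · have hb : ell (E - Finsupp.single P 1) < ell E := by
      have hd1 : (E - Finsupp.single P 1).deg = 1 := by
        rw [Groth.FunFld1.deg_sub, Groth.FunFld1.deg_single, hdE, deg_eq_one_of_isAlgClosed hF P]
        rfl
      have := ell_le_deg_of_pos hK (D := E - Finsupp.single P 1) (by omega) (by omega)
      omega
    obtain ⟨z, hz, hzv⟩ := exists_val_eq_of_ell_lt hF hb
    have h3 := hwE z hz P
    rw [map_mul, hzv, Groth.FunFld1.val_eq_exp_neg_ord P hw, ← exp_add, exp_le_exp] at h3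
    rw [Finsupp.sub_apply, hF.div_apply]
    omega
  · rw [Groth.FunFld1.deg_sub, hF.deg_div, sub_zero, hdD, hdE]

/-- Any two pencils of degree two are linearly equivalent in genus at least two. -/
theorem linEquiv_of_g12 {D E : Divisor k K} (hg : 2 ≤ genus k K) (hdD : D.deg = 2)
    (hdE : E.deg = 2) (hlD : 2 ≤ ell D) (hlE : 2 ≤ ell E) :
    ∃ μ : K, μ ≠ 0 ∧ E = D + FunFld.div k μ := by
  have hF : IsFF k K := IsFF.of_isFunctionField hK
  have hne : ∀ F : Divisor k K, 2 ≤ ell F → L F ≠ ⊥ := fun F hF2 h => by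
    unfold ell at hF2
    rw [h, finrank_bot] at hF2
    omega
  obtain ⟨x, hx, hD⟩ := hF.exists_effective_of_ne_bot (hne D hlD)
  obtain ⟨y, hy, hE⟩ := hF.exists_effective_of_ne_bot (hne E hlE)
  obtain ⟨w, hw, he⟩ := linEquiv_of_effective_g12 hK hg hD hE
    (by rw [Groth.FunFld1.deg_add, hF.deg_div, hdD, add_zero])
    (by rw [Groth.FunFld1.deg_add, hF.deg_div, hdE, add_zero])
    (by rw [hF.ell_add_div D hx]; exact hlD) (by rw [hF.ell_add_div E hy]; exact hlE)
  refine ⟨x * w * y⁻¹, mul_ne_zero (mul_ne_zero hx hw) (inv_ne_zero hy), ?_⟩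
  rw [hF.div_mul (mul_ne_zero hx hw) (inv_ne_zero hy), hF.div_mul hx hw, hF.div_inv]
  rw [show D + (FunFld.div k x + FunFld.div k w + -FunFld.div k y) =
    (D + FunFld.div k x) + FunFld.div k w - FunFld.div k y by abel, he]
  abel

end FunFld

end Groth.CurveBridge
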