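import Groth.Agent.CurveBridge.VeryAmple
import Groth.Agent.CurveBridge.LinSeries

/-!
Linear series from divisors.
-/

set_option linter.style.haveILetI false
set_option linter.unusedSectionVars false

universe u

open CategoryTheory AlgebraicGeometry Opposite TopologicalSpace WithZero
open Groth.PicAux Groth.FunFld1

namespace Groth.CurveBridge

variable {k : Type u} [Field k] {X : Scheme.{u}} [X.Over (Spec (CommRingCat.of k))] [IsIntegral X]
  [IsProper (X ↘ Spec (CommRingCat.of k))] (h : IsRegCurve X)
  (hK : FunFld.IsFunctionField k X.functionField)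
include h hK

/-- Sections realising a family in `L(D)`, independent if the family is. -/
theorem exists_sections {L : X.Modules} (hL : PicF.IsInvertible L) {φ : L ⟶ constK X}
    {D : FunFld.Divisor k X.functionField} (hφ : IsDivEmb h φ D) {n : ℕ}
    (z : Fin n → X.functionField) (hz : ∀ l, z l ∈ FunFld.L D) (hli : LinearIndependent k z) :
    ∃ t : Fin n → LinSer.Sect X L, (∀ l, zv φ (t l) = z l) ∧ LinSer.LinIndep k X L t := by
  haveI := hφ.1
  have hsec : ∀ l, ∃ t : Γ(L, (⊤ : X.Opens)), zv φ t = z l := fun l => by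
    obtain ⟨t, ht⟩ := exists_section_of_inStalk φ ⊤ (z l) fun y _ => by
      by_cases hy : y = genericPoint X
      · subst hy; exact inStalk_generic φ hL _
      · exact (hφ.2 ⟨y, (isClosed_singleton_iff X h.dim y).mpr hy⟩ _).mpr ((hz l) _)
    exact ⟨t, ht trivial⟩
  choose t ht using hsec
  refine ⟨t, ht, fun c hc => funext fun i => ?_⟩
  refine (Fintype.linearIndependent_iff.mp hli) c ?_ i
  have h1 := congrArg (fun s => kv (show genericPoint X ∈ (⊤ : X.Opens) from trivial)
    (φ.app ⊤ (show Γ(L, (⊤ : X.Opens)) from s))) hc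
  refine Eq.trans ?_ (h1.trans (by erw [map_zero, map_zero]))
  erw [map_sum, map_sum]
  refine Finset.sum_congr rfl fun l _ => ?_
  erw [Scheme.Modules.Hom.app_smul, kv_smul]
  rw [Algebra.smul_def, ← ht l]
  rfl

/-- A linear series from a divisor with enough Riemann–Roch space. -/
theorem exists_linSer_of_divisor {d r : ℕ} {D : FunFld.Divisor k X.functionField}
    (hd : D.deg = d) (hr : r + 1 ≤ FunFld.ell D) :
    ∃ (N : X.Modules) (t : Fin (r + 1) → LinSer.Sect X N), LinSer.IsLinSer k X N d r t := by
  obtain ⟨N, φ, U₀, hU₀, e₀, hN, -, hm, hD⟩ := exists_invertible_embedding (k := k) h D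
  haveI := (isFF k X h.dim).finiteDimensional_L D
  let b := Module.finBasis k (FunFld.L D)
  have hli : LinearIndependent k fun l : Fin (r + 1) =>
      ((b (Fin.castLE hr l) : FunFld.L D) : X.functionField) :=
    (b.linearIndependent.map' _ (Submodule.ker_subtype _)).comp _ (Fin.castLE_injective hr)
  obtain ⟨t, -, ht⟩ := exists_sections h hK hN (φ := φ) ⟨hm, hD⟩ _ (fun l => (b _).2) hli
  exact ⟨N, t, hN, ((numerics_of_divEmb h hK hN (φ := φ) ⟨hm, hD⟩).2.1).trans (by rw [hd]), ht⟩

end Groth.CurveBridge
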