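import Groth.Agent.CurveBridge.BaseChange
import Groth.Agent.FunFld1.Rational

/-!
Rational points are the places of degree one; linear equivalence from isomorphisms.
-/

set_option linter.style.haveILetI false
set_option linter.unusedSectionVars false

universe u

open CategoryTheory AlgebraicGeometry Opposite TopologicalSpace
open Groth.FunFld1

namespace Groth.CurveBridge

variable {k : Type u} [Field k] {X : Scheme.{u}} [X.Over (Spec (CommRingCat.of k))] [IsIntegral X]

theorem bijective_resMap_iff [LocallyOfFiniteType (X ↘ Spec (CommRingCat.of k))] (h : IsRegCurve X)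
    (x : Pt X) : Function.Bijective (Curv2.resMap k X x.1) ↔ (placeAt (k := k) h x).deg = 1 := by
  set P := placeAt (k := k) h x with hP
  have key : ∀ (a : X.presheaf.stalk x.1) (c : k),
      Curv2.resMap k X x.1 c = X.residue x.1 a ↔
        P.1 (algebraMap (X.presheaf.stalk x.1) X.functionField a - algebraMap k X.functionField c) < 1 := by
    intro a c
    rw [← algebraMap_functionField k X x.1 c, ← map_sub, hP, placeAt_lt_one_iff]
    refine Iff.trans eq_comm ?_
    change IsLocalRing.residue _ a = IsLocalRing.residue _ (Curv2.stalkMap k X x.1 c) ↔ _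
    exact Ideal.Quotient.eq
  constructor
  · intro hb
    refine (finrank_eq_one_iff_of_nonzero' (K := k) (1 : IsLocalRing.ResidueField P.O) one_ne_zero).mpr
      fun w => ?_
    obtain ⟨⟨z, hz⟩, rfl⟩ := IsLocalRing.residue_surjective w
    obtain ⟨a, ha⟩ := (placeAt_le_one_iff h x z).mp hz
    obtain ⟨c, hc⟩ := hb.2 (X.residue x.1 a)
    refine ⟨c, ?_⟩
    have h1 := (key a c).mp hc
    rw [ha] at h1
    refine (Algebra.algebraMap_eq_smul_one c).symm.trans ?_
    rw [eq_comm, ← sub_eq_zero]
    exact (residue_eq_zero_iff P (⟨z, hz⟩ - algebraMap k P.O c)).mpr h1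
  · intro hd
    refine ⟨(Curv2.resMap k X x.1).injective, fun w => ?_⟩
    obtain ⟨a, rfl⟩ := IsLocalRing.residue_surjective (R := X.presheaf.stalk x.1) w
    obtain ⟨c, hc⟩ := exists_const_sub_lt_one hd
      ((placeAt_le_one_iff h x (algebraMap (X.presheaf.stalk x.1) X.functionField a)).mpr ⟨a, rfl⟩)
    exact ⟨c, (key a c).mpr hc⟩

variable [IsProper (X ↘ Spec (CommRingCat.of k))] (h : IsRegCurve X)
  (hK : FunFld.IsFunctionField k X.functionField)
include h hK

/-- Isomorphic modules have linearly equivalent divisors. -/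
theorem linEquiv_of_iso {L M : X.Modules} (hL : PicF.IsInvertible L) (hM : PicF.IsInvertible M)
    {φ : L ⟶ constK X} {ψ : M ⟶ constK X} {D E : FunFld.Divisor k X.functionField}
    (hφ : IsDivEmb h φ D) (hψ : IsDivEmb h ψ E) (e : L ≅ M) :
    ∃ μ : X.functionField, μ ≠ 0 ∧ E = D + FunFld.div k μ := by
  have hF := isFF k X h.dim
  obtain ⟨N, χ, U₀, hU₀, e₀, hN, -, hm, hD⟩ := exists_invertible_embedding (k := k) h (-E)
  obtain ⟨ω₁, hω₁⟩ := exists_divEmb_tensor h hL hN hφ (ψ := χ) ⟨hm, hD⟩
  obtain ⟨ω₂, hω₂⟩ := exists_divEmb_tensor h hM hN hψ (ψ := χ) ⟨hm, hD⟩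
  have n1 := numerics_of_divEmb h hK (Groth.PicAux.isInvertible_tensorMod hL hN) hω₁
  have n2 := numerics_of_divEmb h hK (Groth.PicAux.isInvertible_tensorMod hM hN) hω₂
  let e' : CohB1.tensorMod L N ≅ CohB1.tensorMod M N := PicGrp.tensorModIso e (Iso.refl N)
  have hell : FunFld.ell (D + -E) = FunFld.ell (E + -E) := by
    rw [← n1.1, ← n2.1]; exact Groth.EulerDeg.finrank_congr e' 0
  have hdeg : (D + -E).deg = (E + -E).deg := by
    rw [← n1.2.1, ← n2.2.1]; exact Groth.EulerDeg.deg_congr k e' 1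
  rw [add_neg_cancel, Groth.FunFld1.ell_zero_eq hK] at hell
  rw [add_neg_cancel, Groth.FunFld1.deg_zero] at hdeg
  have hne : FunFld.L (D + -E) ≠ ⊥ := fun hb => by
    unfold FunFld.ell at hell
    rw [hb, finrank_bot] at hell
    omega
  obtain ⟨μ, hμ, he⟩ := Groth.FunFld1.exists_eq_neg_div hK hne hdeg
  refine ⟨μ, hμ, sub_eq_zero.mp ?_⟩
  rw [← neg_eq_zero, ← he]
  abel

end Groth.CurveBridge
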