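import Groth.Agent.CurveBridge.ToLine
import Groth.Agent.CurveBridge.LinSeriesExists
import Groth.Agent.CurveBridge.BarField
import Groth.Agent.Curves1.CurveMor.Basic
import Groth.Agent.Curves1.CurveMor.Flat
import Groth.Agent.Curves1.RR.GenusZeroP1
import Groth.Agent.Calg1.SerreConditions
import Groth.Agent.Duality.PnStalk
import Groth.Agent.Misc6.GenericDegree
import Groth.Agent.S7863
import Groth.Agent.CurveBridge.DoubleModel
import Groth.Agent.CurveBridge.RatPoints
import Groth.Prelude.Def_LefPen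

/-!
Morphisms from curves to the line: the coordinate, its poles, and the morphism of a pencil.
-/

set_option linter.style.haveILetI false
set_option linter.unusedSectionVars false

universe u

open CategoryTheory AlgebraicGeometry Opposite TopologicalSpace WithZero
open Groth.PicAux Groth.Chow Groth.FunFld1 Groth.PropsBasic.Ample

namespace Groth.CurveBridge.DoubleCover

variable {k : Type u} [Field k] {X : Scheme.{u}} [X.Over (Spec (CommRingCat.of k))] [IsIntegral X]
  [IsProper (X ↘ Spec (CommRingCat.of k))] (h : IsRegCurve X)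
  {L : X.Modules} {φ : L ⟶ constK X} {D : FunFld.Divisor k X.functionField}
  {s : Fin (1 + 1) → ProjUP.Γm L}
include h

/-- Every invertible module embeds with a divisor. -/
theorem exists_divEmb_any {L : X.Modules} (hL : PicF.IsInvertible L) :
    ∃ (φ : L ⟶ constK X) (D : FunFld.Divisor k X.functionField), IsDivEmb h φ D := by
  obtain ⟨U, e, hU, he⟩ := (isInvertible_iff_exists_gen L).1 hL (genericPoint X)
  obtain ⟨φ, hmono, hφ⟩ := exists_embedding hL hU he
  obtain ⟨D, hD⟩ := exists_divisor (k := k) φ h hL hU he hφ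
  exact ⟨φ, D, hmono, hD⟩

/-- The generic point lies where a section with nonzero value generates. -/
theorem generic_mem_gloc (hφ : IsDivEmb h φ D) (hL : PicF.IsInvertible L) (i : Fin (1 + 1))
    (hi : zv φ (s i) ≠ 0) (hU : ⨆ l, ToPn.U L s l = ⊤) : genericPoint X ∈ ToPn.U L s i := by
  haveI := hφ.1
  obtain ⟨j, hj⟩ := Opens.mem_iSup.mp (hU.ge (Set.mem_univ (genericPoint X)))
  have hc := zv_coord s (φ := φ) j i hj
  have hm : genericPoint X ∈ X.basicOpen (ToPn.c L s j i) :=
    (X.mem_basicOpen _ _ hj).mpr (isUnit_iff_ne_zero.mpr fun h0 => hi (by rw [hc, h0, zero_mul]))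
  rw [← ToPn.U_inf] at hm
  exact hm.1

/-- Poles of the ratio of two generating sections. -/
theorem ratio_facts (hφ : IsDivEmb h φ D) (hL : PicF.IsInvertible L) (hU : ⨆ l, ToPn.U L s l = ⊤)
    (h0 : zv φ (s 0) ≠ 0) :
    D = zeroDiv k (zv φ (s 1) / zv φ (s 0))⁻¹ + FunFld.div k (zv φ (s 0))⁻¹ ∧
    ∀ x : Pt X, x.1 ∈ ToPn.U L s 0 ↔ (placeAt (k := k) h x).1 (zv φ (s 1) / zv φ (s 0)) ≤ 1 := by
  have hF := isFF k X h.dim
  have key : ∀ x : Pt X,
      (x.1 ∈ ToPn.U L s 0 → (placeAt (k := k) h x).1 (zv φ (s 1) / zv φ (s 0)) ≤ 1) ∧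
      (x.1 ∉ ToPn.U L s 0 → 1 < (placeAt (k := k) h x).1 (zv φ (s 1) / zv φ (s 0)) ∧
        (placeAt (k := k) h x).1 (zv φ (s 1)) = exp (D (placeAt (k := k) h x))) := by
    intro x
    set P := placeAt (k := k) h x
    have hpos : P.1 (zv φ (s 0)) ≠ 0 := (Valuation.ne_zero_iff _).mpr h0
    constructor
    · intro hx
      rw [map_div₀, mem_gloc_iff h hφ hL (s 0) x |>.mp hx, div_le_one₀ exp_pos]
      exact zv_le h hφ (s 1) x
    · intro hx
      obtain ⟨l, hl⟩ := Opens.mem_iSup.mp (hU.ge (Set.mem_univ x.1))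
      have hl1 : l = 1 := by
        fin_cases l
        · exact absurd hl hx
        · rfl
      subst hl1
      have h1 := (mem_gloc_iff h hφ hL (s 1) x).mp hl
      refine ⟨?_, h1⟩
      rw [map_div₀, one_lt_div₀ (zero_lt_iff.mpr hpos), h1]
      exact lt_of_le_of_ne (zv_le h hφ (s 0) x) fun he => hx ((mem_gloc_iff h hφ hL (s 0) x).mpr he)
  refine ⟨Finsupp.ext fun P => ?_, fun x => ⟨(key x).1, fun hle => ?_⟩⟩
  · obtain ⟨x, rfl⟩ := placeAt_surjective (k := k) h P
    rw [Finsupp.add_apply, hF.zeroDiv_apply, hF.div_apply, ord_inv, ord_inv]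
    by_cases hx : x.1 ∈ ToPn.U L s 0
    · have hv := (mem_gloc_iff h hφ hL (s 0) x).mp hx
      have hle := (key x).1 hx
      rw [ord_eq_of_val_eq (placeAt (k := k) h x) hv]
      rcases eq_or_ne (zv φ (s 1) / zv φ (s 0)) 0 with ht | ht
      · rw [ht]
        have : (placeAt (k := k) h x).ord (0 : X.functionField) = 0 := by unfold FunFld.Place.ord; simp
        omega
      · rw [val_eq_exp_neg_ord (placeAt (k := k) h x) ht, ← exp_zero, exp_le_exp] at hle
        omega
    · obtain ⟨hlt, h1⟩ := (key x).2 hx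
      have hs1 : zv φ (s 1) ≠ 0 := fun he => by
        rw [he, map_zero] at h1; exact exp_ne_zero h1.symm
      rw [map_div₀, h1, val_eq_exp_neg_ord (placeAt (k := k) h x) h0, ← exp_sub, ← exp_zero, exp_lt_exp] at hlt
      have hv : (placeAt (k := k) h x).1 (zv φ (s 1) / zv φ (s 0)) = exp (D (placeAt (k := k) h x) + (placeAt (k := k) h x).ord (zv φ (s 0))) := by
        rw [map_div₀, h1, val_eq_exp_neg_ord (placeAt (k := k) h x) h0, ← exp_sub, sub_neg_eq_add]
      rw [ord_eq_of_val_eq (placeAt (k := k) h x) hv]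
      omega
  · by_contra hx
    exact ((key x).2 hx).1.not_ge hle

omit h in
/-- A finite morphism to the line: the coordinate and its pole divisor. -/
theorem exists_pencil (h : IsRegCurve X) (f : X ⟶ CohB1.ProjSpace 1 k)
    (hf : f ≫ CohB1.ProjSpace.toSpec 1 k = X ↘ Spec (CommRingCat.of k))
    (hdeg : 0 < f.residueDegree (genericPoint X)) :
    ∃ (t : X.functionField) (L : X.Modules) (φ : L ⟶ constK X) (D : FunFld.Divisor k X.functionField)
      (μ : X.functionField), PicF.IsInvertible L ∧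
      Nonempty ((Scheme.Modules.pullback f).obj (Twist.twistProjSpace 1 k 1) ≅ L) ∧
      IsDivEmb h φ D ∧ μ ≠ 0 ∧ D = zeroDiv k t⁻¹ + FunFld.div k μ ∧ Transcendental k t ∧
      Module.finrank (IntermediateField.adjoin k ({t} : Set X.functionField)) X.functionField =
        f.residueDegree (genericPoint X) ∧
      ((letI := (f.residueFieldMap (genericPoint X)).hom.toAlgebra
        Algebra.IsSeparable ((CohB1.ProjSpace 1 k).residueField (f (genericPoint X)))
          (X.residueField (genericPoint X))) ↔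
        Algebra.IsSeparable (IntermediateField.adjoin k ({t} : Set X.functionField)) X.functionField) ∧
      genericPoint X ∈ f ⁻¹ᵁ LefPen.chart 1 k 0 ∧
      ∀ x : Pt X, x.1 ∈ f ⁻¹ᵁ LefPen.chart 1 k 0 ↔ (placeAt (k := k) h x).1 t ≤ 1 := by
  obtain ⟨L, s, hL, hU, hiso, hr⟩ := ToLine.exists_sections 1 f hf
  obtain ⟨φ, D, hφ⟩ := exists_divEmb_any (k := k) h hL
  haveI := hφ.1
  have hη : genericPoint X ∈ ToPn.U L s 0 := by
    obtain ⟨i, hi⟩ := Opens.mem_iSup.mp (hU.ge (Set.mem_univ (genericPoint X)))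
    by_contra h0
    have hi1 : i = 1 := by
      fin_cases i
      · exact absurd hi h0
      · rfl
    subst hi1
    have ht := ToLine.range_eq_adjoin_of hU hr 1 0 (by decide) hi
    have ht2 := (ToLine.coordinate_of_range f ht).1
    refine ToLine.transcendental_of_finrank (X := X) h.dim (ht2 ▸ hdeg) ?_
    have hz : X.presheaf.germ (ToPn.U L s 1) (genericPoint X) hi (ToPn.c L s 1 0) = 0 := by
      by_contra hne
      have hm : genericPoint X ∈ X.basicOpen (ToPn.c L s 1 0) :=
        (X.mem_basicOpen _ _ hi).mpr (isUnit_iff_ne_zero.mpr hne)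
      rw [← ToPn.U_inf] at hm
      exact h0 hm.1
    rw [hz]
    exact isAlgebraic_zero
  have hpre : f ⁻¹ᵁ LefPen.chart 1 k 0 = ToPn.U L s 0 := ToPn.preimage_D hr hU 0
  have ht := ToLine.range_eq_adjoin_of hU hr 0 1 (by decide) hη
  obtain ⟨hdeg2, hsep⟩ := ToLine.coordinate_of_range f ht
  set t := X.presheaf.germ (ToPn.U L s 0) (genericPoint X) hη (ToPn.c L s 0 1)
  have htr : Transcendental k t := ToLine.transcendental_of_finrank (X := X) h.dim (hdeg2 ▸ hdeg)
  have hc : zv φ (s 1) = t * zv φ (s 0) := zv_coord s (φ := φ) 0 1 hη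
  have h0 : zv φ (s 0) ≠ 0 := fun he => by
    obtain ⟨x⟩ : Nonempty (Pt X) := by
      obtain ⟨P⟩ := (isFF k X h.dim).nonempty_place
      exact ⟨(placeAt_surjective (k := k) h P).choose⟩
    obtain ⟨l, hl⟩ := Opens.mem_iSup.mp (hU.ge (Set.mem_univ x.1))
    have := (mem_gloc_iff h hφ hL (s l) x).mp hl
    fin_cases l
    · rw [show zv φ (s ⟨0, _⟩) = 0 from he, map_zero] at this; exact exp_ne_zero this.symm
    · rw [show zv φ (s ⟨1, _⟩) = 0 from hc.trans (by rw [he, mul_zero]), map_zero] at this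
      exact exp_ne_zero this.symm
  have htq : zv φ (s 1) / zv φ (s 0) = t := by rw [hc, mul_div_assoc, div_self h0, mul_one]
  obtain ⟨hD, hchart⟩ := ratio_facts h hφ hL hU h0
  rw [htq] at hD hchart
  exact ⟨t, L, φ, D, (zv φ (s 0))⁻¹, hL, hiso, hφ, inv_ne_zero h0, hD, htr, hdeg2, hsep,
    hpre.ge hη, fun x => by rw [hpre]; exact hchart x⟩

/-- A finite flat morphism to the line maps the generic point to the generic point, with residue degree
the rank. -/
theorem residueDegree_of_rank (f : X ⟶ CohB1.ProjSpace 1 k) [IsFinite f] [Flat f] {n : ℕ}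
    (hrk : ∀ y : ↥(CohB1.ProjSpace 1 k), Scheme.Hom.finrank f y = n) :
    f (genericPoint X) = genericPoint ↥(CohB1.ProjSpace 1 k) ∧ f.residueDegree (genericPoint X) = n := by
  obtain ⟨z, hz, hfz⟩ := Flat.generalizingMap f (genericPoint_specializes (f (genericPoint X)))
  have hzη : z = genericPoint X := (hz.antisymm (genericPoint_specializes z)).eq
  subst hzη
  refine ⟨hfz, ?_⟩
  have hmem : f (genericPoint X) ∈ LefPen.chart 1 k 0 ∨ f (genericPoint X) ∈ LefPen.chart 1 k 1 := by
    obtain ⟨i, hi⟩ := Opens.mem_iSup.mp ((Proj.iSup_basicOpen_eq_top (CohB1.polyGrading 1 k) _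
      ToPn.irrelevant_le_span_X).ge (Set.mem_univ (f (genericPoint X))))
    fin_cases i
    · exact Or.inl hi
    · exact Or.inr hi
  obtain ⟨i, hi⟩ : ∃ i, f (genericPoint X) ∈ LefPen.chart 1 k i := hmem.elim (⟨0, ·⟩) (⟨1, ·⟩)
  haveI : IsFinite (f ∣_ LefPen.chart 1 k i) :=
    IsZariskiLocalAtTarget.restrict (P := @IsFinite) inferInstance _
  haveI : Flat (f ∣_ LefPen.chart 1 k i) :=
    IsZariskiLocalAtTarget.restrict (P := @Flat) inferInstance _
  obtain ⟨-, w, hw⟩ := Groth.Misc6.GenericDegree.finrank_eq_residueFieldMap f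
    (Proj.isAffineOpen_basicOpen (CohB1.polyGrading 1 k) _ (ToPn.X_mem i) one_pos) hfz hi
  rw [Scheme.Hom.finrank_of_isPullback _ _ _ _ (isPullback_morphismRestrict f _).flip, hrk] at hw
  exact hw.symm

/-- Powers of an invertible module have the multiples of its divisor. -/
theorem exists_divEmb_tensorPow (hK : FunFld.IsFunctionField k X.functionField) {L : X.Modules} (hL : PicF.IsInvertible L) {φ : L ⟶ constK X}
    {D : FunFld.Divisor k X.functionField} (hφ : IsDivEmb h φ D) (n : ℕ) :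
    ∃ (χ : CohB1.tensorPow L n ⟶ constK X) (μ : X.functionField),
      PicF.IsInvertible (CohB1.tensorPow L n) ∧ μ ≠ 0 ∧ IsDivEmb h χ (n • D + FunFld.div k μ) := by
  have hF := isFF k X h.dim
  induction n with
  | zero =>
    have hO := Groth.EulerDeg.isInvertible_structureModule X
    obtain ⟨χ, D₀, hχ, e0, ed, -⟩ := exists_divEmb h hK hO
    have hne : FunFld.L D₀ ≠ ⊥ := fun hb => by
      rw [finrank_h0_structure h hK] at e0
      unfold FunFld.ell at e0
      rw [hb, finrank_bot] at e0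
      omega
    obtain ⟨μ, hμ, he⟩ := exists_eq_neg_div hK hne (by rw [← ed]; unfold Curv2.deg; ring)
    refine ⟨χ, μ⁻¹, hO, inv_ne_zero hμ, ?_⟩
    rw [hF.div_inv, zero_nsmul]
    rw [zero_add, ← eq_neg_of_add_eq_zero_left he]
    exact hχ
  | succ n ih =>
    obtain ⟨χ, μ, hI, hμ, hχ⟩ := ih
    obtain ⟨ω, hω⟩ := exists_divEmb_tensor h hI hL hχ hφ
    refine ⟨ω, μ, Groth.PicAux.isInvertible_tensorMod hI hL, hμ, ?_⟩
    rwa [succ_nsmul, add_right_comm]

/-- Sections and degree of the powers of the pencil of a double cover. -/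
theorem numerics_tensorPow (hK : FunFld.IsFunctionField k X.functionField) (f : X ⟶ CohB1.ProjSpace 1 k)
    (hf : f ≫ CohB1.ProjSpace.toSpec 1 k = X ↘ Spec (CommRingCat.of k))
    (hdeg : f.residueDegree (genericPoint X) = 2) (r : ℕ) :
    PicF.IsInvertible (CohB1.tensorPow ((Scheme.Modules.pullback f).obj (Twist.twistProjSpace 1 k 1)) r) ∧
    Curv2.deg k X (CohB1.tensorPow ((Scheme.Modules.pullback f).obj (Twist.twistProjSpace 1 k 1)) r) 1 = 2 * r ∧
    (r + 1 ≤ Curv2.genus k X →
      Module.finrank k (Coh.HH X (CohB1.tensorPow ((Scheme.Modules.pullback f).obj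
        (Twist.twistProjSpace 1 k 1)) r) 0) = r + 1) := by
  have hF := isFF k X h.dim
  obtain ⟨t, L, φ, D, μ, hL, ⟨e⟩, hφ, hμ, hD, htr, ht2, -, -, -⟩ :=
    exists_pencil h f hf (by rw [hdeg]; norm_num)
  rw [hdeg] at ht2
  haveI := hφ.1
  haveI : Mono (e.hom ≫ φ) := inferInstance
  have hL' : PicF.IsInvertible ((Scheme.Modules.pullback f).obj (Twist.twistProjSpace 1 k 1)) :=
    Groth.PicAux.isInvertible_pullback f (ToPn.twist_isInvertible (R := k) (n := 1))
  obtain ⟨φ', D', hφ', -, -, -⟩ := exists_divEmb h hK hL'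
  obtain ⟨ν, hν, hDD⟩ := linEquiv_of_iso h hK hL' hL hφ' hφ e
  obtain ⟨χ, κ, hI, hκ, hχ⟩ := exists_divEmb_tensorPow h hK hL' hφ' r
  obtain ⟨n0, nd, -⟩ := numerics_of_divEmb h hK hI hχ
  have hD' : D' = zeroDiv k t⁻¹ + FunFld.div k (μ * ν⁻¹) := by
    rw [hF.div_mul hμ (inv_ne_zero hν), hF.div_inv, ← add_assoc, ← hD, hDD, add_neg_cancel_right]
  have hρ : (μ * ν⁻¹) ^ r * κ ≠ 0 :=
    mul_ne_zero (pow_ne_zero _ (mul_ne_zero hμ (inv_ne_zero hν))) hκ
  have hdivpow : ∀ (x : X.functionField) (m : ℕ), x ≠ 0 →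
      FunFld.div k (x ^ m) = m • FunFld.div k x := fun x m hx => by
    induction m with
    | zero => rw [pow_zero, zero_smul]; ext P; simp [hF.div_apply, ord_one]
    | succ m ih => rw [pow_succ, hF.div_mul (pow_ne_zero _ hx) hx, ih, succ_nsmul]
  have hrw : r • D' + FunFld.div k κ = r • zeroDiv k t⁻¹ + FunFld.div k ((μ * ν⁻¹) ^ r * κ) := by
    rw [hF.div_mul (pow_ne_zero _ (mul_ne_zero hμ (inv_ne_zero hν))) hκ,
      hdivpow _ r (mul_ne_zero hμ (inv_ne_zero hν)), hD', smul_add, add_assoc]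
  rw [hrw] at n0 nd
  refine ⟨hI, ?_, fun hr => ?_⟩
  · rw [nd, Groth.FunFld1.deg_add, hF.deg_div, add_zero, Groth.FunFld1.deg_nsmul,
      hF.deg_poleDiv_eq htr, ht2]
    push_cast; ring
  · rw [n0, hF.ell_add_div _ hρ]
    rw [genus_eq h hK] at hr
    let g : Polynomial.degreeLT k (r + 1) →ₗ[k] X.functionField :=
      (Polynomial.aeval t).toLinearMap.comp (Polynomial.degreeLT k (r + 1)).subtype
    have hinj : Function.Injective g := fun a b hab =>
      Subtype.ext (transcendental_iff_injective.mp htr hab)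
    have heq : FunFld.L (r • zeroDiv k t⁻¹ : FunFld.Divisor k X.functionField) = LinearMap.range g := by
      refine le_antisymm (fun z hz => ?_) ?_
      · have hle : (r • zeroDiv k t⁻¹ : FunFld.Divisor k X.functionField) ≤
            FunFld.genus k X.functionField • zeroDiv k t⁻¹ :=
          nsmul_le_nsmul_left (IsFF.zeroDiv_nonneg _) (by omega)
        have hmem := DoubleModel.mem_adjoin_of_mem_genus hK htr ht2 (L_mono hle hz)
        obtain ⟨q, hq, rfl⟩ := (mem_L_adjoin_iff hF htr hmem r).mp hz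
        exact ⟨⟨q, Polynomial.mem_degreeLT.mpr
          (Polynomial.degree_le_natDegree.trans_lt (by exact_mod_cast Nat.lt_succ_of_le hq))⟩, rfl⟩
      · rintro _ ⟨⟨q, hq⟩, rfl⟩
        refine (mem_L_adjoin_iff hF htr (DoubleModel.aeval_mem q) r).mpr ⟨q, ?_, rfl⟩
        rw [Polynomial.mem_degreeLT] at hq
        rcases eq_or_ne q 0 with rfl | hq0
        · simp
        · rw [Polynomial.degree_eq_natDegree hq0, Nat.cast_lt] at hq; omega
    unfold FunFld.ell
    rw [heq, LinearMap.finrank_range_of_inj hinj, (Polynomial.degreeLTEquiv k _).finrank_eq,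
      Module.finrank_fin_fun]

end Groth.CurveBridge.DoubleCover
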