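import Groth.Agent.VarietyBC.SmoothChart
import Mathlib.AlgebraicGeometry.Morphisms.Smooth

/-!
Regular schemes locally of finite type over a perfect field are smooth.
-/

set_option linter.style.haveILetI false

universe u

open CategoryTheory AlgebraicGeometry

namespace Groth.CurveBridge

theorem smooth_of_regular (k : Type u) [Field k] [PerfectField k] (X : Scheme.{u})
    [X.Over (Spec (CommRingCat.of k))] [LocallyOfFiniteType (X ↘ Spec (CommRingCat.of k))]
    (h : ∀ x : X, IsRegularLocalRing (X.presheaf.stalk x)) :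
    Smooth (X ↘ Spec (CommRingCat.of k)) := by
  haveI : LocallyOfFinitePresentation (X ↘ Spec (CommRingCat.of k)) := inferInstance
  rw [← Scheme.Hom.smoothLocus_eq_top_iff]
  refine TopologicalSpace.Opens.ext (Set.eq_univ_iff_forall.mpr fun x => ?_)
  refine (Groth.VarietyBC.mem_smoothLocus_iff_isRegularLocalRing (k := k) x ?_).mpr (h x)
  letI := Curv2.resAlgebra k X x
  obtain ⟨_, ⟨U, hU, rfl⟩, hx, -⟩ := X.isBasis_affineOpens.exists_subset_of_mem_open
    (Set.mem_univ x) isOpen_univ
  letI := (Groth.VarietyBC.openMap (k := k) hU).toAlgebra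
  haveI := Groth.VarietyBC.finiteType_openMap (k := k) hU
  obtain ⟨e⟩ := Groth.VarietyBC.nonempty_residueAlgEquiv (k := k) hU hx
  haveI : Algebra.EssFiniteType k (hU.primeIdealOf ⟨x, hx⟩).asIdeal.ResidueField :=
    Algebra.EssFiniteType.comp k Γ(X, U) _
  haveI : Algebra.FormallySmooth k (hU.primeIdealOf ⟨x, hx⟩).asIdeal.ResidueField :=
    Algebra.FormallySmooth.of_perfectField
  exact Algebra.FormallySmooth.of_equiv e

end Groth.CurveBridge
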