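import Groth.Agent.CurveBridge.CliffordEquality
import Groth.Agent.CurveBridge.Canonical
import Groth.Agent.CurveBridge.LinSeriesExists
import Groth.Agent.CurveBridge.DoubleCover
import Groth.Agent.CurveBridge.RatPoints
import Groth.Agent.CurveBridge.RegularSmooth

/-!
Clifford's equality case on curves.
-/

set_option linter.style.haveILetI false

universe u

open CategoryTheory CategoryTheory.Limits AlgebraicGeometry
open Groth.FunFld1

namespace Groth.CurveBridge.CliffordEquality

attribute [local instance] Groth.EulerDeg.secModule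

variable {k : Type u} [Field k] [IsAlgClosed k] {X : Scheme.{u}} [X.Over (Spec (CommRingCat.of k))]
  [IsIntegral X] [IsProper (X ↘ Spec (CommRingCat.of k))] (h : IsRegCurve X)
include h

/-- Degree zero with a section is trivial. -/
theorem nonempty_iso_structure {L : X.Modules} (hL : PicF.IsInvertible L)
    (hs : 0 < Module.finrank k (Coh.HH X L 0)) (hd : Curv2.deg k X L 1 = 0) :
    Nonempty (L ≅ Coh.structureModule X) := by
  have hK := isFunctionField (k := k) (X := X) h.dim
  have hF := isFF k X h.dim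
  have hO := Groth.EulerDeg.isInvertible_structureModule X
  obtain ⟨φ, D, hφ, h0, hdD, -⟩ := exists_divEmb h hK hL
  obtain ⟨ψ, E, hψ, h0E, hdE, -⟩ := exists_divEmb h hK hO
  have hne : ∀ A : FunFld.Divisor k X.functionField, 0 < FunFld.ell A → FunFld.L A ≠ ⊥ :=
    fun A hA hb => by
      unfold FunFld.ell at hA
      rw [hb, finrank_bot] at hA
      omega
  obtain ⟨x, hx, hxD⟩ := exists_eq_neg_div hK (hne D (h0 ▸ hs)) (hdD.symm.trans hd)
  obtain ⟨y, hy, hyE⟩ := exists_eq_neg_div hK (hne E (by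
      rw [← h0E, finrank_h0_structure h hK]; omega))
    (hdE.symm.trans (Groth.EulerDeg.deg_structure k))
  refine nonempty_iso_of_linEquiv h hK hL hO hφ hψ (mul_ne_zero hx (inv_ne_zero hy)) ?_
  rw [hF.div_mul hx (inv_ne_zero hy), hF.div_inv, ← add_assoc, hxD, zero_add, ← sub_eq_zero,
    sub_neg_eq_add]
  exact hyE

variable [Smooth (X ↘ Spec (CommRingCat.of k))]

/-- An invertible submodule of the differentials is special. -/
theorem special {L : X.Modules} (hL : PicF.IsInvertible L) (hs : Nontrivial (Coh.HH X L 0))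
    (ι : L ⟶ Omega.sheaf (X ↘ Spec (CommRingCat.of k))) [Mono ι] :
    1 ≤ Module.finrank k (Coh.HH X L 1) ∧ 1 ≤ Module.finrank k (Coh.HH X L 0) := by
  have hK := isFunctionField (k := k) (X := X) h.dim
  obtain ⟨d, -, -, -, h1le, -⟩ := sub_numerics ι k h.dim hL (isInvertible_omega hK)
  rw [(omega_numerics (k := k) (X := X) h).2.1] at h1le
  haveI : Module.Finite k (Coh.HH X L 0) := finite_h h hK hL 0
  exact ⟨h1le, Module.finrank_pos⟩

/-- Extremal invertible submodules of `Ω` are multiples of a `g¹₂`. -/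
theorem extremal {L : X.Modules} (hL : PicF.IsInvertible L) (h0 : 0 < Curv2.deg k X L 1)
    (h1 : Curv2.deg k X L 1 < 2 * (Curv2.genus k X : ℤ) - 2)
    (h2 : 2 * (Module.finrank k (Coh.HH X L 0) : ℤ) = Curv2.deg k X L 1 + 2) :
    ∃ (N : X.Modules) (s : Fin 2 → LinSer.Sect X N), LinSer.IsLinSer k X N 2 1 s ∧
      Nonempty (L ≅ CohB1.tensorPow N (Module.finrank k (Coh.HH X L 0) - 1)) := by
  have hK := isFunctionField (k := k) (X := X) h.dim
  have hF := isFF k X h.dim
  obtain ⟨φ, D, hφ, hlD, hdD, -⟩ := exists_divEmb h hK hL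
  obtain ⟨C, hC⟩ := exists_isCanonical hK
  obtain ⟨E, hEd, hEl, μ, hμ, he⟩ := clifford_eq hK hC (D := D) (hdD ▸ h0)
    (by rw [genus_eq h hK] at h1; rw [← hdD]; exact h1) (by rw [← hlD, ← hdD]; exact h2)
  obtain ⟨N, ψ, U₀, hU₀, e₀, hN, hψ₀, hm, hD⟩ := exists_invertible_embedding (k := k) h E
  obtain ⟨n0, nd, -⟩ := numerics_of_divEmb h hK hN (φ := ψ) ⟨hm, hD⟩
  obtain ⟨χ, ν, hP, hν, hχ⟩ := DoubleCover.exists_divEmb_tensorPow h hK hN (φ := ψ) ⟨hm, hD⟩ (FunFld.ell D - 1)
  haveI := finite_h h hK hN 0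
  let b := Module.finBasisOfFinrankEq k (Coh.HH X N 0) (n0.trans hEl)
  refine ⟨N, fun i => Groth.EulerDeg.h0Equiv k N (b i), ⟨hN, nd.trans hEd, fun c hc => ?_⟩, ?_⟩
  · have hzero : ∑ i, c i • b i = 0 := by
      refine (Groth.EulerDeg.h0Equiv k N).injective ?_
      rw [map_sum, map_zero]
      refine (Finset.sum_congr rfl fun i _ => ?_).trans hc
      rw [map_smul, Groth.EulerDeg.smul_sec]
      congr 1
      change (X.presheaf.map (homOfLE le_top).op) _ = _
      rw [Subsingleton.elim (homOfLE le_top : (⊤ : X.Opens) ⟶ ⊤) (𝟙 _), op_id, X.presheaf.map_id]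
      rfl
    exact funext fun i => Fintype.linearIndependent_iff.1 b.linearIndependent c hzero i
  · rw [hlD]
    refine nonempty_iso_of_linEquiv h hK hL hP hφ hχ (mul_ne_zero hν (inv_ne_zero hμ)) ?_
    rw [hF.div_mul hν (inv_ne_zero hμ), hF.div_inv]
    rw [← sub_eq_zero] at he ⊢
    refine Eq.trans ?_ ((congrArg Neg.neg he).trans neg_zero)
    abel

end Groth.CurveBridge.CliffordEquality
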