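import Groth.Agent.CurveBridge.Clifford
import Mathlib.Data.Finsupp.Order

/-!
The equality case of Clifford's theorem for function fields over an algebraically closed field.
-/

namespace Groth.CurveBridge.CliffordEquality

open WithZero FunFld Groth.FunFld1

variable {k K : Type*} [Field k] [Field K] [Algebra k K]

/-- `ℓ(A) + ℓ(B) ≤ ℓ(A ⊓ B) + ℓ(A ⊔ B)`. -/
theorem ell_add_le_inf_sup (hF : IsFF k K) (A B : Divisor k K) :
    ell A + ell B ≤ ell (A ⊓ B) + ell (A ⊔ B) := by
  have := hF.finiteDimensional_L A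
  have := hF.finiteDimensional_L B
  have := hF.finiteDimensional_L (A ⊓ B)
  have := hF.finiteDimensional_L (A ⊔ B)
  have h1 : L A ⊓ L B ≤ L (A ⊓ B) := fun x hx P => by
    rw [Finsupp.inf_apply]
    rcases le_total (A P) (B P) with h | h
    · rw [inf_eq_left.2 h]; exact hx.1 P
    · rw [inf_eq_right.2 h]; exact hx.2 P
  have h2 : L A ⊔ L B ≤ L (A ⊔ B) :=
    sup_le (Groth.FunFld1.L_mono le_sup_left) (Groth.FunFld1.L_mono le_sup_right)
  have e := Submodule.finrank_sup_add_finrank_inf_eq (L A) (L B)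
  have e1 := Submodule.finrank_mono h1
  have e2 := Submodule.finrank_mono h2
  unfold ell
  omega

variable [IsAlgClosed k] (hK : IsFunctionField k K) {C : Divisor k K} (hC : IsCanonical k K C)
include hK hC

theorem deg_canonical : C.deg = 2 * (genus k K : ℤ) - 2 := ((isCanonical_iff hK C).mp hC).2

/-- Removing a place costs at most one. -/
theorem ell_le_sub_single (D : Divisor k K) (P : Place k K) :
    ell D ≤ ell (D - Finsupp.single P 1) + 1 := by
  have hF : IsFF k K := IsFF.of_isFunctionField hK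
  have h1 := Groth.FunFld1.riemann_roch hK hC D
  have h2 := Groth.FunFld1.riemann_roch hK hC (D - Finsupp.single P 1)
  have hd : (D - Finsupp.single P 1).deg = D.deg - 1 := by
    rw [Groth.FunFld1.deg_sub, Groth.FunFld1.deg_single, deg_eq_one_of_isAlgClosed hF P]
    simp
  have h3 : ell (C - D) ≤ ell (C - (D - Finsupp.single P 1)) :=
    ell_mono hF (sub_le_sub_left (sub_le_self _ (Finsupp.single_nonneg.mpr zero_le_one)) C)
  omega

/-- A divisor with canonical numerics is canonical. -/
theorem exists_canonical_eq {E : Divisor k K} (hd : E.deg = 2 * (genus k K : ℤ) - 2)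
    (hl : genus k K ≤ ell E) : ∃ x : K, x ≠ 0 ∧ C = E + FunFld.div k x := by
  have hF : IsFF k K := IsFF.of_isFunctionField hK
  have h1 := Groth.FunFld1.riemann_roch hK hC E
  have hne : L (C - E) ≠ ⊥ := fun hb => by
    unfold ell at h1 hl
    rw [hb, finrank_bot] at h1
    omega
  obtain ⟨x, hx, he⟩ := Groth.FunFld1.exists_eq_neg_div hK hne
    (by rw [Groth.FunFld1.deg_sub, deg_canonical hK hC, hd, sub_self])
  refine ⟨x⁻¹, inv_ne_zero hx, ?_⟩
  rw [hF.div_inv]
  have : C = E - FunFld.div k x := by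
    rw [eq_sub_iff_add_eq, ← sub_eq_zero, ← he]
    abel
  rw [this]
  abel

/-- An extremal effective divisor forces a `g¹₂`. -/
theorem exists_g12 : ∀ (n : ℕ) (D : Divisor k K), 0 ≤ D → D.deg = n → 0 < n →
    (n : ℤ) < 2 * (genus k K : ℤ) - 2 → 2 * ell D = n + 2 →
    ∃ N : Divisor k K, 0 ≤ N ∧ N.deg = 2 ∧ ell N = 2 := by
  classical
  have hF : IsFF k K := IsFF.of_isFunctionField hK
  haveI := infinite_place hF
  intro n
  induction n using Nat.strong_induction_on with
  | h n ih =>
    intro D hD0 hd hn hlt hl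
    rcases Nat.lt_or_ge n 4 with h4 | h4
    · exact ⟨D, hD0, by omega, by omega⟩
    have hrr := Groth.FunFld1.riemann_roch hK hC D
    have hne : L (C - D) ≠ ⊥ := fun hb => by
      unfold ell at hrr hl
      rw [hb, finrank_bot] at hrr
      omega
    obtain ⟨x, hx, hE⟩ := hF.exists_effective_of_ne_bot hne
    set E := C - D + FunFld.div k x with hEdef
    have hdE : E.deg = 2 * (genus k K : ℤ) - 2 - n := by
      rw [hEdef, Groth.FunFld1.deg_add, Groth.FunFld1.deg_sub, deg_canonical hK hC, hd, hF.deg_div,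
        add_zero]
    obtain ⟨P, hP⟩ : ∃ P, 0 < E P := by
      by_contra hc
      push Not at hc
      have : E = 0 := Finsupp.ext fun R => le_antisymm (hc R) (hE R)
      rw [this, Groth.FunFld1.deg_zero] at hdE
      omega
    obtain ⟨Q, hQ⟩ := Infinite.exists_notMem_finset (insert P E.support)
    rw [Finset.mem_insert, not_or, Finsupp.notMem_support_iff] at hQ
    have h5 := ell_le_sub_single hK hC D P
    have h6 := ell_le_sub_single hK hC (D - Finsupp.single P 1) Q
    have hne2 : L (D - Finsupp.single P 1 - Finsupp.single Q 1) ≠ ⊥ := fun hb => by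
      unfold ell at h5 h6 hl
      rw [hb, finrank_bot] at h6
      omega
    obtain ⟨y, hy, hD1⟩ := hF.exists_effective_of_ne_bot hne2
    set D1 := D + FunFld.div k y with hD1def
    have hD1' : Finsupp.single P 1 + Finsupp.single Q 1 ≤ D1 := by
      rw [← sub_nonneg]
      convert hD1 using 1
      rw [hD1def]
      abel
    have hD10 : 0 ≤ D1 :=
      (add_nonneg (Finsupp.single_nonneg.mpr zero_le_one) (Finsupp.single_nonneg.mpr zero_le_one)).trans hD1'
    have hP1 : 1 ≤ D1 P := by
      have := hD1' P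
      rwa [Finsupp.add_apply, Finsupp.single_eq_same, Finsupp.single_eq_of_ne (Ne.symm hQ.1),
        add_zero] at this
    have hQ1 : 1 ≤ D1 Q := by
      have := hD1' Q
      rwa [Finsupp.add_apply, Finsupp.single_eq_same, Finsupp.single_eq_of_ne hQ.1, zero_add] at this
    have hd1 : D1.deg = n := by
      rw [hD1def, Groth.FunFld1.deg_add, hd, hF.deg_div, add_zero]
    have hl1 : ell D1 = ell D := hF.ell_add_div D hy
    set M := D1 ⊓ E with hM
    have hM0 : 0 ≤ M := le_inf hD10 hE
    have hMP : 1 ≤ M P := by rw [hM, Finsupp.inf_apply]; exact le_inf hP1 hP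
    have hMlt : M.deg < (n : ℤ) := by
      refine lt_of_le_of_ne (hd1 ▸ Groth.FunFld1.deg_mono inf_le_left) fun he => ?_
      have := Groth.FunFld1.eq_of_le_of_deg_eq hF (inf_le_left : M ≤ D1) (he.trans hd1.symm)
      have h7 : M Q ≤ E Q := (inf_le_right : M ≤ E) Q
      have h9 : M Q = D1 Q := DFunLike.congr_fun this Q
      rw [h9, hQ.2] at h7
      omega
    have hMpos : 0 < M.deg := by
      refine lt_of_le_of_ne (Groth.FunFld1.deg_nonneg hM0) fun he => ?_
      have := Groth.FunFld1.eq_of_le_of_deg_eq hF hM0 (by rw [Groth.FunFld1.deg_zero, he])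
      rw [← this] at hMP
      simp at hMP
    have hsum : C - M + FunFld.div k (y * x) = D1 ⊔ E := by
      have : M + (D1 ⊔ E) = D1 + E := by
        ext R
        simp only [hM, Finsupp.add_apply, Finsupp.inf_apply, Finsupp.sup_apply]
        rcases le_total (D1 R) (E R) with h | h
        · rw [inf_eq_left.2 h, sup_eq_right.2 h]
        · rw [inf_eq_right.2 h, sup_eq_left.2 h, add_comm]
      rw [eq_sub_of_add_eq' this, hF.div_mul hy hx, hD1def, hEdef]
      abel
    have hsup : ell (C - M) = ell (D1 ⊔ E) := by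
      rw [← hsum, hF.ell_add_div _ (mul_ne_zero hy hx)]
    have hlE : ell E = ell (C - D) := hF.ell_add_div _ hx
    have h8 := ell_add_le_inf_sup hF D1 E
    rw [← hM] at h8
    have hrrM := Groth.FunFld1.riemann_roch hK hC M
    have hM1 : 1 ≤ ell M := by
      rw [← Groth.FunFld1.ell_zero_eq hK]
      exact ell_mono hF hM0
    have hE1 : 1 ≤ ell (C - M) := by
      rw [hsup, ← Groth.FunFld1.ell_zero_eq hK]
      exact ell_mono hF (hE.trans le_sup_right)
    have hcl := clifford hK hC (D := M) (fun hb => by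
      unfold ell at hM1; rw [hb, finrank_bot] at hM1; omega) (fun hb => by
      unfold ell at hE1; rw [hb, finrank_bot] at hE1; omega)
    obtain ⟨m, hm⟩ : ∃ m : ℕ, M.deg = m := ⟨M.deg.toNat, (Int.toNat_of_nonneg hMpos.le).symm⟩
    exact ih m (by omega) M hM0 hm (by omega) (by omega) (by omega)

/-- **Clifford, equality case.** -/
theorem clifford_eq {D : Divisor k K} (h0 : 0 < D.deg) (h1 : D.deg < 2 * (genus k K : ℤ) - 2)
    (h2 : 2 * (ell D : ℤ) = D.deg + 2) :
    ∃ N : Divisor k K, N.deg = 2 ∧ ell N = 2 ∧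
      ∃ μ : K, μ ≠ 0 ∧ D = (ell D - 1) • N + FunFld.div k μ := by
  have hF : IsFF k K := IsFF.of_isFunctionField hK
  have hne : L D ≠ ⊥ := fun hb => by
    unfold ell at h2
    rw [hb, finrank_bot] at h2
    omega
  obtain ⟨x, hx, hD0⟩ := hF.exists_effective_of_ne_bot hne
  obtain ⟨n, hn⟩ : ∃ n : ℕ, D.deg = n := ⟨D.deg.toNat, (Int.toNat_of_nonneg h0.le).symm⟩
  have hd0 : (D + FunFld.div k x).deg = n := by rw [Groth.FunFld1.deg_add, hF.deg_div, add_zero, hn]
  have hl0 : ell (D + FunFld.div k x) = ell D := hF.ell_add_div D hx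
  obtain ⟨N, hN0, hNd, hNl⟩ := exists_g12 hK hC n _ hD0 hd0 (by omega) (by omega) (by omega)
  refine ⟨N, hNd, hNl, ?_⟩
  have hmul : ∀ m : ℕ, m + 1 ≤ ell (m • N) := fun m => by
    induction m with
    | zero => rw [zero_smul, Groth.FunFld1.ell_zero_eq hK]
    | succ m ih =>
      have := ell_add_ell_le hK (nsmul_nonneg hN0 m) hN0
      rw [succ_nsmul]
      omega
  set g := genus k K
  set r := ell D - 1 with hr
  obtain ⟨s, hs⟩ : ∃ s, g - 1 = r + s := ⟨g - 1 - r, by omega⟩
  obtain ⟨b, hb, hCb⟩ := exists_canonical_eq hK hC (E := (g - 1) • N)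
    (by rw [Groth.FunFld1.deg_nsmul, hNd]; omega)
    ((by omega : g ≤ g - 1 + 1).trans (hmul (g - 1)))
  obtain ⟨a, ha, hCa⟩ := exists_canonical_eq hK hC (E := D + FunFld.div k x + s • N)
    (by rw [Groth.FunFld1.deg_add, Groth.FunFld1.deg_nsmul, hNd, hd0]; omega)
    (by
      have h3 := ell_add_ell_le hK hD0 (nsmul_nonneg hN0 s)
      have := hmul s
      omega)
  refine ⟨b * (x * a)⁻¹, mul_ne_zero hb (inv_ne_zero (mul_ne_zero hx ha)), ?_⟩
  rw [hF.div_mul hb (inv_ne_zero (mul_ne_zero hx ha)), hF.div_inv, hF.div_mul hx ha]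
  rw [hCa, hs, add_smul] at hCb
  rw [← sub_eq_zero] at hCb ⊢
  refine Eq.trans ?_ hCb
  abel

end Groth.CurveBridge.CliffordEquality
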