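import Groth.Agent.CurveBridge.Main
import Groth.Agent.NeronArea.WeilExtensionBase
import Groth.Agent.Variety2.Normal

/-!
Smooth connected curves are regular integral curves.
-/

set_option linter.style.haveILetI false

universe u

open CategoryTheory AlgebraicGeometry TopologicalSpace

namespace Groth.CurveBridge

variable (k : Type u) [Field k] (X : Scheme.{u}) [X.Over (Spec (CommRingCat.of k))]

theorem regular_of_smooth [Smooth (X ↘ Spec (CommRingCat.of k))] (x : X) :
    IsRegularLocalRing (X.presheaf.stalk x) :=
  Groth.NeronArea.Weil.isRegularLocalRing_of_smooth_dedekind (X ↘ Spec (CommRingCat.of k)) x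

theorem isRegCurve_of_smooth [Smooth (X ↘ Spec (CommRingCat.of k))]
    (hdim : topologicalKrullDim X = 1) : IsRegCurve X :=
  ⟨hdim, regular_of_smooth k X⟩

theorem isIntegral_of_regular [ConnectedSpace X] [IsNoetherian X]
    (h : ∀ x : X, IsRegularLocalRing (X.presheaf.stalk x)) : IsIntegral X := by
  haveI := Groth.NeronArea.Weil.isReduced_of_regular h
  obtain ⟨x⟩ : Nonempty X := inferInstance
  have hd : ∀ y : X, IsDomain (X.presheaf.stalk y) := fun y => by
    haveI := h y
    exact Groth.Ega4Algebra1.isDomain_of_isRegularLocalRing _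
  have hC := irreducibleComponent_mem_irreducibleComponents x
  have huniv : irreducibleComponent x = Set.univ :=
    IsClopen.eq_univ ⟨isClosed_irreducibleComponent,
      Groth.Variety2.isOpen_irreducibleComponents hd hC⟩ ⟨x, mem_irreducibleComponent⟩
  haveI : IrreducibleSpace X := irreducibleSpace_def _ |>.2 (by
    rw [Set.top_eq_univ, ← huniv]; exact isIrreducible_irreducibleComponent)
  exact isIntegral_of_irreducibleSpace_of_isReduced X

theorem isIntegral_of_smooth [IsProper (X ↘ Spec (CommRingCat.of k))]
    [Smooth (X ↘ Spec (CommRingCat.of k))] [ConnectedSpace X] : IsIntegral X := by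
  haveI : CompactSpace X := QuasiCompact.compactSpace_of_compactSpace (X ↘ Spec (CommRingCat.of k))
  haveI : IsLocallyNoetherian X :=
    LocallyOfFiniteType.isLocallyNoetherian (X ↘ Spec (CommRingCat.of k))
  haveI : IsNoetherian X := ⟨⟩
  exact isIntegral_of_regular X (regular_of_smooth k X)

end Groth.CurveBridge
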