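import Groth.Agent.CurveBridge.OmegaRankOne
import Groth.Agent.OmegaSheaf.Receptacle
import Groth.Agent.CurveBridge.SmoothCurve

/-!
The sheaf of differentials of a smooth curve is the invertible module of a canonical divisor.
-/

set_option linter.style.haveILetI false
set_option linter.unusedSectionVars false

universe u

open CategoryTheory AlgebraicGeometry Opposite TopologicalSpace WithZero
open Groth.PicAux

namespace Groth.CurveBridge

variable {k : Type u} [Field k] {X : Scheme.{u}} [X.Over (Spec (CommRingCat.of k))] [IsIntegral X]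

/-- A derivation of the function field gives a derivation into the constant module. -/
noncomputable def constDer (δ : Derivation k X.functionField X.functionField) :
    OmegaSh.Der (X ↘ Spec (CommRingCat.of k)) (constK X) where
  d {U} :=
    { toFun := fun s => (show Groth.QCohMod.SkyObj (genericPoint X) X.functionField U.unop from
        fun hU => δ (X.presheaf.germ U.unop (genericPoint X) hU.down s))
      map_zero' := funext fun hU : PLift.{0} (genericPoint X ∈ U.unop) =>
        (congrArg δ (map_zero (X.presheaf.germ U.unop (genericPoint X) hU.down).hom)).trans (map_zero δ)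
      map_add' := fun a b => funext fun hU : PLift.{0} (genericPoint X ∈ U.unop) =>
        (congrArg δ (map_add (X.presheaf.germ U.unop (genericPoint X) hU.down).hom a b)).trans (map_add δ _ _) }
  d_mul {U} a b := funext fun hU : PLift.{0} (genericPoint X ∈ U.unop) =>
    (congrArg δ (map_mul (X.presheaf.germ U.unop (genericPoint X) hU.down).hom a b)).trans (δ.leibniz _ _)
  d_map {U V} i s := funext fun hV : PLift.{0} (genericPoint X ∈ V.unop) =>
    congrArg δ (TopCat.Presheaf.germ_res_apply X.presheaf i.unop (genericPoint X) hV.down s)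
  d_app {V} r := funext fun hU : PLift.{0} (genericPoint X ∈ (X ↘ Spec (CommRingCat.of k)) ⁻¹ᵁ V.unop) => by
    obtain ⟨c, hc⟩ := exists_germ_const hU.down r
    exact (congrArg δ hc).trans (δ.map_algebraMap c)

theorem constDer_app (δ : Derivation k X.functionField X.functionField) {U : X.Opens}
    (hU : genericPoint X ∈ U) (s : Γ(X, U)) :
    kv hU ((constDer δ).app U s) = δ (X.presheaf.germ U (genericPoint X) hU s) := rfl

/-- Multiplying a map into the constant module by a rational function. -/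
theorem exists_scale {M : X.Modules} (φ : M ⟶ constK X) (μ : X.functionField) :
    ∃ ψ : M ⟶ constK X, ∀ (U : X.Opens) (hU : genericPoint X ∈ U) (m : Γ(M, U)),
      kv hU (ψ.app U m) = μ * kv hU (φ.app U m) :=
  ⟨Groth.QCohMod.toSky M
    (fun U hU => (AddMonoidHom.mulLeft μ).comp ((kv hU).comp (φ.app U).hom))
    (fun U V h hx m => by
      change μ * kv hx (φ.app V (res M h m)) = μ * kv (h hx) (φ.app U m)
      rw [app_res, kv_res])
    (fun U hx r m => by
      rw [generic_smul]
      change μ * kv hx (φ.app U (r • m)) = _ * (μ * kv hx (φ.app U m))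
      rw [Scheme.Modules.Hom.app_smul, kv_smul]; exact mul_left_comm _ _ _),
    fun _ _ _ => rfl⟩

variable [IsAlgClosed k] [IsProper (X ↘ Spec (CommRingCat.of k))]
  [Smooth (X ↘ Spec (CommRingCat.of k))] (h : IsRegCurve X)
include h

theorem exists_omega_canonical :
    ∃ C : FunFld.Divisor k X.functionField, FunFld.IsCanonical k X.functionField C ∧
      Nonempty (Coh.HH X (Omega.sheaf (X ↘ Spec (CommRingCat.of k))) 0 ≃ₗ[k] FunFld.L C) ∧
      Nonempty ((↥(FunFld.adele k X.functionField) ⧸ FunFld.ADK C) ≃ₗ[k]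
        Coh.HH X (Omega.sheaf (X ↘ Spec (CommRingCat.of k))) 1) := by
  have hK := isFunctionField (k := k) (X := X) h.dim
  have hF := isFF k X h.dim
  have hΩ := isInvertible_omega (X := X) hK
  obtain ⟨δ, C, hC, -, hbound, hunif⟩ := exists_derivation_canonical hK
  obtain ⟨φ, hφ⟩ := Groth.OmegaSheaf.exists_hom_of_isUniversal
    (Groth.OmegaSheaf.isUniversal_dOmega (X ↘ Spec (CommRingCat.of k))) (constDer δ)
  -- the value of a local basis at a closed point
  have key : ∀ (x : Pt X) (U : X.Opens) (hx : x.1 ∈ U) (e : Γ(Omega.sheaf (X ↘ Spec (CommRingCat.of k)), U)),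
      Gen (Omega.sheaf (X ↘ Spec (CommRingCat.of k))) U e →
      (placeAt (k := k) h x).1 (kv (generic_mem U hx) (φ.app U e)) =
        exp (C (placeAt (k := k) h x)) := by
    intro x U hx e he
    set P := placeAt (k := k) h x with hP
    refine le_antisymm ?_ ?_
    · obtain ⟨c, hxc, hc⟩ := Groth.OmegaSheaf.exists_chart (X ↘ Spec (CommRingCat.of k)) hx
      have hηc := generic_mem c.U hxc
      have hval : ∀ r : Γ(X, c.U), P.1 (X.presheaf.germ c.U (genericPoint X) hηc r) ≤ 1 := fun r => by
        rw [← germ_generic c.U x.1 hxc r, hP, placeAt_le_one_iff]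
        exact ⟨_, rfl⟩
      have hgoal : ∀ m ∈ Submodule.span Γ(X, c.U)
          (Set.range ((OmegaSh.dOmega (X ↘ Spec (CommRingCat.of k))).app c.U)),
          P.1 (kv hηc (φ.app c.U m)) ≤ exp (C P) := by
        intro m hm
        induction hm using Submodule.span_induction with
        | mem m hm =>
          obtain ⟨s, rfl⟩ := hm
          rw [hφ, constDer_app]
          exact hbound P _ (hval s)
        | zero => rw [map_zero, map_zero, map_zero]; exact zero_le
        | add a b _ _ ha hb =>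
          rw [map_add, map_add]
          exact (P.1.map_add _ _).trans (max_le ha hb)
        | smul r a _ ha =>
          rw [Scheme.Modules.Hom.app_smul, kv_smul, map_mul]
          exact (mul_le_mul' (hval r) ha).trans_eq (one_mul _)
      have hgoal := hgoal (res _ hc e) (by
        rw [Groth.OmegaSheaf.span_d (X ↘ Spec (CommRingCat.of k)) c.hV c.hU c.e]; trivial)
      rwa [app_res, kv_res] at hgoal
    · obtain ⟨t, ht⟩ := Groth.FunFld1.exists_val_eq_exp P (-1)
      have ht1 : P.1 t ≤ 1 := by rw [ht, ← exp_zero, exp_le_exp]; norm_num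
      obtain ⟨a, rfl⟩ := (placeAt_le_one_iff (k := k) h x t).mp ht1
      obtain ⟨W, hxW, s, rfl⟩ := TopCat.Presheaf.exists_germ_eq X.presheaf a
      obtain ⟨r, hr⟩ := he.exists_coeff (inf_le_right : W ⊓ U ≤ U)
        ((OmegaSh.dOmega (X ↘ Spec (CommRingCat.of k))).app (W ⊓ U) (resX X inf_le_left s))
      have hmem : x.1 ∈ W ⊓ U := ⟨hxW, hx⟩
      have h1 := congrArg (fun m => kv (generic_mem (W ⊓ U) hmem) (φ.app (W ⊓ U) m)) hr
      rw [hφ, constDer_app, germ_resX', Scheme.Modules.Hom.app_smul, kv_smul, app_res, kv_res,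
        ← germ_generic W x.1 hxW s] at h1
      have h2 := congrArg P.1 h1
      rw [hunif P _ ht, map_mul] at h2
      rw [h2]
      refine (mul_le_mul' ?_ le_rfl).trans_eq (one_mul _)
      rw [← germ_generic (W ⊓ U) x.1 hmem r, hP, placeAt_le_one_iff]
      exact ⟨_, rfl⟩
  -- normalise at a base point
  obtain ⟨P₀⟩ := hF.nonempty_place
  let x₀ : Pt X := (placeEquiv (k := k) h).symm P₀
  obtain ⟨U₀, e₀, hx₀, he₀⟩ := (isInvertible_iff_exists_gen _).1 hΩ x₀.1
  have hU₀ : genericPoint X ∈ U₀ := generic_mem U₀ hx₀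
  set w := kv hU₀ (φ.app U₀ e₀) with hw
  have hw0 : w ≠ 0 := fun h0 => by
    have := key x₀ U₀ hx₀ e₀ he₀
    rw [← hw, h0, map_zero] at this
    exact exp_ne_zero this.symm
  obtain ⟨ψ, hψ⟩ := exists_scale φ w⁻¹
  have hψ₀ : ψ.app U₀ e₀ = ksec U₀ 1 := constK_ext fun hU => by
    rw [hψ, kv_ksec]
    exact inv_mul_cancel₀ hw0
  let D : FunFld.Divisor k X.functionField := C + FunFld.div k w
  have hDC : FunFld.IsCanonical k X.functionField D := by
    rw [Groth.FunFld1.isCanonical_iff hK] at hC ⊢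
    exact ⟨(hF.ell_add_div C hw0).trans hC.1,
      by rw [Groth.FunFld1.deg_add, hF.deg_div, add_zero]; exact hC.2⟩
  have hval : ∀ (x : Pt X) (U : X.Opens) (hx : x.1 ∈ U) (e : Γ(Omega.sheaf (X ↘ Spec (CommRingCat.of k)), U)),
      Gen (Omega.sheaf (X ↘ Spec (CommRingCat.of k))) U e →
      (placeAt (k := k) h x).1 (kv (generic_mem U hx) (ψ.app U e)) =
        exp (D (placeAt (k := k) h x)) := by
    intro x U hx e he
    rw [hψ, map_mul, map_inv₀, key x U hx e he, Groth.FunFld1.val_eq_exp_neg_ord _ hw0, ← exp_neg,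
      neg_neg, ← exp_add, Finsupp.add_apply, hF.div_apply, add_comm]
  have hcov : ∀ y : X, ∃ (x : Pt X) (U : X.Opens) (e : Γ(Omega.sheaf (X ↘ Spec (CommRingCat.of k)), U)),
      x.1 ∈ U ∧ y ∈ U ∧ Gen (Omega.sheaf (X ↘ Spec (CommRingCat.of k))) U e := by
    intro y
    by_cases hy : y = genericPoint X
    · exact ⟨x₀, U₀, e₀, hx₀, hy ▸ hU₀, he₀⟩
    · obtain ⟨U, e, hU, he⟩ := (isInvertible_iff_exists_gen _).1 hΩ y
      exact ⟨⟨y, (isClosed_singleton_iff X h.dim y).mpr hy⟩, U, e, hU, hU, he⟩
  choose xp Up ep hxp hyp hep using hcov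
  have hinj : ∀ V : X.Opens, Function.Injective (ψ.app V) := by
    intro V
    refine (injective_iff_map_eq_zero _).mpr fun m hm => ?_
    refine res_ext (fun y : V => V ⊓ Up y.1) (fun _ => inf_le_left)
      (fun y hy => Opens.mem_iSup.mpr ⟨⟨y, hy⟩, hy, hyp y⟩) fun y => ?_
    obtain ⟨c, hc⟩ := (hep y.1).exists_coeff (inf_le_right : V ⊓ Up y.1 ≤ Up y.1)
      (res _ inf_le_left m)
    have hne : genericPoint X ∈ V ⊓ Up y.1 := generic_mem _ (⟨y.2, hyp y.1⟩ : y.1 ∈ V ⊓ Up y.1)
    have h1 := congrArg (fun m => kv hne (ψ.app (V ⊓ Up y.1) m)) hc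
    rw [app_res, hm, res_zero, map_zero, Scheme.Modules.Hom.app_smul, kv_smul, app_res, kv_res,
      eq_comm, mul_eq_zero] at h1
    have hw' : kv (generic_mem _ (hxp y.1)) (ψ.app (Up y.1) (ep y.1)) ≠ 0 := fun h0 => by
      have := hval _ _ (hxp y.1) _ (hep y.1)
      rw [h0, map_zero] at this
      exact exp_ne_zero this.symm
    have h2 : c = 0 := germ_injective_of_isIntegral X (U := V ⊓ Up y.1) (genericPoint X) hne
      ((h1.resolve_right hw').trans (map_zero _).symm)
    rw [hc, h2, zero_smul, res_zero]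
  haveI : Mono ψ := by
    rw [Groth.QCohMod.mono_iff_stalk]
    intro x
    exact (TopCat.Presheaf.app_injective_iff_stalkFunctor_map_injective
      (F := (⟨(Omega.sheaf (X ↘ Spec (CommRingCat.of k))).presheaf,
        (Omega.sheaf (X ↘ Spec (CommRingCat.of k))).isSheaf⟩ : TopCat.Sheaf Ab.{u} X))
      (G := (constK X).presheaf) ((Scheme.Modules.toPresheaf X).map ψ)).mpr hinj x
  have hD : ∀ (x : Pt X) z, InStalk ψ x.1 z ↔
      (placeAt (k := k) h x).1 z ≤ exp (D (placeAt (k := k) h x)) := fun x z => by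
    obtain ⟨U, e, hxU, he⟩ := (isInvertible_iff_exists_gen _).1 hΩ x.1
    have hne : kv (generic_mem U hxU) (ψ.app U e) ≠ 0 := fun h0 => by
      have := hval x U hxU e he
      rw [h0, map_zero] at this
      exact exp_ne_zero this.symm
    rw [inStalk_iff_of_gen ψ hxU he, ← hval x U hxU e he,
      ← div_le_one₀ (zero_lt_iff.mpr ((Valuation.ne_zero_iff _).mpr hne)), ← map_div₀,
      placeAt_le_one_iff]
    exact exists_congr fun a => (eq_div_iff hne).symm
  exact ⟨D, hDC, nonempty_h0_equiv ψ h hU₀ hψ₀ hD, nonempty_h1_equiv ψ h hU₀ hψ₀ hD⟩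

/-- `h⁰(Ω) = g`, `h¹(Ω) = 1`, `deg Ω = 2g - 2`. -/
theorem omega_numerics :
    Module.finrank k (Coh.HH X (Omega.sheaf (X ↘ Spec (CommRingCat.of k))) 0) = Curv2.genus k X ∧
      Module.finrank k (Coh.HH X (Omega.sheaf (X ↘ Spec (CommRingCat.of k))) 1) = 1 ∧
      Curv2.deg k X (Omega.sheaf (X ↘ Spec (CommRingCat.of k))) 1 = 2 * (Curv2.genus k X : ℤ) - 2 := by
  have hK := isFunctionField (k := k) (X := X) h.dim
  obtain ⟨C, hC, ⟨e0⟩, ⟨e1⟩⟩ := exists_omega_canonical (k := k) (X := X) h
  obtain ⟨hl, hd⟩ := (Groth.FunFld1.isCanonical_iff hK C).mp hC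
  obtain ⟨-, hq⟩ := Groth.FunFld1.adele_quotient hK C
  rw [e1.finrank_eq] at hq
  unfold Groth.FunFld1.delta at hq
  have h0 : Module.finrank k (Coh.HH X (Omega.sheaf (X ↘ Spec (CommRingCat.of k))) 0) =
      FunFld.ell C := e0.finrank_eq
  rw [genus_eq h hK]
  refine ⟨h0.trans hl, by omega, ?_⟩
  unfold Curv2.deg
  rw [euler_structure h hK, Groth.EulerDeg.euler_eq_sub fun n hn => subsingleton_HH k h _ hn, h0,
    genus_eq h hK]
  push_cast
  omega

end Groth.CurveBridge
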