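import Groth.Agent.CurveBridge.Cohomology
import Groth.Agent.EulerDeg.DimOne

/-!
Riemann–Roch and duality numerics for invertible modules on regular proper integral curves.
-/

set_option linter.style.haveILetI false
set_option linter.unusedSectionVars false

universe u

open CategoryTheory AlgebraicGeometry Opposite TopologicalSpace WithZero
open Groth.PicAux

namespace Groth.CurveBridge

variable {k : Type u} [Field k] {X : Scheme.{u}} [X.Over (Spec (CommRingCat.of k))] [IsIntegral X]

/-- Over an algebraically closed field the function field of a curve has constant field `k`. -/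
theorem isFunctionField [IsAlgClosed k] [LocallyOfFiniteType (X ↘ Spec (CommRingCat.of k))]
    (hdim : topologicalKrullDim X = 1) : FunFld.IsFunctionField k X.functionField :=
  ⟨isFF k X hdim, fun y hy =>
    minpoly.mem_range_of_degree_eq_one k y
      (IsAlgClosed.degree_eq_one_of_irreducible k (minpoly.irreducible hy.isIntegral))⟩

variable [IsProper (X ↘ Spec (CommRingCat.of k))] (h : IsRegCurve X)
include h

/-- An invertible module has the cohomology of a divisor. -/
theorem exists_div {L : X.Modules} (hL : PicF.IsInvertible L) :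
    ∃ D : FunFld.Divisor k X.functionField,
      Nonempty (Coh.HH X L 0 ≃ₗ[k] FunFld.L D) ∧
      Nonempty ((↥(FunFld.adele k X.functionField) ⧸ FunFld.ADK D) ≃ₗ[k] Coh.HH X L 1) := by
  obtain ⟨U, e, hU, he⟩ := (isInvertible_iff_exists_gen L).1 hL (genericPoint X)
  obtain ⟨φ, hmono, hφ⟩ := exists_embedding hL hU he
  obtain ⟨D, hD⟩ := exists_divisor (k := k) φ h hL hU he hφ
  exact ⟨D, nonempty_h0_equiv φ h hU hφ hD, nonempty_h1_equiv φ h hU hφ hD⟩

omit h in
theorem exists_div_structure (k : Type u) [Field k] [X.Over (Spec (CommRingCat.of k))]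
    [IsProper (X ↘ Spec (CommRingCat.of k))] (h : IsRegCurve X) :
    Nonempty (Coh.HH X (Coh.structureModule X) 0 ≃ₗ[k] FunFld.L (0 : FunFld.Divisor k X.functionField)) ∧
      Nonempty ((↥(FunFld.adele k X.functionField) ⧸ FunFld.ADK (0 : FunFld.Divisor k X.functionField))
        ≃ₗ[k] Coh.HH X (Coh.structureModule X) 1) := by
  have hL : PicF.IsInvertible (Coh.structureModule X) :=
    isInvertible_of_gen_cover (fun _ : Unit => ⊤) (by simp) _ fun _ => gen_oneSec ⊤
  have he : Gen (Coh.structureModule X) ⊤ (oneSec X ⊤) := gen_oneSec ⊤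
  have hU : genericPoint X ∈ (⊤ : X.Opens) := Opens.mem_top _
  obtain ⟨φ, hmono, hφ⟩ := exists_embedding hL hU he
  have hD : ∀ (x : Pt X) z, InStalk φ x.1 z ↔ (placeAt (k := k) h x).1 z ≤
      exp ((0 : FunFld.Divisor k X.functionField) (placeAt (k := k) h x)) := fun x z => by
    rw [Finsupp.coe_zero, Pi.zero_apply, exp_zero, inStalk_iff_of_gen φ (Opens.mem_top x.1) he, hφ,
      kv_ksec, placeAt_le_one_iff]
    simp only [mul_one]
  exact ⟨nonempty_h0_equiv φ h hU hφ hD, nonempty_h1_equiv φ h hU hφ hD⟩

omit h in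
theorem subsingleton_HH (k : Type u) [Field k] [X.Over (Spec (CommRingCat.of k))]
    [IsProper (X ↘ Spec (CommRingCat.of k))] (h : IsRegCurve X) (M : X.Modules) {n : ℕ} (hn : 2 ≤ n) : Subsingleton (Coh.HH X M n) := by
  haveI : CompactSpace X := QuasiCompact.compactSpace_of_compactSpace (X ↘ Spec (CommRingCat.of k))
  haveI : IsLocallyNoetherian X := LocallyOfFiniteType.isLocallyNoetherian (X ↘ Spec (CommRingCat.of k))
  haveI : IsNoetherian X := ⟨⟩
  exact Groth.EulerDeg.subsingleton_HH_of_dim_le_one X h.dim.le M n hn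

variable (hK : FunFld.IsFunctionField k X.functionField)
include hK

theorem finrank_h0_structure : Module.finrank k (Coh.HH X (Coh.structureModule X) 0) = 1 := by
  obtain ⟨⟨e⟩, -⟩ := exists_div_structure k h
  rw [e.finrank_eq]
  exact Groth.FunFld1.ell_zero_eq hK

theorem genus_eq : Curv2.genus k X = FunFld.genus k X.functionField := by
  obtain ⟨-, ⟨e⟩⟩ := exists_div_structure k h
  have h2 := (Groth.FunFld1.adele_quotient hK (0 : FunFld.Divisor k X.functionField)).2
  rw [Groth.FunFld1.delta_zero hK, sub_zero, e.finrank_eq] at h2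
  unfold Curv2.genus
  exact_mod_cast h2

theorem euler_structure : Curv2.euler k X (Coh.structureModule X) = 1 - Curv2.genus k X := by
  rw [Groth.EulerDeg.euler_structure_eq fun n hn => subsingleton_HH k h _ hn,
    finrank_h0_structure h hK, Nat.cast_one]

/-- Riemann–Roch: an invertible module has the dimensions of a divisor of the same degree. -/
theorem exists_div_numerics {L : X.Modules} (hL : PicF.IsInvertible L) :
    ∃ D : FunFld.Divisor k X.functionField, Module.Finite k (Coh.HH X L 0) ∧
      Module.Finite k (Coh.HH X L 1) ∧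
      Module.finrank k (Coh.HH X L 0) = FunFld.ell D ∧
      Curv2.deg k X L 1 = D.deg ∧
      (Module.finrank k (Coh.HH X L 1) : ℤ) =
        (FunFld.ell D : ℤ) - (D.deg + 1 - Curv2.genus k X) := by
  obtain ⟨D, ⟨e0⟩, ⟨e1⟩⟩ := exists_div (k := k) h hL
  obtain ⟨hfin, hq⟩ := Groth.FunFld1.adele_quotient hK D
  haveI : FiniteDimensional k (FunFld.L D) := Groth.FunFld1.IsFF.finiteDimensional_L hK.1 D
  rw [e1.finrank_eq, ← genus_eq h hK] at hq
  unfold Groth.FunFld1.delta at hq
  have h0 : Module.finrank k (Coh.HH X L 0) = FunFld.ell D := e0.finrank_eq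
  refine ⟨D, Module.Finite.equiv e0.symm, Module.Finite.equiv e1, h0, ?_, by linarith⟩
  unfold Curv2.deg
  rw [euler_structure h hK, Groth.EulerDeg.euler_eq_sub fun n hn => subsingleton_HH k h L hn, h0]
  push_cast
  linarith

theorem finite_h {L : X.Modules} (hL : PicF.IsInvertible L) (n : ℕ) :
    Module.Finite k (Coh.HH X L n) := by
  obtain ⟨D, h0, h1, -⟩ := exists_div_numerics h hK hL
  match n with
  | 0 => exact h0
  | 1 => exact h1
  | n + 2 =>
    haveI := subsingleton_HH k h L (n := n + 2) (by omega)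
    infer_instance

theorem finCoh {L : X.Modules} (hL : PicF.IsInvertible L) : Groth.EulerDeg.FinCoh k L :=
  ⟨finite_h h hK hL, ⟨2, fun _ hn => subsingleton_HH k h L hn⟩⟩

/-- Riemann–Roch. -/
theorem riemann_roch {L : X.Modules} (hL : PicF.IsInvertible L) :
    (Module.finrank k (Coh.HH X L 0) : ℤ) - Module.finrank k (Coh.HH X L 1) =
      Curv2.deg k X L 1 + 1 - Curv2.genus k X := by
  obtain ⟨D, -, -, h0, hd, h1⟩ := exists_div_numerics h hK hL
  rw [h0, hd, h1]; ring

theorem subsingleton_h1_of_deg_gt {L : X.Modules} (hL : PicF.IsInvertible L)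
    (hd : 2 * (Curv2.genus k X : ℤ) - 2 < Curv2.deg k X L 1) : Subsingleton (Coh.HH X L 1) := by
  obtain ⟨D, -, hfin, h0, hdD, h1⟩ := exists_div_numerics h hK hL
  rw [hdD, genus_eq h hK] at hd
  rw [Groth.FunFld1.ell_eq_of_deg_ge hK (by omega), genus_eq h hK, sub_self] at h1
  exact Module.finrank_zero_iff.mp (by exact_mod_cast h1)

end Groth.CurveBridge
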