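import Groth.Agent.EulerDeg.FiniteSupport
import Groth.Agent.EulerDeg.Coherent
import Groth.Agent.PnCoh.Euler
import Groth.Agent.CohC3.QuotSections
import Groth.Prelude.Def_Omega3

/-!
# Pulling back forms to a subscheme of projective space
-/

universe u

open CategoryTheory AlgebraicGeometry Coh

namespace Groth.CurveBridge.SpaceCurve

attribute [local instance] Groth.EulerDeg.secModule

variable {k : Type u} [Field k] {X : Scheme.{u}} [X.Over (Spec (CommRingCat.of k))]
  {r : ℕ} (i : X ⟶ CohB1.ProjSpace r k)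
  (hi : i ≫ CohB1.ProjSpace.toSpec r k = X ↘ Spec (CommRingCat.of k))

/-- Pulled back global section. -/
noncomputable def pullTop (M : (CohB1.ProjSpace r k).Modules)
    (s : Γ(M, (⊤ : (CohB1.ProjSpace r k).Opens))) :
    Γ((Scheme.Modules.pullback i).obj M, (⊤ : X.Opens)) :=
  OmegaSh.pullSect i M ⊤ s

include hi in
theorem pullSect_smul (M : (CohB1.ProjSpace r k).Modules) (a : k)
    (s : Γ(M, (⊤ : (CohB1.ProjSpace r k).Opens))) :
    pullTop i M (a • s) = a • pullTop i M s := by
  rw [Groth.EulerDeg.smul_sec, Groth.EulerDeg.smul_sec]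
  refine (Scheme.Modules.Hom.app_smul _ _ _).trans ?_
  change (show Γ(X, (⊤ : X.Opens)) from i.app ⊤ (Groth.EulerDeg.toSec k ⊤ a)) • pullTop i M s = _
  congr 1
  have h1 : ∀ {Y : Scheme.{u}} [Y.Over (Spec (CommRingCat.of k))],
      Groth.EulerDeg.toSec k (⊤ : Y.Opens) a = Coh.toGlobal (Y ↘ Spec (CommRingCat.of k)) a :=
    fun {Y} _ => by
      change (Y.presheaf.map (homOfLE le_top).op) _ = _
      rw [Subsingleton.elim (homOfLE le_top : (⊤ : Y.Opens) ⟶ ⊤) (𝟙 _), op_id, Y.presheaf.map_id]
      rfl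
  have h2 := Groth.CohC3.toGlobal_comp (f := i) hi a
  rw [h1]
  exact h2.trans h1.symm

include hi in
/-- Pulled back forms inject or some form vanishes on the subscheme. -/
theorem choose_le_h0_or_exists (hX : ∀ M : X.Modules, PicF.IsInvertible M → Module.Finite k (HH X M 0))
    (d : ℕ) (hinv : PicF.IsInvertible ((Scheme.Modules.pullback i).obj (Twist.twistProjSpace r k d))) :
    (r + d).choose d ≤
        Module.finrank k (HH X ((Scheme.Modules.pullback i).obj (Twist.twistProjSpace r k d)) 0) ∨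
      ∃ Q : Γ(Twist.twistProjSpace r k d, ⊤), Q ≠ 0 ∧
        OmegaSh.pullSect i (Twist.twistProjSpace r k d) ⊤ Q = 0 := by
  let M := Twist.twistProjSpace r k (d : ℤ)
  let N := (Scheme.Modules.pullback i).obj M
  let φ : Γ(M, (⊤ : (CohB1.ProjSpace r k).Opens)) →ₗ[k] Γ(N, (⊤ : X.Opens)) :=
    { toFun := pullTop i M
      map_add' := fun s t => map_add (OmegaSh.pullSect i M ⊤).hom s t
      map_smul' := fun a s => pullSect_smul i hi M a s }
  by_cases hinj : Function.Injective φ
  · left
    have := hX N hinv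
    let ψ := (Groth.EulerDeg.h0Equiv k N).symm.toLinearMap ∘ₗ φ ∘ₗ
      (Groth.EulerDeg.h0Equiv k M).toLinearMap
    have h := LinearMap.finrank_le_finrank_of_injective (f := ψ)
      ((Groth.EulerDeg.h0Equiv k N).symm.injective.comp
        (hinj.comp (Groth.EulerDeg.h0Equiv k M).injective))
    rwa [Groth.PnCoh.finrank_h0] at h
  · right
    rw [injective_iff_map_eq_zero] at hinj
    push Not at hinj
    obtain ⟨Q, hQ, hQ0⟩ := hinj
    exact ⟨Q, hQ0, hQ⟩

end Groth.CurveBridge.SpaceCurve
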