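import Groth.Agent.CurveBridge.Field
import Groth.Agent.Chow.ToPn
import Groth.Agent.Chow.ProjUnique

/-!
Morphisms from integral curves to projective spaces as coordinate functions.
-/

set_option linter.style.haveILetI false
set_option linter.unusedSectionVars false

universe u

open CategoryTheory AlgebraicGeometry Opposite TopologicalSpace
open Groth.PicAux Groth.Chow

namespace Groth.CurveBridge.ToLine

variable {k : Type u} [Field k] {X : Scheme.{u}} [X.Over (Spec (CommRingCat.of k))]

/-- Every morphism to projective space is given by the pulled-back coordinates. -/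
theorem exists_sections (n : ℕ) (f : X ⟶ CohB1.ProjSpace n k)
    (hf : f ≫ CohB1.ProjSpace.toSpec n k = X ↘ Spec (CommRingCat.of k)) :
    ∃ (L : X.Modules) (s : Fin (n + 1) → ProjUP.Γm L),
      PicF.IsInvertible L ∧ (⨆ i, ToPn.U L s i = ⊤) ∧
      Nonempty ((Scheme.Modules.pullback f).obj (Twist.twistProjSpace n k 1) ≅ L) ∧
      ∀ i, (ToPn.U L s i).ι ≫ f = ToPn.rU (X ↘ Spec (CommRingCat.of k)) L s i := by
  let hgen : Algebra.adjoin k (Set.range fun l : Fin (n + 1) =>
      (MvPolynomial.X l : MvPolynomial (Fin (n + 1)) k)) = ⊤ := MvPolynomial.adjoin_range_X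
  let L := (Scheme.Modules.pullback f).obj (ToPn.O1 n k)
  let t : Fin (n + 1) → ProjUP.Γm L := fun l => ProjUP.pullSec f (ToPn.O1 n k) (ToPn.co n k l)
  have hI := ToPn.twist_isInvertible (R := k) (n := n)
  have hUl : ∀ l, ToPn.U L t l = f ⁻¹ᵁ Proj.basicOpen _ (MvPolynomial.X l) := fun l => by
    change Groth.PropsBasic.Ample.gloc (t l) = _
    exact (Groth.PropsBasic.Ample.gloc_pullSec f hI _).trans (congrArg (f ⁻¹ᵁ ·)
      (ProjUnique.gloc_co (𝒮 := CohB1.polyGrading n k) (fun l => ToPn.X_mem l) hgen l))
  have hU : ⨆ l, ToPn.U L t l = ⊤ := by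
    simp only [hUl]
    rw [← Scheme.Hom.preimage_iSup]
    exact (congrArg (f ⁻¹ᵁ ·) (Proj.iSup_basicOpen_eq_top (CohB1.polyGrading n k) _
      ToPn.irrelevant_le_span_X)).trans rfl
  obtain ⟨r, hr⟩ := ToPn.exists_r (X ↘ Spec (CommRingCat.of k)) L t hU
  obtain ⟨τ, hτ⟩ := ToPn.exists_tau hr hU
  have heq : f = r := ProjUnique.hom_eq (𝒮 := CohB1.polyGrading n k) (fun l => ToPn.X_mem l) hgen
    f r (hf.trans (ToPn.r_toSpec hr hU).symm) τ.symm fun l => by
      change τ.inv.app ⊤ (t l) = _
      rw [← hτ l, ← CategoryTheory.comp_apply, ← Scheme.Modules.Hom.comp_app, Iso.hom_inv_id]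
      rfl
  exact ⟨L, t, isInvertible_pullback f hI, hU, ⟨Iso.refl _⟩, heq ▸ hr⟩

variable [IsIntegral X]

/-- The image of a function field in the residue field at the generic point. -/
noncomputable def genEquiv (X : Scheme.{u}) [IsIntegral X] :
    X.functionField ≃+* X.residueField (genericPoint X) :=
  RingEquiv.ofBijective (X.residue (genericPoint X)).hom
    ⟨(X.residue (genericPoint X)).hom.injective (R := X.functionField),
      IsLocalRing.residue_surjective⟩

theorem range_eq_adjoin_of {f : X ⟶ CohB1.ProjSpace 1 k} {L : X.Modules}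
    {s : Fin (1 + 1) → ProjUP.Γm L} (hU : ⨆ i, ToPn.U L s i = ⊤)
    (hr : ∀ i, (ToPn.U L s i).ι ≫ f = ToPn.rU (X ↘ Spec (CommRingCat.of k)) L s i)
    (i j : Fin (1 + 1)) (hij : i ≠ j) (hη : genericPoint X ∈ ToPn.U L s i) :
    (((genEquiv X).symm.toRingHom.comp (f.residueFieldMap (genericPoint X)).hom).range :
        Set X.functionField) = IntermediateField.adjoin k
          ({X.presheaf.germ (ToPn.U L s i) (genericPoint X) hη (ToPn.c L s i j)} : Set X.functionField) := by
  let gi : Γ(X, ToPn.U L s i) →+* X.functionField :=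
    (X.presheaf.germ (ToPn.U L s i) (genericPoint X) hη).hom
  set t := gi (ToPn.c L s i j) with ht
  set F := IntermediateField.adjoin k ({t} : Set X.functionField)
  let Φ : (CohB1.ProjSpace 1 k).presheaf.stalk (f (genericPoint X)) →+* X.functionField :=
    (f.stalkMap (genericPoint X)).hom
  let ι := (genEquiv X).symm.toRingHom.comp (f.residueFieldMap (genericPoint X)).hom
  have hres : ∀ a, ι ((CohB1.ProjSpace 1 k).residue (f (genericPoint X)) a) = Φ a := fun a => by
    have h1 := ConcreteCategory.congr_hom (Scheme.residue_residueFieldMap f (genericPoint X)) a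
    refine (congrArg (genEquiv X).symm h1).trans ?_
    exact (genEquiv X).symm_apply_apply _
  have hbase : ∀ a : k, gi (ToPn.baseMap (X ↘ Spec (CommRingCat.of k)) L s i a) =
      algebraMap k X.functionField a := fun a =>
    TopCat.Presheaf.germ_res_apply X.presheaf _ (genericPoint X) hη _
  have hct : ∀ l, l ≠ j → gi (ToPn.c L s i l) = 1 := fun l hl => by
    have hli : l = i := by
      revert hl hij
      fin_cases i <;> fin_cases j <;> fin_cases l <;> simp_all
    rw [hli, ToPn.c_self, map_one]
  have heval : ∀ p : MvPolynomial (Fin (1 + 1)) k,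
      gi (MvPolynomial.eval₂ (ToPn.baseMap (X ↘ Spec (CommRingCat.of k)) L s i) (ToPn.c L s i) p) ∈ F := by
    intro p
    induction p using MvPolynomial.induction_on with
    | C a => rw [MvPolynomial.eval₂_C, hbase]; exact F.algebraMap_mem a
    | add p q hp hq => rw [MvPolynomial.eval₂_add, map_add]; exact add_mem hp hq
    | mul_X p l hp =>
      rw [MvPolynomial.eval₂_mul, MvPolynomial.eval₂_X, map_mul]
      refine mul_mem hp ?_
      by_cases hl : l = j
      · rw [hl]; exact IntermediateField.mem_adjoin_simple_self k t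
      · rw [hct l hl]; exact one_mem F
  let D : (CohB1.ProjSpace 1 k).Opens := Proj.basicOpen (CohB1.polyGrading 1 k) (MvPolynomial.X i)
  have hfD : f (genericPoint X) ∈ D := (ToPn.preimage_D hr hU i).ge hη
  have hsec : ∀ z, Φ ((CohB1.ProjSpace 1 k).presheaf.germ D (f (genericPoint X)) hfD
      (Proj.awayToSection (CohB1.polyGrading 1 k) (MvPolynomial.X i) z)) =
        gi (ToPn.α (X ↘ Spec (CommRingCat.of k)) L s i z) := fun z => by
    refine (Scheme.Hom.germ_stalkMap_apply f D (genericPoint X) hfD _).trans ?_
    rw [← ToPn.appLE_awayToSection hr i (ToPn.preimage_D hr hU i).ge z]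
    exact (TopCat.Presheaf.germ_res_apply X.presheaf _ (genericPoint X) hη _).symm
  refine Set.Subset.antisymm ?_ ?_
  · rintro _ ⟨w, rfl⟩
    obtain ⟨a, rfl⟩ := IsLocalRing.residue_surjective
      (R := (CohB1.ProjSpace 1 k).presheaf.stalk (f (genericPoint X))) w
    change ι ((CohB1.ProjSpace 1 k).residue _ a) ∈ F
    rw [hres]
    have hD : IsAffineOpen D :=
      Proj.isAffineOpen_basicOpen (CohB1.polyGrading 1 k) _ (ToPn.X_mem i) one_pos
    letI := TopCat.Presheaf.algebra_section_stalk (CohB1.ProjSpace 1 k).presheaf (⟨_, hfD⟩ : D)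
    haveI := hD.isLocalization_stalk ⟨_, hfD⟩
    obtain ⟨⟨g, m⟩, hgm⟩ :=
      IsLocalization.surj (hD.primeIdealOf ⟨_, hfD⟩).asIdeal.primeCompl a
    have hmem : ∀ g : Γ(CohB1.ProjSpace 1 k, D),
        Φ ((CohB1.ProjSpace 1 k).presheaf.germ D (f (genericPoint X)) hfD g) ∈ F := fun g => by
      obtain ⟨z, hz⟩ := (ConcreteCategory.bijective_of_isIso
        (Proj.basicOpenIsoAway (CohB1.polyGrading 1 k) (MvPolynomial.X i) (ToPn.X_mem i) one_pos).hom).2 g
      obtain ⟨d, p, hp, rfl⟩ := HomogeneousLocalization.Away.mk_surjective _ (ToPn.X_mem i) z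
      rw [show g = Proj.awayToSection (CohB1.polyGrading 1 k) (MvPolynomial.X i) _ from hz.symm,
        hsec, ToPn.α, ToPn.chart_mk]
      exact heval p
    have hu : IsUnit (Φ ((CohB1.ProjSpace 1 k).presheaf.germ D (f (genericPoint X)) hfD m.1)) :=
      (IsLocalization.map_units _ m).map Φ
    have h1 := congrArg Φ hgm
    rw [map_mul] at h1
    have h2 : Φ a = Φ ((CohB1.ProjSpace 1 k).presheaf.germ D (f (genericPoint X)) hfD g) /
        Φ ((CohB1.ProjSpace 1 k).presheaf.germ D (f (genericPoint X)) hfD m.1) := by
      rw [eq_div_iff hu.ne_zero]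
      exact h1
    rw [h2]
    exact div_mem (hmem g) (hmem m.1)
  · let S : IntermediateField k X.functionField :=
      { ι.fieldRange with
        algebraMap_mem' := fun a => ⟨(CohB1.ProjSpace 1 k).residue _
          ((CohB1.ProjSpace 1 k).presheaf.germ D (f (genericPoint X)) hfD
            (Proj.awayToSection (CohB1.polyGrading 1 k) (MvPolynomial.X i)
              (HomogeneousLocalization.Away.mk _ (ToPn.X_mem i) 0 (MvPolynomial.C a)
                (by simpa using MvPolynomial.isHomogeneous_C _ a)))), by
          rw [hres, hsec, ToPn.α, ToPn.chart_mk, MvPolynomial.eval₂_C, hbase]⟩ }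
    have htS : t ∈ S := ⟨(CohB1.ProjSpace 1 k).residue _
      ((CohB1.ProjSpace 1 k).presheaf.germ D (f (genericPoint X)) hfD
        (Proj.awayToSection (CohB1.polyGrading 1 k) (MvPolynomial.X i)
          (HomogeneousLocalization.Away.mk _ (ToPn.X_mem i) 1 (MvPolynomial.X j)
            (by rw [one_smul]; exact ToPn.X_mem j)))), by
      rw [hres, hsec, ToPn.α, ToPn.chart_mk, MvPolynomial.eval₂_X]⟩
    intro z hz
    have hle : F ≤ S := IntermediateField.adjoin_le_iff.mpr (Set.singleton_subset_iff.mpr htS)
    exact hle hz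

theorem range_eq_adjoin (f : X ⟶ CohB1.ProjSpace 1 k)
    (hf : f ≫ CohB1.ProjSpace.toSpec 1 k = X ↘ Spec (CommRingCat.of k)) :
    ∃ t : X.functionField,
      (((genEquiv X).symm.toRingHom.comp (f.residueFieldMap (genericPoint X)).hom).range :
        Set X.functionField) = IntermediateField.adjoin k ({t} : Set X.functionField) := by
  obtain ⟨L, s, -, hU, -, hr⟩ := exists_sections 1 f hf
  obtain ⟨i, hη⟩ := Opens.mem_iSup.mp (hU.ge (Set.mem_univ (genericPoint X)))
  exact ⟨_, range_eq_adjoin_of hU hr i (if i = 0 then 1 else 0) (by fin_cases i <;> simp) hη⟩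

theorem coordinate_of_range (f : X ⟶ CohB1.ProjSpace 1 k) {t : X.functionField}
    (ht : (((genEquiv X).symm.toRingHom.comp (f.residueFieldMap (genericPoint X)).hom).range :
        Set X.functionField) = IntermediateField.adjoin k ({t} : Set X.functionField)) :
    Module.finrank (IntermediateField.adjoin k ({t} : Set X.functionField)) X.functionField =
        f.residueDegree (genericPoint X) ∧
      ((letI := (f.residueFieldMap (genericPoint X)).hom.toAlgebra
        Algebra.IsSeparable ((CohB1.ProjSpace 1 k).residueField (f (genericPoint X)))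
          (X.residueField (genericPoint X))) ↔
        Algebra.IsSeparable (IntermediateField.adjoin k ({t} : Set X.functionField)) X.functionField) := by
  set F := IntermediateField.adjoin k ({t} : Set X.functionField)
  letI := (f.residueFieldMap (genericPoint X)).hom.toAlgebra
  let ι := (genEquiv X).symm.toRingHom.comp (f.residueFieldMap (genericPoint X)).hom
  let e₀ : (CohB1.ProjSpace 1 k).residueField (f (genericPoint X)) ≃+* F :=
    RingEquiv.ofBijective (ι.codRestrict F.toSubfield fun a => ht.le ⟨a, rfl⟩)
      ⟨fun a b hab => ι.injective (congrArg Subtype.val hab), fun z => by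
        obtain ⟨a, ha⟩ := ht.ge z.2
        exact ⟨a, Subtype.ext ha⟩⟩
  have hc : (algebraMap F X.functionField).comp e₀.toRingHom =
      (genEquiv X).symm.toRingHom.comp (algebraMap _ (X.residueField (genericPoint X))) := rfl
  refine ⟨(Algebra.finrank_eq_of_equiv_equiv e₀ (genEquiv X).symm hc).symm, ?_⟩
  exact Algebra.IsSeparable.iff_of_equiv_equiv e₀ (genEquiv X).symm hc

/-- A morphism to the line as a function: degree, separability. -/
theorem exists_coordinate (f : X ⟶ CohB1.ProjSpace 1 k)
    (hf : f ≫ CohB1.ProjSpace.toSpec 1 k = X ↘ Spec (CommRingCat.of k)) :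
    ∃ t : X.functionField,
      Module.finrank (IntermediateField.adjoin k ({t} : Set X.functionField)) X.functionField =
        f.residueDegree (genericPoint X) ∧
      ((letI := (f.residueFieldMap (genericPoint X)).hom.toAlgebra
        Algebra.IsSeparable ((CohB1.ProjSpace 1 k).residueField (f (genericPoint X)))
          (X.residueField (genericPoint X))) ↔
        Algebra.IsSeparable (IntermediateField.adjoin k ({t} : Set X.functionField)) X.functionField) := by
  obtain ⟨t, ht⟩ := range_eq_adjoin f hf
  exact ⟨t, coordinate_of_range f ht⟩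

theorem transcendental_of_finrank [LocallyOfFiniteType (X ↘ Spec (CommRingCat.of k))]
    (hdim : topologicalKrullDim X = 1) {t : X.functionField}
    (hfin : 0 < Module.finrank (IntermediateField.adjoin k ({t} : Set X.functionField)) X.functionField) :
    Transcendental k t := by
  obtain ⟨x, hx, -⟩ := isFF k X hdim
  intro halg
  haveI : FiniteDimensional k (IntermediateField.adjoin k ({t} : Set X.functionField)) :=
    IntermediateField.adjoin.finiteDimensional halg.isIntegral
  haveI := Module.finite_of_finrank_pos hfin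
  haveI : Module.Finite k X.functionField :=
    Module.Finite.trans (IntermediateField.adjoin k ({t} : Set X.functionField)) X.functionField
  exact hx ((IsIntegral.of_finite k x).isAlgebraic)

end Groth.CurveBridge.ToLine
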