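import Groth.Agent.CurveBridge.TensorNumerics
import Groth.Agent.Chow.ToPn
import Groth.Agent.Chow.ProjUnique
import Groth.Agent.S10867
import Groth.Agent.Variety2.ProjBasics

/-!
The criterion for an invertible module on a regular curve to be very ample.
-/

set_option linter.style.haveILetI false
set_option linter.unusedSectionVars false

universe u

open CategoryTheory AlgebraicGeometry Opposite TopologicalSpace WithZero
open Groth.PicAux Groth.FunFld1 Groth.Chow

namespace Groth.CurveBridge

variable {k : Type u} [Field k] {X : Scheme.{u}} [X.Over (Spec (CommRingCat.of k))] [IsIntegral X]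
  [IsProper (X ↘ Spec (CommRingCat.of k))] (h : IsRegCurve X) {L : X.Modules}
  {φ : L ⟶ constK X} {D : FunFld.Divisor k X.functionField}

/-- The rational function of a global section. -/
noncomputable def zv (φ : L ⟶ constK X) (t : Γ(L, (⊤ : X.Opens))) : X.functionField :=
  kv (show genericPoint X ∈ (⊤ : X.Opens) from trivial) (φ.app ⊤ t)

section Bridge

variable (hφ : IsDivEmb h φ D)
include hφ

theorem val_gen {x : Pt X} {U : X.Opens} (hx : x.1 ∈ U) {e : Γ(L, U)} (he : Gen L U e) :
    (placeAt (k := k) h x).1 (kv (generic_mem U hx) (φ.app U e)) =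
      exp (D (placeAt (k := k) h x)) := by
  set P := placeAt (k := k) h x
  refine le_antisymm ((hφ.2 x _).mp ⟨U, hx, e, rfl⟩) ?_
  obtain ⟨z, hz⟩ := exists_val_eq_exp P (D P)
  obtain ⟨a, ha⟩ := (inStalk_iff_of_gen φ hx he z).mp ((hφ.2 x z).mpr hz.le)
  rw [← hz, ← ha, map_mul]
  exact mul_le_of_le_one_left' ((placeAt_le_one_iff h x _).mpr ⟨a, rfl⟩)

theorem zv_le (t : Γ(L, (⊤ : X.Opens))) (x : Pt X) :
    (placeAt (k := k) h x).1 (zv φ t) ≤ exp (D (placeAt (k := k) h x)) :=
  (hφ.2 x _).mp ⟨⊤, trivial, t, rfl⟩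

theorem zv_mem (t : Γ(L, (⊤ : X.Opens))) : zv φ t ∈ FunFld.L D := fun P => by
  obtain ⟨x, rfl⟩ := placeAt_surjective (k := k) h P
  exact zv_le h hφ t x

theorem mem_gloc_iff (hL : PicF.IsInvertible L) (t : Γ(L, (⊤ : X.Opens))) (x : Pt X) :
    x.1 ∈ Groth.PropsBasic.Ample.gloc t ↔
      (placeAt (k := k) h x).1 (zv φ t) = exp (D (placeAt (k := k) h x)) := by
  set P := placeAt (k := k) h x
  obtain ⟨U, e, hxU, he⟩ := (isInvertible_iff_exists_gen L).1 hL x.1
  obtain ⟨c, hc⟩ := he.exists_coeff le_rfl (res L (le_top : U ≤ ⊤) t)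
  rw [res_self] at hc
  have h1 := congrArg (fun s => kv (generic_mem U hxU) (φ.app U s)) hc
  rw [app_res, kv_res, Scheme.Modules.Hom.app_smul, kv_smul] at h1
  have hz : P.1 (zv φ t) = P.1 (algebraMap (X.presheaf.stalk x.1) X.functionField
      (X.presheaf.germ U x.1 hxU c)) * exp (D P) := by
    rw [germ_generic, ← val_gen h hφ hxU he, ← map_mul, ← h1]
    rfl
  have hmem : x.1 ∈ Groth.PropsBasic.Ample.gloc t ↔ IsUnit (X.presheaf.germ U x.1 hxU c) := by
    rw [← Scheme.mem_basicOpen X c x.1 hxU, ← Groth.PropsBasic.Ample.gloc_inf_eq_basicOpen he hc]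
    exact ⟨fun hm => ⟨hm, hxU⟩, fun hm => hm.1⟩
  have hone : P.1 (zv φ t) = exp (D P) ↔
      P.1 (algebraMap (X.presheaf.stalk x.1) X.functionField (X.presheaf.germ U x.1 hxU c)) = 1 := by
    rw [hz, mul_eq_right₀ exp_ne_zero]
  rw [hmem, hone]
  constructor
  · intro hu
    refine le_antisymm ((placeAt_le_one_iff h x _).mpr ⟨_, rfl⟩) (not_lt.mp fun hlt => ?_)
    exact ((IsLocalRing.mem_maximalIdeal _).mp ((placeAt_lt_one_iff h x _).mp hlt)) hu
  · intro h1'
    by_contra hu
    exact ((placeAt_lt_one_iff h x _).mpr ((IsLocalRing.mem_maximalIdeal _).mpr hu)).ne h1'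

end Bridge

theorem mem_basicOpen_iff_val {U : X.Opens} (x : Pt X) (hx : x.1 ∈ U) (c : Γ(X, U)) :
    x.1 ∈ X.basicOpen c ↔ ¬ (placeAt (k := k) h x).1
      (X.presheaf.germ U (genericPoint X) (generic_mem U hx) c) < 1 := by
  rw [Scheme.mem_basicOpen X c x.1 hx, ← germ_generic U x.1 hx, placeAt_lt_one_iff,
    IsLocalRing.mem_maximalIdeal, mem_nonunits_iff, not_not]

variable {n : ℕ} (s : Fin (n + 1) → ProjUP.Γm L)

theorem zv_coord (i l : Fin (n + 1)) (hη : genericPoint X ∈ ToPn.U L s i) :
    zv φ (s l) = X.presheaf.germ (ToPn.U L s i) (genericPoint X) hη (ToPn.c L s i l) *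
      zv φ (s i) := by
  have h1 := congrArg (fun t => kv hη (φ.app (ToPn.U L s i) t)) (ToPn.c_spec L s i l)
  rw [app_res, kv_res, Scheme.Modules.Hom.app_smul, kv_smul, app_res, kv_res] at h1
  exact h1

variable (hK : FunFld.IsFunctionField k X.functionField) (hφ : IsDivEmb h φ D)
  (hL : PicF.IsInvertible L)

section Imm

variable [IsAlgClosed k] {r : X ⟶ CohB1.ProjSpace n k}
  (hr : ∀ i, (ToPn.U L s i).ι ≫ r = ToPn.rU (X ↘ Spec (CommRingCat.of k)) L s i)
  (hU : ⨆ i, ToPn.U L s i = ⊤)
include hφ hL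

theorem mem_U_iff (i : Fin (n + 1)) (x : Pt X) :
    x.1 ∈ ToPn.U L s i ↔
      (placeAt (k := k) h x).1 (zv φ (s i)) = exp (D (placeAt (k := k) h x)) :=
  mem_gloc_iff h hφ hL (s i) x

include hK hr hU

/-- Separation of points and tangents gives a closed immersion. -/
theorem isClosedImmersion_of_sep (hspan : FunFld.L D ≤ Submodule.span k (Set.range fun l => zv φ (s l)))
    (hsep : ∀ P Q, FunFld.ell (D - Finsupp.single P 1 - Finsupp.single Q 1) + 2 = FunFld.ell D) :
    IsClosedImmersion r := by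
  have hF := isFF k X h.dim
  have hover := ToPn.r_toSpec hr hU
  haveI : IsProper (r ≫ CohB1.ProjSpace.toSpec n k) := hover ▸ inferInstance
  haveI : IsProper (CohB1.ProjSpace.toSpec n k) := inferInstance
  haveI : IsProper r := IsProper.of_comp r (CohB1.ProjSpace.toSpec n k)
  have hstrict : ∀ P Q : FunFld.Place k X.functionField, ¬ FunFld.L (D - Finsupp.single P 1) ≤
      FunFld.L (D - Finsupp.single P 1 - Finsupp.single Q 1) := fun P Q hle => by
    haveI := hF.finiteDimensional_L (D - Finsupp.single P 1 - Finsupp.single Q 1)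
    have h1 := Submodule.finrank_mono hle
    have h2 := hsep P Q
    have h3 := ell_le_single_add h D P
    unfold FunFld.ell at *
    omega
  -- a combination of the sections in a chart
  have key : ∀ (i : Fin (n + 1)) (x : Pt X) (hx : x.1 ∈ ToPn.U L s i), ∀ z ∈ FunFld.L D,
      ∃ (σ : Γ(CohB1.ProjSpace n k, Proj.basicOpen (CohB1.polyGrading n k) (MvPolynomial.X i))),
        X.presheaf.germ (ToPn.U L s i) (genericPoint X) (generic_mem _ hx)
          (r.appLE _ (ToPn.U L s i) (ToPn.preimage_D hr hU i).ge σ) * zv φ (s i) = z := by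
    intro i x hx z hz
    obtain ⟨a, ha⟩ := (Submodule.mem_span_range_iff_exists_fun k).mp (hspan hz)
    refine ⟨Proj.awayToSection _ _ (HomogeneousLocalization.Away.mk (CohB1.polyGrading n k)
      (ToPn.X_mem i) 1 (∑ l, MvPolynomial.C (a l) * MvPolynomial.X l) ?_), ?_⟩
    · rw [one_smul]
      exact Submodule.sum_mem _ fun l _ => (MvPolynomial.isHomogeneous_X k l).C_mul (a l)
    · erw [ToPn.appLE_awayToSection hr]
      rw [ToPn.α, ToPn.chart_mk, MvPolynomial.eval₂_sum]
      simp only [MvPolynomial.eval₂_mul, MvPolynomial.eval₂_C, MvPolynomial.eval₂_X, map_sum,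
        map_mul, Finset.sum_mul, mul_assoc]
      rw [← ha]
      refine Finset.sum_congr rfl fun l _ => ?_
      rw [← zv_coord s i l, Algebra.smul_def]
      congr 1
      exact germ_resX' _ _ _ _
  refine Groth.Agent.S10867.result k r (CohB1.ProjSpace.toSpec n k) ?_ ?_
  · -- injective
    intro x hx y hy hxy
    by_contra hne
    obtain ⟨i, hi⟩ := Opens.mem_iSup.mp (hU.ge (Set.mem_univ x))
    have hi' : y ∈ ToPn.U L s i := by
      rw [← ToPn.preimage_D hr hU i] at hi ⊢
      have hxy' : r x = r y := hxy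
      change r y ∈ Proj.basicOpen (CohB1.polyGrading n k) (MvPolynomial.X i)
      rw [← hxy']
      exact hi
    set P := placeAt (k := k) h ⟨x, hx⟩ with hPdef
    set Q := placeAt (k := k) h ⟨y, hy⟩ with hQdef
    have hPQ : P ≠ Q := fun e => hne (congrArg Subtype.val (placeAt_injective h e))
    obtain ⟨z, hz, hzn⟩ := Set.not_subset.mp (hstrict P Q)
    have hzD : z ∈ FunFld.L D :=
      Groth.FunFld1.L_mono (sub_le_self _ (Finsupp.single_nonneg.mpr zero_le_one)) hz
    obtain ⟨σ, hσ⟩ := key i ⟨x, hx⟩ hi z hzD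
    set G := r.appLE _ (ToPn.U L s i) (ToPn.preimage_D hr hU i).ge σ
    have hmem : ∀ w ∈ ToPn.U L s i, (w ∈ X.basicOpen G ↔ r w ∈ (CohB1.ProjSpace n k).basicOpen σ) :=
      fun w hw => by
        rw [Scheme.basicOpen_appLE]
        exact ⟨fun hm => hm.2, fun hm => ⟨hw, hm⟩⟩
    have hP0 : x ∉ X.basicOpen G := by
      rw [mem_basicOpen_iff_val (k := k) h ⟨x, hx⟩ hi, not_not]
      have h1 := hz P
      rw [← hσ, map_mul, (mem_U_iff h s hφ hL i ⟨x, hx⟩).mp hi, Finsupp.sub_apply,
        Finsupp.single_eq_same, sub_eq_add_neg, exp_add, mul_comm (exp (D P))] at h1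
      exact (le_of_mul_le_mul_right h1 exp_pos).trans_lt (by
        rw [← exp_zero, exp_lt_exp]; norm_num)
    apply hP0
    rw [hmem x hi, show r x = r y from hxy, ← hmem y hi', mem_basicOpen_iff_val (k := k) h ⟨y, hy⟩ hi']
    intro hlt
    apply hzn
    intro R
    by_cases hR : R = Q
    · subst hR
      rw [← hσ, map_mul, (mem_U_iff h s hφ hL i ⟨y, hy⟩).mp hi', Finsupp.sub_apply,
        Finsupp.sub_apply, Finsupp.single_eq_of_ne hPQ.symm, Finsupp.single_eq_same, sub_zero,
        sub_eq_add_neg, exp_add, mul_comm (exp (D _))]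
      exact mul_le_mul' (Groth.FunFld1.lt_one_iff_le_exp_neg_one.mp hlt) le_rfl
    · rw [Finsupp.sub_apply _ (Finsupp.single Q 1), Finsupp.single_eq_of_ne hR, sub_zero]
      exact hz R
  · -- cotangent
    intro x hx
    obtain ⟨i, hi⟩ := Opens.mem_iSup.mp (hU.ge (Set.mem_univ x))
    set P := placeAt (k := k) h ⟨x, hx⟩ with hPdef
    obtain ⟨z, hz, hzn⟩ := Set.not_subset.mp (hstrict P P)
    have hzD : z ∈ FunFld.L D :=
      Groth.FunFld1.L_mono (sub_le_self _ (Finsupp.single_nonneg.mpr zero_le_one)) hz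
    obtain ⟨σ, hσ⟩ := key i ⟨x, hx⟩ hi z hzD
    have hxD : r x ∈ Proj.basicOpen (CohB1.polyGrading n k) (MvPolynomial.X i) :=
      (ToPn.preimage_D hr hU i).ge hi
    set g := r.stalkMap x ((CohB1.ProjSpace n k).presheaf.germ _ (r x) hxD σ) with hgdef
    have hgG : g = X.presheaf.germ (ToPn.U L s i) x hi
        (r.appLE _ (ToPn.U L s i) (ToPn.preimage_D hr hU i).ge σ) := by
      rw [hgdef, Scheme.Hom.germ_stalkMap_apply, Scheme.Hom.appLE, CommRingCat.comp_apply]
      exact (TopCat.Presheaf.germ_res_apply X.presheaf _ x hi _).symm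
    have hgv : P.1 (algebraMap (X.presheaf.stalk x) X.functionField g) = exp (-1) := by
      rw [hgG, germ_generic]
      have h1 := hz P
      rw [← hσ, map_mul, (mem_U_iff h s hφ hL i ⟨x, hx⟩).mp hi, Finsupp.sub_apply,
        Finsupp.single_eq_same, sub_eq_add_neg, exp_add, mul_comm (exp (D P))] at h1
      refine le_antisymm (le_of_mul_le_mul_right h1 exp_pos) (not_lt.mp fun hlt => hzn fun R => ?_)
      by_cases hR : R = P
      · subst hR
        rw [← hσ, map_mul, (mem_U_iff h s hφ hL i ⟨x, hx⟩).mp hi, Finsupp.sub_apply,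
          Finsupp.sub_apply, Finsupp.single_eq_same,
          show D P - 1 - 1 = -2 + D P by ring, exp_add]
        refine mul_le_mul' ?_ le_rfl
        rcases eq_or_ne (P.1 (X.presheaf.germ (ToPn.U L s i) (genericPoint X) (generic_mem _ hi)
          (r.appLE _ (ToPn.U L s i) (ToPn.preimage_D hr hU i).ge σ))) 0 with h0 | h0
        · exact h0.trans_le zero_le
        · rw [← exp_log h0, exp_lt_exp] at hlt
          rw [← exp_log h0, exp_le_exp]
          omega
      · rw [Finsupp.sub_apply _ (Finsupp.single P 1), Finsupp.single_eq_of_ne hR, sub_zero]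
        exact hz R
    haveI := h.dvr (k := k) ⟨x, hx⟩
    have hgm : g ∈ IsLocalRing.maximalIdeal (X.presheaf.stalk x) := by
      rw [← placeAt_lt_one_iff (k := k) h ⟨x, hx⟩, ← hPdef, hgv, ← exp_zero, exp_lt_exp]
      norm_num
    have hmax : IsLocalRing.maximalIdeal (X.presheaf.stalk x) = Ideal.span {g} := by
      obtain ⟨ϖ, hϖ⟩ := IsDiscreteValuationRing.exists_irreducible (X.presheaf.stalk x)
      have hϖm := hϖ.maximalIdeal_eq
      have hv : P.1 (algebraMap (X.presheaf.stalk x) X.functionField ϖ) ≤ exp (-1) :=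
        Groth.FunFld1.lt_one_iff_le_exp_neg_one.mp ((placeAt_lt_one_iff h ⟨x, hx⟩ ϖ).mpr
          (hϖm ▸ Ideal.mem_span_singleton_self ϖ))
      rw [hϖm] at hgm ⊢
      obtain ⟨u, hu⟩ := Ideal.mem_span_singleton.mp hgm
      rw [hu, Ideal.span_singleton_mul_right_unit ?_]
      by_contra hnu
      have hu1 := Groth.FunFld1.lt_one_iff_le_exp_neg_one.mp ((placeAt_lt_one_iff (k := k) h ⟨x, hx⟩ u).mpr
        ((IsLocalRing.mem_maximalIdeal u).mpr hnu))
      have h2 := mul_le_mul' hv hu1
      rw [← map_mul, ← map_mul, ← hu, hgv, ← exp_add, exp_le_exp] at h2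
      omega
    refine le_antisymm (sup_le (Ideal.map_le_iff_le_comap.mpr fun a ha => ?_)
      (Ideal.pow_le_self two_ne_zero)) (le_sup_of_le_left ?_)
    · rw [Ideal.mem_comap, IsLocalRing.mem_maximalIdeal]
      exact map_nonunit (r.stalkMap x).hom a ha
    · rw [hmax, Ideal.span_le, Set.singleton_subset_iff]
      refine Ideal.mem_map_of_mem _ ?_
      rw [IsLocalRing.mem_maximalIdeal]
      intro hu
      exact (IsLocalRing.mem_maximalIdeal g).mp hgm (hu.map (r.stalkMap x).hom)

/-- A closed immersion separates points and tangents. -/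
theorem sep_of_isClosedImmersion [IsClosedImmersion r] (P Q : FunFld.Place k X.functionField) :
    FunFld.ell (D - Finsupp.single P 1 - Finsupp.single Q 1) + 2 = FunFld.ell D := by
  classical
  have hF := isFF k X h.dim
  have hnb : ∀ P : FunFld.Place k X.functionField,
      FunFld.ell (D - Finsupp.single P 1) + 1 = FunFld.ell D := fun P => by
    obtain ⟨x, rfl⟩ := placeAt_surjective (k := k) h P
    obtain ⟨i, hi⟩ := Opens.mem_iSup.mp (hU.ge (Set.mem_univ x.1))
    haveI := hF.finiteDimensional_L D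
    have h1 : FunFld.ell (D - Finsupp.single (placeAt (k := k) h x) 1) < FunFld.ell D := by
      refine Submodule.finrank_lt_finrank_of_lt (lt_of_le_not_ge
        (Groth.FunFld1.L_mono (sub_le_self _ (Finsupp.single_nonneg.mpr zero_le_one))) fun hle => ?_)
      have h2 := hle (zv_mem h hφ (s i)) (placeAt (k := k) h x)
      rw [(mem_U_iff h s hφ hL i x).mp hi, Finsupp.sub_apply, Finsupp.single_eq_same,
        exp_le_exp] at h2
      omega
    have h2 := ell_le_single_add h D (placeAt (k := k) h x)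
    omega
  suffices hmain : FunFld.ell (D - Finsupp.single P 1 - Finsupp.single Q 1) + 2 ≤ FunFld.ell D by
    have := hnb P
    have := ell_le_single_add h (D - Finsupp.single P 1) Q
    omega
  obtain ⟨x, rfl⟩ := placeAt_surjective (k := k) h P
  obtain ⟨y, rfl⟩ := placeAt_surjective (k := k) h Q
  set P := placeAt (k := k) h x with hPdef
  set Q := placeAt (k := k) h y with hQdef
  obtain ⟨i, hi⟩ := Opens.mem_iSup.mp (hU.ge (Set.mem_univ x.1))
  by_cases hiy : y.1 ∈ ToPn.U L s i
  swap
  · have hvy : Q.1 (zv φ (s i)) < exp (D Q) :=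
      lt_of_le_of_ne (zv_le h hφ (s i) y) fun e => hiy ((mem_U_iff h s hφ hL i y).mpr e)
    have hPQ : P ≠ Q := fun e => hiy (placeAt_injective h e ▸ hi)
    haveI := hF.finiteDimensional_L (D - Finsupp.single Q 1)
    have hmem : zv φ (s i) ∈ FunFld.L (D - Finsupp.single Q 1) := fun R => by
      by_cases hR : R = Q
      · subst hR
        rw [Finsupp.sub_apply, Finsupp.single_eq_same]
        rcases eq_or_ne (Q.1 (zv φ (s i))) 0 with h0 | h0
        · exact h0.trans_le zero_le
        · rw [← exp_log h0, exp_lt_exp] at hvy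
          rw [← exp_log h0, exp_le_exp]
          omega
      · rw [Finsupp.sub_apply, Finsupp.single_eq_of_ne hR, sub_zero]
        exact zv_mem h hφ (s i) R
    have h1 : FunFld.ell (D - Finsupp.single P 1 - Finsupp.single Q 1) <
        FunFld.ell (D - Finsupp.single Q 1) := by
      rw [sub_right_comm]
      refine Submodule.finrank_lt_finrank_of_lt (lt_of_le_not_ge
        (Groth.FunFld1.L_mono (sub_le_self _ (Finsupp.single_nonneg.mpr zero_le_one))) fun hle => ?_)
      have h2 := hle hmem P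
      rw [(mem_U_iff h s hφ hL i x).mp hi, Finsupp.sub_apply, Finsupp.sub_apply,
        Finsupp.single_eq_same, Finsupp.single_eq_of_ne hPQ, exp_le_exp] at h2
      simp only [← hPdef] at h2
      omega
    have := hnb Q
    omega
  set E := Finsupp.single P (1 : ℤ) + Finsupp.single Q 1 with hE
  by_contra hcon
  have hle : FunFld.L (D - Finsupp.single P 1) ≤ FunFld.L (D - E) := by
    rw [hE, sub_add_eq_sub_sub]
    haveI := hF.finiteDimensional_L (D - Finsupp.single P 1)
    refine (Submodule.eq_of_le_of_finrank_le (Groth.FunFld1.L_mono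
      (sub_le_self _ (Finsupp.single_nonneg.mpr zero_le_one))) ?_).ge
    have := hnb P
    unfold FunFld.ell at *
    omega
  have hEP : 1 ≤ E P := by
    rw [hE, Finsupp.add_apply, Finsupp.single_eq_same, Finsupp.single_apply]
    split_ifs <;> omega
  have hEQ : 1 ≤ E Q := by
    rw [hE, Finsupp.add_apply, Finsupp.single_eq_same, Finsupp.single_apply]
    split_ifs <;> omega
  let gi : Γ(X, ToPn.U L s i) →+* X.functionField :=
    (X.presheaf.germ (ToPn.U L s i) (genericPoint X) (generic_mem _ hi)).hom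
  have hreg : ∀ (f : Γ(X, ToPn.U L s i)) (w : Pt X), w.1 ∈ ToPn.U L s i →
      (placeAt (k := k) h w).1 (gi f) ≤ 1 := fun f w hw =>
    (placeAt_le_one_iff h w _).mpr ⟨_, germ_generic (ToPn.U L s i) w.1 hw f⟩
  let good : Γ(X, ToPn.U L s i) → Prop := fun f => ∃ a : k,
    P.1 (gi f - algebraMap k _ a) ≤ exp (-(E P)) ∧ Q.1 (gi f - algebraMap k _ a) ≤ exp (-(E Q))
  have hbase : ∀ a : k, gi (ToPn.baseMap (X ↘ Spec (CommRingCat.of k)) L s i a) =
      algebraMap k X.functionField a := fun a => germ_resX' _ _ _ _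
  have hgood : ∀ p : MvPolynomial (Fin (n + 1)) k,
      good (MvPolynomial.eval₂ (ToPn.baseMap (X ↘ Spec (CommRingCat.of k)) L s i)
        (ToPn.c L s i) p) := by
    have hmul : ∀ (R : FunFld.Place k X.functionField) (f g : X.functionField) (a b : k) (e : ℤ),
        R.1 g ≤ 1 → R.1 (f - algebraMap k _ a) ≤ exp e → R.1 (g - algebraMap k _ b) ≤ exp e →
        R.1 (f * g - algebraMap k _ (a * b)) ≤ exp e := fun R f g a b e hg hf hgb => by
      rw [show f * g - algebraMap k _ (a * b) = (f - algebraMap k _ a) * g +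
        algebraMap k _ a * (g - algebraMap k _ b) by rw [map_mul]; ring]
      refine R.1.map_add_le ?_ ?_
      · rw [map_mul]; exact (mul_le_of_le_one_right' hg).trans hf
      · rw [map_mul]; exact (mul_le_of_le_one_left' (val_algebraMap_le R a)).trans hgb
    intro p
    induction p using MvPolynomial.induction_on with
    | C a => exact ⟨a, by simp [hbase], by simp [hbase]⟩
    | add p q hp hq =>
      obtain ⟨a, ha, ha'⟩ := hp
      obtain ⟨b, hb, hb'⟩ := hq
      refine ⟨a + b, ?_, ?_⟩ <;>
        rw [MvPolynomial.eval₂_add, map_add, map_add, add_sub_add_comm]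
      · exact P.1.map_add_le ha hb
      · exact Q.1.map_add_le ha' hb'
    | mul_X p l hp =>
      obtain ⟨a, ha, ha'⟩ := hp
      obtain ⟨b, hb⟩ := exists_const_sub_lt_one (deg_eq_one_of_isAlgClosed hF P)
        (hreg (ToPn.c L s i l) x hi)
      have hz : zv φ (s l) - algebraMap k _ b * zv φ (s i) ∈
          FunFld.L (D - Finsupp.single P 1) := fun R => by
        by_cases hR : R = P
        · subst hR
          rw [zv_coord s i l (generic_mem _ hi), ← sub_mul, map_mul,
            (mem_U_iff h s hφ hL i x).mp hi, Finsupp.sub_apply, Finsupp.single_eq_same,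
            sub_eq_add_neg (D _), exp_add, mul_comm (exp (D _))]
          exact mul_le_mul' (Groth.FunFld1.lt_one_iff_le_exp_neg_one.mp hb) le_rfl
        · rw [Finsupp.sub_apply, Finsupp.single_eq_of_ne hR, sub_zero]
          refine R.1.map_sub_le (zv_mem h hφ (s l) R) ?_
          rw [map_mul]
          exact (mul_le_of_le_one_left' (val_algebraMap_le R b)).trans (zv_mem h hφ (s i) R)
      have hc : ∀ w : Pt X, w.1 ∈ ToPn.U L s i → (placeAt (k := k) h w).1
          (gi (ToPn.c L s i l) - algebraMap k _ b) ≤ exp (-(E (placeAt (k := k) h w))) := by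
        intro w hw
        have h1 := hle hz (placeAt (k := k) h w)
        rw [zv_coord s i l (generic_mem _ hi), ← sub_mul, map_mul, (mem_U_iff h s hφ hL i w).mp hw,
          Finsupp.sub_apply, sub_eq_add_neg (D _), exp_add, mul_comm (exp (D _))] at h1
        exact le_of_mul_le_mul_right h1 exp_pos
      refine ⟨a * b, ?_, ?_⟩ <;> rw [MvPolynomial.eval₂_mul, MvPolynomial.eval₂_X, map_mul]
      · exact hmul P _ _ a b _ (hreg _ x hi) ha (hc x hi)
      · exact hmul Q _ _ a b _ (hreg _ y hiy) ha' (hc y hiy)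
  have hall : ∀ f : Γ(X, ToPn.U L s i), good f := fun f => by
    have hD := Proj.isAffineOpen_basicOpen (CohB1.polyGrading n k) _ (ToPn.X_mem i) one_pos
    obtain ⟨τ, hτ⟩ := r.app_surjective _ hD
      (resX X (ToPn.preimage_D hr hU i).le f)
    obtain ⟨w, hw⟩ := (ConcreteCategory.bijective_of_isIso
      (Proj.basicOpenIsoAway (CohB1.polyGrading n k) (MvPolynomial.X i) (ToPn.X_mem i) one_pos).hom).2 τ
    obtain ⟨d, p, hp, rfl⟩ := HomogeneousLocalization.Away.mk_surjective _ (ToPn.X_mem i) w
    have he : f = ToPn.α (X ↘ Spec (CommRingCat.of k)) L s i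
        (HomogeneousLocalization.Away.mk _ (ToPn.X_mem i) d p hp) := by
      rw [← ToPn.appLE_awayToSection hr i (ToPn.preimage_D hr hU i).ge, Scheme.Hom.appLE,
        CommRingCat.comp_apply]
      change f = resX X _ (r.app _ _)
      refine Eq.trans ?_ (congrArg (fun t => resX X _ (r.app _ t)) hw.symm)
      rw [hτ]
      exact ((resX_resX _ _ _).trans (resX_self _ _)).symm
    rw [he, ToPn.α, ToPn.chart_mk]
    exact hgood p
  haveI : @IsAffineHom X (Proj (CohB1.polyGrading n k)) r :=
    (isClosedImmersion_iff_isAffineHom.mp (inferInstanceAs (IsClosedImmersion r))).1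
  have haff : IsAffineOpen (ToPn.U L s i) := ToPn.preimage_D hr hU i ▸
    (Proj.isAffineOpen_basicOpen (CohB1.polyGrading n k) _ (ToPn.X_mem i) one_pos).preimage r
  have hconst : ∀ (R : FunFld.Place k X.functionField) (f : X.functionField) (a : k) (e : ℤ),
      1 ≤ e → R.1 f < 1 → R.1 (f - algebraMap k _ a) ≤ exp (-e) → a = 0 := fun R f a e he hf ha => by
    by_contra h0
    have h1 : R.1 (f - algebraMap k _ a) = 1 := by
      rw [sub_eq_add_neg, Valuation.map_add_eq_of_lt_right _ (by
        rw [Valuation.map_neg, val_algebraMap R h0]; exact hf), Valuation.map_neg,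
        val_algebraMap R h0]
    rw [h1, one_le_exp] at ha
    omega
  by_cases hPQ : P = Q
  · haveI := h.dvr (k := k) x
    obtain ⟨t, ht⟩ := exists_val_eq_exp P (-1)
    obtain ⟨g, hg⟩ := (placeAt_le_one_iff h x t).mp (by
      rw [← hPdef, ht, ← exp_zero, exp_le_exp]; norm_num)
    letI := TopCat.Presheaf.algebra_section_stalk X.presheaf (⟨x.1, hi⟩ : ToPn.U L s i)
    haveI := haff.isLocalization_stalk ⟨x.1, hi⟩
    obtain ⟨⟨f, m⟩, hfm⟩ := IsLocalization.surj (haff.primeIdealOf ⟨x.1, hi⟩).asIdeal.primeCompl g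
    have hv : P.1 (gi f) = exp (-1) := by
      have h1 := congrArg (fun z => P.1 (algebraMap (X.presheaf.stalk x.1) X.functionField z)) hfm
      have hu := (IsLocalization.map_units (X.presheaf.stalk x.1) m)
      have h2 : P.1 (algebraMap (X.presheaf.stalk x.1) X.functionField
          (algebraMap Γ(X, ToPn.U L s i) (X.presheaf.stalk x.1) m)) = 1 := by
        refine le_antisymm ((placeAt_le_one_iff h x _).mpr ⟨_, rfl⟩) (not_lt.mp fun hlt => ?_)
        exact (IsLocalRing.mem_maximalIdeal _).mp ((placeAt_lt_one_iff h x _).mp hlt) hu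
      simp only [map_mul] at h1
      rw [h2, hg, ht, mul_one] at h1
      rw [h1]
      exact congrArg P.1 (germ_generic (ToPn.U L s i) x.1 hi f).symm
    obtain ⟨a, ha, -⟩ := hall f
    have hlt : P.1 (gi f) < 1 := by rw [hv, ← exp_zero, exp_lt_exp]; norm_num
    rw [hconst P _ a _ hEP hlt ha, map_zero, sub_zero, hv, exp_le_exp,
      hE, Finsupp.add_apply, Finsupp.single_eq_same, hPQ, Finsupp.single_eq_same] at ha
    omega
  · have hxy : x.1 ≠ y.1 := fun e => hPQ (by rw [hPdef, hQdef, Subtype.ext e])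
    obtain ⟨f, hfV, hfx⟩ := haff.exists_basicOpen_le
      (V := ⟨({y.1} : Set X)ᶜ, y.2.isOpen_compl⟩) ⟨x.1, hxy⟩ hi
    have hlt : Q.1 (gi f) < 1 := by
      by_contra hn
      exact hfV ((mem_basicOpen_iff_val (k := k) h y hiy f).mpr hn) rfl
    obtain ⟨a, ha, ha'⟩ := hall f
    rw [hconst Q _ a _ hEQ hlt ha', map_zero, sub_zero] at ha
    refine (mem_basicOpen_iff_val (k := k) h x hi f).mp hfx (lt_of_le_of_lt ha ?_)
    rw [← exp_zero, exp_lt_exp]
    omega

end Imm

variable [IsAlgClosed k]
include hK hφ hL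

/-- Very ampleness is separation by the Riemann–Roch spaces. -/
theorem exists_closedImmersion_iff :
    (∃ (m : ℕ) (i : X ⟶ CohB1.ProjSpace m k), IsClosedImmersion i ∧
        i ≫ CohB1.ProjSpace.toSpec m k = (X ↘ Spec (CommRingCat.of k)) ∧
        Nonempty ((Scheme.Modules.pullback i).obj (Twist.twistProjSpace m k 1) ≅ L)) ↔
      ∀ P Q, FunFld.ell (D - Finsupp.single P 1 - Finsupp.single Q 1) + 2 = FunFld.ell D := by
  constructor
  · rintro ⟨m, i, hi, hover, ⟨e⟩⟩ P Q
    let hgen : Algebra.adjoin k (Set.range fun l : Fin (m + 1) =>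
        (MvPolynomial.X l : MvPolynomial (Fin (m + 1)) k)) = ⊤ := MvPolynomial.adjoin_range_X
    let t : Fin (m + 1) → ProjUP.Γm L := fun l =>
      e.hom.app ⊤ (ProjUP.pullSec i (ToPn.O1 m k) (ToPn.co m k l))
    have hI := ToPn.twist_isInvertible (R := k) (n := m)
    have hUl : ∀ l, ToPn.U L t l = i ⁻¹ᵁ Proj.basicOpen _ (MvPolynomial.X l) := fun l => by
      change Groth.PropsBasic.Ample.gloc (t l) = _
      rw [Groth.PropsBasic.Ample.gloc_map e.hom]
      exact (Groth.PropsBasic.Ample.gloc_pullSec i hI _).trans (congrArg (i ⁻¹ᵁ ·)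
        (ProjUnique.gloc_co (𝒮 := CohB1.polyGrading m k) (fun l => ToPn.X_mem l) hgen l))
    have hU : ⨆ l, ToPn.U L t l = ⊤ := by
      simp only [hUl]
      rw [← Scheme.Hom.preimage_iSup]
      exact (congrArg (i ⁻¹ᵁ ·) (Proj.iSup_basicOpen_eq_top (CohB1.polyGrading m k) _
        ToPn.irrelevant_le_span_X)).trans rfl
    obtain ⟨r, hr⟩ := ToPn.exists_r (X ↘ Spec (CommRingCat.of k)) L t hU
    obtain ⟨τ, hτ⟩ := ToPn.exists_tau hr hU
    have heq : i = r := ProjUnique.hom_eq (𝒮 := CohB1.polyGrading m k) (fun l => ToPn.X_mem l) hgen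
      i r (hover.trans (ToPn.r_toSpec hr hU).symm) (e ≪≫ τ.symm) fun l => by
        change τ.inv.app ⊤ (t l) = _
        rw [← hτ l, ← CategoryTheory.comp_apply, ← Scheme.Modules.Hom.comp_app, Iso.hom_inv_id]
        rfl
    subst heq
    exact sep_of_isClosedImmersion h t hK hφ hL hr hU P Q
  · intro hsep
    haveI := hφ.1
    have hF := isFF k X h.dim
    haveI := hF.finiteDimensional_L D
    obtain ⟨P₀⟩ := hF.nonempty_place
    have hell := hsep P₀ P₀
    obtain ⟨m, hm⟩ : ∃ m, FunFld.ell D = m + 1 := ⟨FunFld.ell D - 1, by omega⟩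
    let b := Module.finBasisOfFinrankEq k (FunFld.L D) hm
    have hsec : ∀ l, ∃ t : Γ(L, (⊤ : X.Opens)), zv φ t = (b l : X.functionField) := fun l => by
      obtain ⟨t, ht⟩ := exists_section_of_inStalk φ ⊤ (b l : X.functionField) fun y _ => by
        by_cases hy : y = genericPoint X
        · subst hy; exact inStalk_generic φ hL _
        · exact (hφ.2 ⟨y, (isClosed_singleton_iff X h.dim y).mpr hy⟩ _).mpr ((b l).2 _)
      exact ⟨t, ht trivial⟩
    choose t ht using hsec
    have hspan : FunFld.L D ≤ Submodule.span k (Set.range fun l => zv φ (t l)) := fun z hz => by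
      rw [Submodule.mem_span_range_iff_exists_fun]
      refine ⟨b.repr ⟨z, hz⟩, ?_⟩
      simp only [ht]
      have he := congrArg Subtype.val (b.sum_repr ⟨z, hz⟩)
      rw [Submodule.coe_sum] at he
      exact he
    have hU : ⨆ l, ToPn.U L t l = ⊤ := by
      refine eq_top_iff.mpr fun y _ => Opens.mem_iSup.mpr ?_
      have key : ∀ x : Pt X, ∃ l, x.1 ∈ ToPn.U L t l := fun x => by
        by_contra! hc
        set P := placeAt (k := k) h x
        have hle : FunFld.L D ≤ FunFld.L (D - Finsupp.single P 1) := hspan.trans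
          (Submodule.span_le.mpr (by
            rintro _ ⟨l, rfl⟩ R
            by_cases hR : R = P
            · subst hR
              rw [Finsupp.sub_apply, Finsupp.single_eq_same]
              have hlt := lt_of_le_of_ne (zv_le h hφ (t l) x)
                fun e => hc l ((mem_U_iff h t hφ hL l x).mpr e)
              change P.1 _ < exp (D P) at hlt
              rcases eq_or_ne (P.1 (zv φ (t l))) 0 with h0 | h0
              · exact h0.trans_le zero_le
              · rw [← exp_log h0, exp_lt_exp] at hlt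
                rw [← exp_log h0, exp_le_exp]
                omega
            · rw [Finsupp.sub_apply, Finsupp.single_eq_of_ne hR, sub_zero]
              exact zv_mem h hφ (t l) R))
        haveI := hF.finiteDimensional_L (D - Finsupp.single P 1)
        have h1 := Submodule.finrank_mono hle
        have h2 := hsep P P
        have h3 := ell_le_single_add h (D - Finsupp.single P 1) P
        unfold FunFld.ell at *
        omega
      by_cases hy : y = genericPoint X
      · obtain ⟨l, hl⟩ := key ((placeEquiv (k := k) h).symm P₀)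
        exact ⟨l, hy ▸ generic_mem _ hl⟩
      · exact key ⟨y, (isClosed_singleton_iff X h.dim y).mpr hy⟩
    obtain ⟨r, hr⟩ := ToPn.exists_r (X ↘ Spec (CommRingCat.of k)) L t hU
    obtain ⟨τ, -⟩ := ToPn.exists_tau hr hU
    exact ⟨m, r, isClosedImmersion_of_sep h t hK hφ hL hr hU hspan hsep, ToPn.r_toSpec hr hU, ⟨τ⟩⟩

end Groth.CurveBridge
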