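import Groth.Agent.CurveBridge.Tensor
import Groth.Agent.CurveBridge.Clifford
import Groth.Agent.VarietyBC.GGen

/-!
Numerics of embedded invertible modules under tensor products and point twists.
-/

set_option linter.style.haveILetI false
set_option linter.unusedSectionVars false

universe u

open CategoryTheory AlgebraicGeometry Opposite TopologicalSpace WithZero
open Groth.PicAux

namespace Groth.CurveBridge

variable {k : Type u} [Field k] {X : Scheme.{u}} [X.Over (Spec (CommRingCat.of k))] [IsIntegral X]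
  [IsProper (X ↘ Spec (CommRingCat.of k))] (h : IsRegCurve X)
  (hK : FunFld.IsFunctionField k X.functionField)
include h hK

/-- The numerics are those of any divisor of the module. -/
theorem numerics_of_divEmb {L : X.Modules} (hL : PicF.IsInvertible L) {φ : L ⟶ constK X}
    {D : FunFld.Divisor k X.functionField} (hφ : IsDivEmb h φ D) :
    Module.finrank k (Coh.HH X L 0) = FunFld.ell D ∧ Curv2.deg k X L 1 = D.deg ∧
      (Module.finrank k (Coh.HH X L 1) : ℤ) =
        (FunFld.ell D : ℤ) - (D.deg + 1 - Curv2.genus k X) := by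
  obtain ⟨L', φ', U₀, hU₀, e₀, hL', hφ₀, hm, hD⟩ := exists_invertible_embedding (k := k) h D
  obtain ⟨e⟩ := nonempty_iso_of_divEmb h hL hL' hφ ⟨hm, hD⟩
  obtain ⟨e0⟩ := nonempty_h0_equiv φ' h hU₀ hφ₀ hD
  obtain ⟨e1⟩ := nonempty_h1_equiv φ' h hU₀ hφ₀ hD
  obtain ⟨-, hq⟩ := Groth.FunFld1.adele_quotient hK D
  rw [e1.finrank_eq, ← genus_eq h hK] at hq
  unfold Groth.FunFld1.delta at hq
  have h0 : Module.finrank k (Coh.HH X L 0) = FunFld.ell D :=
    (Groth.EulerDeg.finrank_congr e 0).trans e0.finrank_eq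
  have h1 : Module.finrank k (Coh.HH X L 1) = Module.finrank k (Coh.HH X L' 1) :=
    Groth.EulerDeg.finrank_congr e 1
  refine ⟨h0, ?_, by rw [h1]; linarith⟩
  unfold Curv2.deg
  rw [euler_structure h hK, Groth.EulerDeg.euler_eq_sub fun n hn => subsingleton_HH k h L hn, h0, h1]
  push_cast
  linarith

/-- The degree is additive on tensor products. -/
theorem deg_tensor_add {L M : X.Modules} (hL : PicF.IsInvertible L) (hM : PicF.IsInvertible M) :
    Curv2.deg k X (CohB1.tensorMod L M) 1 = Curv2.deg k X L 1 + Curv2.deg k X M 1 := by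
  obtain ⟨φ, D, hφ, -, hdD, -⟩ := exists_divEmb h hK hL
  obtain ⟨ψ, E, hψ, -, hdE, -⟩ := exists_divEmb h hK hM
  obtain ⟨χ, hχ⟩ := exists_divEmb_tensor h hL hM hφ hψ
  rw [(numerics_of_divEmb h hK (isInvertible_tensorMod hL hM) hχ).2.1, hdD, hdE,
    Groth.FunFld1.deg_add]

/-- Twisting by the ideal of a closed point subtracts the place. -/
theorem exists_divEmb_twist_point {L : X.Modules} (hL : PicF.IsInvertible L) {φ : L ⟶ constK X}
    {D : FunFld.Divisor k X.functionField} (hφ : IsDivEmb h φ D) (x : Pt X) :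
    PicF.IsInvertible
        (CohB1.tensorMod L (ClSub.idealMod (Scheme.IdealSheafData.vanishingIdeal ⟨{x.1}, x.2⟩))) ∧
      ∃ χ : CohB1.tensorMod L (ClSub.idealMod (Scheme.IdealSheafData.vanishingIdeal ⟨{x.1}, x.2⟩)) ⟶
          constK X,
        IsDivEmb h χ (D - Finsupp.single (placeAt (k := k) h x) 1) := by
  obtain ⟨hI, χ₀, hχ₀⟩ := exists_divEmb_pointIdeal (k := k) h x
  refine ⟨isInvertible_tensorMod hL hI, ?_⟩
  obtain ⟨χ, hχ⟩ := exists_divEmb_tensor h hL hI hφ hχ₀
  exact ⟨χ, by rwa [sub_eq_add_neg]⟩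

omit hK in
theorem ell_le_single_add [IsAlgClosed k] (D : FunFld.Divisor k X.functionField)
    (P : FunFld.Place k X.functionField) :
    FunFld.ell D ≤ FunFld.ell (D - Finsupp.single P 1) + 1 := by
  have hF := isFF k X h.dim
  have := hF.ell_sub_le (D := D - Finsupp.single P 1) (E := D)
    (sub_le_self _ (Finsupp.single_nonneg.mpr zero_le_one))
  rw [Groth.FunFld1.deg_sub, Groth.FunFld1.deg_single,
    Groth.FunFld1.deg_eq_one_of_isAlgClosed hF P] at this
  omega

/-- A globally generated module has no base places. -/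
theorem ell_lt_of_isGloballyGenerated {L : X.Modules} (hL : PicF.IsInvertible L)
    (hgg : Curv2.IsGloballyGenerated L) {φ : L ⟶ constK X} {D : FunFld.Divisor k X.functionField}
    (hφ : IsDivEmb h φ D) (P : FunFld.Place k X.functionField) :
    FunFld.ell (D - Finsupp.single P 1) < FunFld.ell D := by
  classical
  haveI := hφ.1
  haveI := (isFF k X h.dim).finiteDimensional_L D
  have hmono : FunFld.L (D - Finsupp.single P 1) ≤ FunFld.L D :=
    Groth.FunFld1.L_mono (sub_le_self _ (Finsupp.single_nonneg.mpr zero_le_one))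
  refine Submodule.finrank_lt_finrank_of_lt (lt_of_le_of_ne hmono fun heq => ?_)
  let x : Pt X := (placeEquiv (k := k) h).symm P
  have hxP : placeAt (k := k) h x = P := (placeEquiv (k := k) h).apply_symm_apply P
  -- all global sections lie in the twist by the point
  obtain ⟨U, e, hxU, he⟩ := (isInvertible_iff_exists_gen L).1 hL x.1
  have hηU := generic_mem U hxU
  have hw : P.1 (kv hηU (φ.app U e)) = exp (D P) := by
    refine le_antisymm (hxP ▸ (hφ.2 x _).mp ⟨U, hxU, e, rfl⟩) ?_
    obtain ⟨z, hz⟩ := Groth.FunFld1.exists_val_eq_exp P (D P)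
    obtain ⟨c, hc⟩ := (inStalk_iff_of_gen φ hxU he z).mp ((hφ.2 x z).mpr (hxP ▸ hz.le))
    rw [← hz, ← hc, map_mul]
    refine (mul_le_mul' ?_ le_rfl).trans_eq (one_mul _)
    rw [← hxP, placeAt_le_one_iff]
    exact ⟨c, rfl⟩
  obtain ⟨t, ht⟩ := Groth.VarietyBC.GGen.exists_mem_gloc hL hgg x.1
  obtain ⟨c, hc⟩ := he.exists_coeff le_rfl (res L (le_top : U ≤ ⊤) t)
  rw [res_self] at hc
  have hcu : IsUnit (X.presheaf.germ U x.1 hxU c) := by
    rw [← Scheme.mem_basicOpen X c x.1 hxU, ← Groth.PropsBasic.Ample.gloc_inf_eq_basicOpen he hc]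
    exact ⟨ht, hxU⟩
  have hval : P.1 (algebraMap (X.presheaf.stalk x.1) X.functionField (X.presheaf.germ U x.1 hxU c)) = 1 := by
    refine le_antisymm ?_ (not_lt.mp fun hlt => ?_)
    · rw [← hxP, placeAt_le_one_iff]; exact ⟨_, rfl⟩
    · rw [← hxP, placeAt_lt_one_iff, IsLocalRing.mem_maximalIdeal] at hlt
      exact hlt hcu
  set z := kv (U := ⊤) trivial (φ.app ⊤ t) with hz
  have hzL : z ∈ FunFld.L D := fun Q => by
    have := (hφ.2 ((placeEquiv (k := k) h).symm Q) z).mp ⟨⊤, trivial, t, rfl⟩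
    rwa [show placeAt (k := k) h ((placeEquiv (k := k) h).symm Q) = Q from
      (placeEquiv (k := k) h).apply_symm_apply Q] at this
  have h1 := congrArg (fun s => kv hηU (φ.app U s)) hc
  rw [app_res, kv_res, Scheme.Modules.Hom.app_smul, kv_smul, ← germ_generic U x.1 hxU c] at h1
  have h2 : P.1 z = exp (D P) := by
    rw [hz, h1, map_mul, hval, hw, one_mul]
  rw [← heq] at hzL
  have h3 := hzL P
  rw [h2, Finsupp.sub_apply, Finsupp.single_eq_same, exp_le_exp] at h3
  omega

end Groth.CurveBridge
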