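import Groth.Agent.CurveBridge.Canonical
import Groth.Agent.CurveBridge.SmoothCurve
import Groth.Agent.CurveBridge.TensorNumerics
import Groth.Agent.HilbStab.BC.CurvBC
import Groth.Agent.OmegaSheaf.Pull
import Groth.Agent.PicAux.PicLaw
import Groth.Agent.PicAux.KummerCover
import Groth.Agent.FBaseGeom.Dim
import Groth.Agent.CohBase.IsoNearFibre
import Groth.Agent.EulerDeg.FiniteSupport
import Mathlib.FieldTheory.IsAlgClosed.AlgebraicClosure

/-!
Smooth proper curves over any field: passing to the algebraic closure.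
-/

set_option linter.style.haveILetI false
set_option linter.unusedSectionVars false

universe u

open CategoryTheory AlgebraicGeometry Opposite TopologicalSpace

namespace Groth.CurveBridge

variable (k : Type u) [Field k] (X : Scheme.{u}) [X.Over (Spec (CommRingCat.of k))]

/-- The curve over the algebraic closure. -/
noncomputable abbrev Xb : Scheme.{u} := Curv2.bc k X (AlgebraicClosure k)

/-- The projection. -/
noncomputable abbrev proj : Xb k X ⟶ X := Curv2.bcFst k X (AlgebraicClosure k)

noncomputable scoped instance overBar : (Xb k X).Over (Spec (CommRingCat.of (AlgebraicClosure k))) :=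
  ⟨Curv2.bcSnd k X (AlgebraicClosure k)⟩

instance surjective_proj : Surjective (proj k X) := by
  haveI : Surjective (Spec.map (CommRingCat.ofHom (algebraMap k (AlgebraicClosure k)))) :=
    ⟨fun z => ⟨IsLocalRing.closedPoint _, Subsingleton.elim _ _⟩⟩
  exact MorphismProperty.pullback_fst (P := @Surjective) _ _ inferInstance

variable [IsProper (X ↘ Spec (CommRingCat.of k))]

instance isProper_bar : IsProper (Xb k X ↘ Spec (CommRingCat.of (AlgebraicClosure k))) :=
  MorphismProperty.pullback_snd (P := @IsProper) _ _ inferInstance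

theorem isBC_proj : Groth.CohBase.IsBC (A := k) (A' := AlgebraicClosure k) (proj k X) :=
  Groth.HilbStab.BC.isBC_bc k X (AlgebraicClosure k)

theorem finrank_bc (F : X.Modules) [F.IsQuasicoherent] (p : ℕ) :
    Module.finrank (AlgebraicClosure k)
        (Coh.HH (Xb k X) ((Scheme.Modules.pullback (proj k X)).obj F) p) =
      Module.finrank k (Coh.HH X F p) := by
  haveI : CompactSpace X := QuasiCompact.compactSpace_of_compactSpace (X ↘ Spec (CommRingCat.of k))
  haveI := Groth.HilbStab.BC.isSeparated_of_proper k X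
  exact Groth.HilbStab.BC.finrank_HH_baseChange (isBC_proj k X) F p

theorem isQuasicoherent_structure : (Coh.structureModule X).IsQuasicoherent :=
  (Groth.EulerDeg.isCoh_of_isInvertible (Groth.EulerDeg.isInvertible_structureModule X)).1

theorem finrank_structure_bc (p : ℕ) :
    Module.finrank (AlgebraicClosure k) (Coh.HH (Xb k X) (Coh.structureModule (Xb k X)) p) =
      Module.finrank k (Coh.HH X (Coh.structureModule X) p) := by
  haveI := isQuasicoherent_structure X
  obtain ⟨e⟩ := Groth.PicAux.pullback_structure_iso (proj k X)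
  rw [← finrank_bc k X (Coh.structureModule X) p]
  exact (Groth.EulerDeg.finrank_congr e p).symm

theorem genus_bc : Curv2.genus (AlgebraicClosure k) (Xb k X) = Curv2.genus k X :=
  finrank_structure_bc k X 1

theorem euler_bc (F : X.Modules) [F.IsQuasicoherent] :
    Curv2.euler (AlgebraicClosure k) (Xb k X) ((Scheme.Modules.pullback (proj k X)).obj F) =
      Curv2.euler k X F :=
  Groth.HilbStab.BC.euler_bc k X (AlgebraicClosure k) F

theorem deg_bc (F : X.Modules) [F.IsQuasicoherent] (n : ℕ) :
    Curv2.deg (AlgebraicClosure k) (Xb k X) ((Scheme.Modules.pullback (proj k X)).obj F) n =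
      Curv2.deg k X F n := by
  haveI := isQuasicoherent_structure X
  obtain ⟨e⟩ := Groth.PicAux.pullback_structure_iso (proj k X)
  unfold Curv2.deg
  rw [euler_bc k X F, ← euler_bc k X (Coh.structureModule X), Groth.EulerDeg.euler_congr (AlgebraicClosure k) e]

variable [Smooth (X ↘ Spec (CommRingCat.of k))]

instance smooth_bar : Smooth (Xb k X ↘ Spec (CommRingCat.of (AlgebraicClosure k))) :=
  MorphismProperty.pullback_snd (P := @Smooth) _ _ inferInstance

theorem isIntegral_bar (h0 : Module.finrank k (Coh.HH X (Coh.structureModule X) 0) = 1) :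
    IsIntegral (Xb k X) := by
  have h1 := (finrank_structure_bc k X 0).trans h0
  letI := Groth.EulerDeg.secModule (AlgebraicClosure k) (Coh.structureModule (Xb k X)) ⊤
  rw [(Groth.EulerDeg.h0Equiv (AlgebraicClosure k) (Coh.structureModule (Xb k X))).finrank_eq] at h1
  haveI : Nontrivial Γ(Xb k X, ⊤) := by
    haveI : Nontrivial Γ(Coh.structureModule (Xb k X), (⊤ : (Xb k X).Opens)) :=
      Module.nontrivial_of_finrank_eq_succ h1
    obtain ⟨a, b, hab⟩ := exists_pair_ne Γ(Coh.structureModule (Xb k X), (⊤ : (Xb k X).Opens))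
    exact ⟨Groth.PicAux.toFun a, Groth.PicAux.toFun b, fun he => hab he⟩
  have hne : Groth.PicAux.oneSec (Xb k X) ⊤ ≠ 0 := fun he => by
    have := congrArg Groth.PicAux.toFun he
    rw [Groth.PicAux.toFun_oneSec] at this
    exact (one_ne_zero (α := Γ(Xb k X, ⊤))) (this.trans (by rfl))
  have hall : ∀ a : Γ(Xb k X, ⊤), ∃ c : AlgebraicClosure k,
      Groth.EulerDeg.toSec (AlgebraicClosure k) ⊤ c = a := fun a => by
    obtain ⟨c, hc⟩ := (finrank_eq_one_iff_of_nonzero' _ hne).mp h1
      (a • Groth.PicAux.oneSec (Xb k X) ⊤)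
    refine ⟨c, ?_⟩
    rw [Groth.EulerDeg.smul_sec] at hc
    have := congrArg Groth.PicAux.toFun hc
    rwa [Groth.PicAux.toFun_smul, Groth.PicAux.toFun_smul, Groth.PicAux.toFun_oneSec, mul_one,
      mul_one] at this
  have hfield : IsField (Γ(Xb k X, ⊤) : Type u) := MulEquiv.isField (Field.toIsField (AlgebraicClosure k))
    (RingEquiv.ofBijective (Groth.EulerDeg.toSec (AlgebraicClosure k) (⊤ : (Xb k X).Opens))
      ⟨RingHom.injective _, hall⟩).symm.toMulEquiv
  haveI := Groth.PicAux.connectedSpace_of_isField hfield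
  exact isIntegral_of_smooth (AlgebraicClosure k) (Xb k X)

theorem isRegCurve_bar (hdim : topologicalKrullDim X = 1) : IsRegCurve (Xb k X) := by
  refine isRegCurve_of_smooth (AlgebraicClosure k) (Xb k X) ?_
  exact (Groth.FBaseGeom.dim_bc (X ↘ Spec (CommRingCat.of k)) (AlgebraicClosure k)).trans hdim

/-- The differentials pull back to the differentials. -/
theorem nonempty_omega_bc :
    Nonempty ((Scheme.Modules.pullback (proj k X)).obj (Omega.sheaf (X ↘ Spec (CommRingCat.of k))) ≅
      Omega.sheaf (Xb k X ↘ Spec (CommRingCat.of (AlgebraicClosure k)))) :=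
  Groth.OmegaSheaf.nonempty_pullback_iso (isBC_proj k X)
    (Groth.OmegaSheaf.isUniversal_dOmega (X ↘ Spec (CommRingCat.of k)))
    (Groth.OmegaSheaf.isUniversal_dOmega (Xb k X ↘ Spec (CommRingCat.of (AlgebraicClosure k))))

variable (hdim : topologicalKrullDim X = 1)
  (h0 : Module.finrank k (Coh.HH X (Coh.structureModule X) 0) = 1)
include hdim h0

/-- The differentials are invertible. -/
theorem isInvertible_omega_field : PicF.IsInvertible (Omega.sheaf (X ↘ Spec (CommRingCat.of k))) := by
  haveI := isIntegral_bar k X h0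
  have hΩ := (Groth.LocFree.isInvertible_iff_ofRank_one).mp (isInvertible_omega
    (k := AlgebraicClosure k) (X := Xb k X) (isFunctionField (isRegCurve_bar k X hdim).dim))
  obtain ⟨e⟩ := nonempty_omega_bc k X
  rw [Groth.LocFree.isInvertible_iff_ofRank_one, Groth.LocFree.isFinLocFreeOfRank_iff]
  intro x
  obtain ⟨U, n, hx, ⟨e'⟩⟩ := Groth.OmegaSheaf.isFinLocFree_sheaf (X ↘ Spec (CommRingCat.of k)) x
  obtain ⟨s, hs⟩ := Groth.LocFree.exists_basis_of_iso e'
  obtain ⟨y, rfl⟩ := (proj k X).surjective x
  obtain ⟨V, t, hyV, ht⟩ := Groth.LocFree.isFinLocFreeOfRank_iff.mp hΩ y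
  have h1 := ((hs.pull (proj k X)).map e.hom).res'
    (inf_le_left : (proj k X) ⁻¹ᵁ U ⊓ V ≤ (proj k X) ⁻¹ᵁ U)
  have h2 := ht.res' (inf_le_right : (proj k X) ⁻¹ᵁ U ⊓ V ≤ V)
  obtain rfl := Groth.CohBase.rank_eq_of_basis' (x := y)
    (show y ∈ (proj k X) ⁻¹ᵁ U ⊓ V from ⟨hx, hyV⟩) h1 h2
  exact ⟨U, s, hx, hs⟩

/-- Numerics of the differentials over any field. -/
theorem omega_numerics_field :
    Module.finrank k (Coh.HH X (Omega.sheaf (X ↘ Spec (CommRingCat.of k))) 0) = Curv2.genus k X ∧
      Module.finrank k (Coh.HH X (Omega.sheaf (X ↘ Spec (CommRingCat.of k))) 1) = 1 ∧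
      Curv2.deg k X (Omega.sheaf (X ↘ Spec (CommRingCat.of k))) 1 =
        2 * (Curv2.genus k X : ℤ) - 2 := by
  haveI := isIntegral_bar k X h0
  obtain ⟨e⟩ := nonempty_omega_bc k X
  obtain ⟨n0, n1, nd⟩ := omega_numerics (k := AlgebraicClosure k) (X := Xb k X) (isRegCurve_bar k X hdim)
  rw [← finrank_bc k X _ 0, ← finrank_bc k X _ 1, ← deg_bc k X _ 1, ← genus_bc k X,
    Groth.EulerDeg.finrank_congr e 0, Groth.EulerDeg.finrank_congr e 1, Groth.EulerDeg.deg_congr (AlgebraicClosure k) e]
  exact ⟨n0, n1, nd⟩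

/-- The field of constants of the curve is the base field. -/
theorem isFunctionField_field [IsIntegral X] : FunFld.IsFunctionField k X.functionField := by
  have h : IsRegCurve X := isRegCurve_of_smooth k X hdim
  have hF := isFF k X hdim
  obtain ⟨⟨e⟩, -⟩ := exists_div_structure k h
  rw [e.finrank_eq] at h0
  refine ⟨hF, fun y hy => ?_⟩
  have hmem : ∀ z : X.functionField, IsAlgebraic k z → z ∈ FunFld.L (0 : FunFld.Divisor k X.functionField) :=
    fun z hz P => by
      rw [Finsupp.coe_zero, Pi.zero_apply, WithZero.exp_zero]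
      rcases eq_or_ne z 0 with rfl | hz0
      · simp
      · exact (Groth.FunFld1.val_eq_one_of_isAlgebraic P hz hz0).le
  obtain ⟨c, hc⟩ := (finrank_eq_one_iff_of_nonzero' (K := k)
    (⟨1, hmem 1 isAlgebraic_one⟩ : FunFld.L (0 : FunFld.Divisor k X.functionField))
    (fun he => one_ne_zero (congrArg Subtype.val he))).mp h0 ⟨y, hmem y hy⟩
  refine ⟨c, ?_⟩
  rw [Algebra.algebraMap_eq_smul_one]
  exact congrArg Subtype.val hc

/-- In positive genus, at most `deg L` sections in positive degree. -/
theorem finrank_h0_le_deg_field {L : X.Modules} (hL : PicF.IsInvertible L)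
    (hg : 1 ≤ Curv2.genus k X) (hd : 0 < Curv2.deg k X L 1) :
    (Module.finrank k (Coh.HH X L 0) : ℤ) ≤ Curv2.deg k X L 1 := by
  haveI := isIntegral_bar k X h0
  haveI := (Groth.EulerDeg.isCoh_of_isInvertible hL).1
  have h := isRegCurve_bar k X hdim
  have hK := isFunctionField (k := AlgebraicClosure k) (X := Xb k X) h.dim
  rw [← finrank_bc k X L 0, ← deg_bc k X L 1]
  rw [← deg_bc k X L 1] at hd
  rw [← genus_bc k X, genus_eq h hK] at hg
  obtain ⟨D, -, -, e0, ed, -⟩ := exists_div_numerics h hK (Groth.PicAux.isInvertible_pullback (proj k X) hL)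
  rw [e0, ed]
  exact ell_le_deg_of_pos hK hg (ed ▸ hd)

end Groth.CurveBridge

namespace Groth.CurveBridge

variable (k : Type u) [Field k] (X : Scheme.{u}) [X.Over (Spec (CommRingCat.of k))]
  [GeometricallyConnected (X ↘ Spec (CommRingCat.of k))]

theorem connectedSpace_bar : ConnectedSpace (Xb k X) :=
  GeometricallyConnected.geometrically_connectedSpace _ _ _ (IsPullback.of_hasPullback
    (X ↘ Spec (CommRingCat.of k)) (Spec.map (CommRingCat.ofHom (algebraMap k (AlgebraicClosure k)))))

theorem connectedSpace_of_geometrically (k : Type u) [Field k] [X.Over (Spec (CommRingCat.of k))]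
    [GeometricallyConnected (X ↘ Spec (CommRingCat.of k))] : ConnectedSpace X :=
  haveI := connectedSpace_bar k X
  (proj k X).surjective.connectedSpace (proj k X).continuous

/-- Geometrically connected smooth proper curves have only constant global functions. -/
theorem h0_of_geometrically [IsProper (X ↘ Spec (CommRingCat.of k))]
    [Smooth (X ↘ Spec (CommRingCat.of k))] (hdim : topologicalKrullDim X = 1) :
    Module.finrank k (Coh.HH X (Coh.structureModule X) 0) = 1 := by
  haveI := connectedSpace_bar k X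
  haveI := isIntegral_of_smooth (AlgebraicClosure k) (Xb k X)
  have h := isRegCurve_bar k X hdim
  rw [← finrank_structure_bc k X 0]
  exact finrank_h0_structure h (isFunctionField (k := AlgebraicClosure k) (X := Xb k X) h.dim)

end Groth.CurveBridge
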