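import Groth.Agent.CurveBridge.BarField
import Groth.Agent.FunFld1.Geometric

/-!
The function field is linearly disjoint from the algebraic closure; it is geometric.
-/

set_option linter.style.haveILetI false
set_option linter.unusedSectionVars false

universe u

open CategoryTheory CategoryTheory.Limits AlgebraicGeometry Opposite TopologicalSpace
open Groth.FunFld1
open scoped TensorProduct

namespace Groth.CurveBridge.BarField

variable (k : Type u) [Field k] (X : Scheme.{u}) [X.Over (Spec (CommRingCat.of k))]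
  [IsIntegral X] [IsIntegral (Xb k X)]

/-- Functions independent over `k` stay independent over the closure. -/
theorem linearIndependent_incl {ι : Type*} {z : ι → X.functionField} (hz : LinearIndependent k z) :
    LinearIndependent (AlgebraicClosure k) fun i => incl k X (z i) := by
  classical
  rw [linearIndependent_iff']
  intro S c hc
  obtain ⟨U, hU, hηU, -⟩ := exists_isAffineOpen_mem_and_subset (x := genericPoint X) (U := ⊤) trivial
  set W := proj k X ⁻¹ᵁ U
  haveI : IsAffine (U : Scheme.{u}) := hU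
  haveI : IsAffineHom (proj k X) :=
    MorphismProperty.pullback_fst (P := @IsAffineHom) _ _ inferInstance
  have hηW : genericPoint (Xb k X) ∈ W := by
    change proj k X _ ∈ U; rw [proj_genericPoint]; exact hηU
  have hηW' : genericPoint (Xb k X) ∈ W.ι ''ᵁ ⊤ := by rwa [Scheme.Opens.ι_image_top]
  have hηU' : genericPoint X ∈ U.ι ''ᵁ ⊤ := by rwa [Scheme.Opens.ι_image_top]
  have hP : IsPullback (proj k X ∣_ U) (W.ι ≫ Curv2.bcSnd k X (AlgebraicClosure k))
      (U.ι ≫ (X ↘ Spec (CommRingCat.of k)))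
      (Spec.map (CommRingCat.ofHom (algebraMap k (AlgebraicClosure k)))) :=
    (isPullback_morphismRestrict (proj k X) U).paste_vert (IsPullback.of_hasPullback _ _)
  have hpo := isPushout_appTop_of_isPullback hP
  haveI : Nonempty (U.ι ''ᵁ ⊤ : X.Opens) := ⟨⟨_, hηU'⟩⟩
  haveI := functionField_isFractionRing_of_isAffineOpen X (U.ι ''ᵁ ⊤)
    (by rw [Scheme.Opens.ι_image_top]; exact hU)
  obtain ⟨⟨b, hb⟩, hbz⟩ :=
    IsLocalization.exist_integer_multiples (nonZeroDivisors Γ(X, U.ι ''ᵁ ⊤)) S z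
  choose a ha using hbz
  let γ : Γ(X, U.ι ''ᵁ ⊤) →+* X.functionField :=
    (X.presheaf.germ (U.ι ''ᵁ ⊤) (genericPoint X) hηU').hom
  let φk : CommRingCat.of k ⟶ Γ(X, U.ι ''ᵁ ⊤) :=
    (Scheme.ΓSpecIso (CommRingCat.of k)).inv ≫ (U.ι ≫ (X ↘ Spec (CommRingCat.of k))).appTop
  letI : Algebra k Γ(X, U.ι ''ᵁ ⊤) := φk.hom.toAlgebra
  have hγk : ∀ r : k, γ (algebraMap k Γ(X, U.ι ''ᵁ ⊤) r) = algebraMap k X.functionField r := fun r => by
    change X.presheaf.germ _ _ hηU' ((U.ι ≫ (X ↘ Spec (CommRingCat.of k))).appTop _) =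
      X.presheaf.germ ⊤ (genericPoint X) trivial _
    rw [Scheme.Hom.comp_appTop, Scheme.Opens.ι_appTop]
    exact TopCat.Presheaf.germ_res_apply X.presheaf _ _ hηU' _
  let γₐ : Γ(X, U.ι ''ᵁ ⊤) →ₐ[k] X.functionField := { γ with commutes' := hγk }
  have hb0 : γ b ≠ 0 := IsFractionRing.to_map_ne_zero_of_mem_nonZeroDivisors hb
  let a' : S → Γ(X, U.ι ''ᵁ ⊤) := fun i => a i.1 i.2
  have ha' : ∀ i : S, γ (a' i) = γ b * z i := fun i => (ha i.1 i.2).trans (Algebra.smul_def _ _)
  have hli : LinearIndependent k a' := by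
    refine LinearIndependent.of_comp γₐ.toLinearMap ?_
    rw [show γₐ.toLinearMap ∘ a' = (LinearMap.mulLeft k (γ b)) ∘ (fun i : S => z i) from
      funext fun i => ha' i]
    exact (hz.comp _ Subtype.val_injective).map' _
      (LinearMap.ker_eq_bot.mpr (mul_right_injective₀ hb0))
  let g : Γ(W.toScheme, ⊤) →+* (Xb k X).functionField :=
    ((Xb k X).presheaf.germ (W.ι ''ᵁ ⊤) (genericPoint (Xb k X)) hηW').hom
  let cst : AlgebraicClosure k → Γ(W.toScheme, ⊤) := fun r =>
    (W.ι ≫ Curv2.bcSnd k X (AlgebraicClosure k)).appTop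
      ((Scheme.ΓSpecIso (CommRingCat.of (AlgebraicClosure k))).inv r)
  have hcst : ∀ r, g (cst r) = algebraMap (AlgebraicClosure k) (Xb k X).functionField r := fun r => by
    simp only [cst]
    rw [Scheme.Hom.comp_appTop, Scheme.Opens.ι_appTop]
    exact TopCat.Presheaf.germ_res_apply (Xb k X).presheaf _ _ hηW' _
  have happ : ∀ s : Γ(X, U.ι ''ᵁ ⊤), g ((proj k X ∣_ U).appTop s) = incl k X (γ s) := fun s => by
    refine Eq.trans ?_ (incl_germ k X hηU' s).symm
    rw [morphismRestrict_appTop]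
    exact TopCat.Presheaf.germ_res_apply (Xb k X).presheaf _ _ hηW' _
  haveI : Nonempty (W.ι ''ᵁ ⊤ : (Xb k X).Opens) := ⟨⟨_, hηW'⟩⟩
  have hzero : ∑ i : S, cst (c i) * (proj k X ∣_ U).appTop (a' i) = 0 := by
    refine (germ_injective_of_isIntegral (Xb k X) (genericPoint (Xb k X)) hηW') ?_
    change g _ = g 0
    rw [map_zero, map_sum]
    calc ∑ i : S, g (cst (c i) * (proj k X ∣_ U).appTop (a' i))
        = incl k X (γ b) * ∑ i : S, c i • incl k X (z i) := by
          rw [Finset.mul_sum]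
          refine Finset.sum_congr rfl fun i _ => ?_
          rw [map_mul, hcst, happ, ha', map_mul, Algebra.smul_def]
          ring
      _ = 0 := by rw [Finset.sum_coe_sort S (fun i => c i • incl k X (z i)), hc, mul_zero]
  let inlT : Γ(X, U.ι ''ᵁ ⊤) ⟶ CommRingCat.of (Γ(X, U.ι ''ᵁ ⊤) ⊗[k] AlgebraicClosure k) :=
    CommRingCat.ofHom Algebra.TensorProduct.includeLeftRingHom
  let inrT : Γ(Spec (CommRingCat.of (AlgebraicClosure k)), ⊤) ⟶
      CommRingCat.of (Γ(X, U.ι ''ᵁ ⊤) ⊗[k] AlgebraicClosure k) :=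
    (Scheme.ΓSpecIso (CommRingCat.of (AlgebraicClosure k))).hom ≫
      CommRingCat.ofHom Algebra.TensorProduct.includeRight.toRingHom
  let d : Γ(W.toScheme, ⊤) ⟶ CommRingCat.of (Γ(X, U.ι ''ᵁ ⊤) ⊗[k] AlgebraicClosure k) :=
    hpo.desc inlT inrT (CommRingCat.hom_ext (RingHom.ext fun x => by
      obtain ⟨r, rfl⟩ := (ConcreteCategory.bijective_of_isIso
        (Scheme.ΓSpecIso (CommRingCat.of k)).inv).2 x
      change (algebraMap k Γ(X, U.ι ''ᵁ ⊤) r) ⊗ₜ[k] (1 : AlgebraicClosure k) =
        (1 : Γ(X, U.ι ''ᵁ ⊤)) ⊗ₜ[k] ((Scheme.ΓSpecIso (CommRingCat.of (AlgebraicClosure k))).hom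
          ((Spec.map (CommRingCat.ofHom (algebraMap k (AlgebraicClosure k)))).appTop
            ((Scheme.ΓSpecIso (CommRingCat.of k)).inv r)))
      rw [← CategoryTheory.comp_apply, Scheme.ΓSpecIso_naturality, CategoryTheory.comp_apply,
        ← CategoryTheory.comp_apply (Scheme.ΓSpecIso (CommRingCat.of k)).inv, Iso.inv_hom_id]
      change _ = (1 : Γ(X, U.ι ''ᵁ ⊤)) ⊗ₜ[k] (algebraMap k (AlgebraicClosure k) r)
      rw [Algebra.algebraMap_eq_smul_one, Algebra.algebraMap_eq_smul_one, TensorProduct.smul_tmul]))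
  have hd1 : ∀ s : Γ(X, U.ι ''ᵁ ⊤), d ((proj k X ∣_ U).appTop s) = s ⊗ₜ[k] (1 : AlgebraicClosure k) := fun s =>
    (ConcreteCategory.congr_hom (hpo.inl_desc inlT inrT _) s)
  have hd2 : ∀ r, d (cst r) = (1 : Γ(X, U.ι ''ᵁ ⊤)) ⊗ₜ[k] r := fun r => by
    refine (ConcreteCategory.congr_hom (hpo.inr_desc inlT inrT _) _).trans ?_
    change (1 : Γ(X, U.ι ''ᵁ ⊤)) ⊗ₜ[k] ((Scheme.ΓSpecIso (CommRingCat.of (AlgebraicClosure k))).hom _) = _
    rw [← CategoryTheory.comp_apply, Iso.inv_hom_id]
    rfl
  have hT : ∑ i : S, a' i ⊗ₜ[k] c i = (0 : Γ(X, U.ι ''ᵁ ⊤) ⊗[k] AlgebraicClosure k) := by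
    have h1 := congrArg d hzero
    rw [map_zero, map_sum] at h1
    refine Eq.trans (Finset.sum_congr rfl fun i _ => ?_) h1
    rw [map_mul, hd1, hd2, Algebra.TensorProduct.tmul_mul_tmul, one_mul, mul_one]
  obtain ⟨G, hG⟩ := (Finsupp.linearCombination k a').exists_leftInverse_of_injective
    (LinearMap.ker_eq_bot.mpr hli)
  intro j hj
  let F : Γ(X, U.ι ''ᵁ ⊤) →ₗ[k] k := (Finsupp.lapply ⟨j, hj⟩).comp G
  have hF : ∀ i : S, F (a' i) = if i = ⟨j, hj⟩ then 1 else 0 := fun i => by
    have := LinearMap.congr_fun hG (Finsupp.single i 1)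
    rw [LinearMap.comp_apply, Finsupp.linearCombination_single, one_smul] at this
    simp [F, this, Finsupp.single_apply]
  have h2 := congrArg ((TensorProduct.lid k (AlgebraicClosure k)).toLinearMap.comp
    (TensorProduct.map F LinearMap.id)) hT
  rw [map_sum, map_zero, Finset.sum_eq_single (⟨j, hj⟩ : S) (fun i _ hi => by simp [hF, hi])
    (fun h => absurd (Finset.mem_univ _) h)] at h2
  simpa [hF] using h2

/-- The function field is geometric. -/
theorem isGeometric [IsProper (X ↘ Spec (CommRingCat.of k))] : FunFld.IsGeometric k X.functionField := by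
  classical
  intro k' _ _ _
  letI : Algebra k (Xb k X).functionField :=
    ((algebraMap (AlgebraicClosure k) (Xb k X).functionField).comp (algebraMap k (AlgebraicClosure k))).toAlgebra
  let σ : k' →ₐ[k] AlgebraicClosure k := IsAlgClosed.lift
  let f1 : k' →ₐ[k] (Xb k X).functionField :=
    { toRingHom := (algebraMap (AlgebraicClosure k) (Xb k X).functionField).comp σ.toRingHom
      commutes' := fun r => congrArg (algebraMap (AlgebraicClosure k) (Xb k X).functionField) (σ.commutes r) }
  let f2 : X.functionField →ₐ[k] (Xb k X).functionField :=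
    { incl k X with commutes' := fun r => incl_algebraMap k X r }
  let μ : k' ⊗[k] X.functionField →ₐ[k] (Xb k X).functionField :=
    Algebra.TensorProduct.productMap f1 f2
  have hμ : Function.Injective μ := by
    rw [injective_iff_map_eq_zero]
    intro w hw
    let B := Module.Basis.ofVectorSpace k X.functionField
    obtain ⟨x, rfl⟩ := (TensorProduct.equivFinsuppOfBasisRight B).symm.surjective w
    suffices x = 0 by rw [this, map_zero]
    rw [TensorProduct.equivFinsuppOfBasisRight_symm_apply, Finsupp.sum, map_sum] at hw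
    have h1 := linearIndependent_iff'.mp (linearIndependent_incl k X B.linearIndependent) x.support
      (fun i => σ (x i)) (Eq.trans (Finset.sum_congr rfl fun i _ => by
        rw [Algebra.TensorProduct.productMap_apply_tmul, Algebra.smul_def]; rfl) hw)
    refine Finsupp.ext fun i => ?_
    by_cases hi : i ∈ x.support
    · exact σ.toRingHom.injective ((h1 i hi).trans (map_zero _).symm)
    · exact Finsupp.notMem_support_iff.mp hi
  let μ' : X.functionField ⊗[k] k' →+* (Xb k X).functionField :=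
    μ.toRingHom.comp (Algebra.TensorProduct.comm k X.functionField k').toRingEquiv.toRingHom
  have hμ' : Function.Injective μ' :=
    hμ.comp (Algebra.TensorProduct.comm k X.functionField k').injective
  exact Groth.FunFld1.isField_tensor_of_isDomain (hμ'.isDomain μ')

end Groth.CurveBridge.BarField
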