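import Groth.Agent.CurveBridge.BasisMap
import Groth.Agent.PnCoh.OverAffine
import Groth.Agent.DescentBase.Descends

/-!
Morphisms to projective space and their base change to the algebraic closure.
-/

set_option linter.style.haveILetI false
set_option linter.unusedSectionVars false

universe u

open CategoryTheory CategoryTheory.Limits AlgebraicGeometry Opposite TopologicalSpace
open Groth.PicAux Groth.Chow
open scoped HomogeneousIdeal

namespace Groth.CurveBridge.BarImm

variable {k K : Type u} [CommRing k] [CommRing K] [Algebra k K] (n : ℕ)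

theorem polyMap_X (i : Fin (n + 1)) :
    Groth.PnCoh.polyMapGraded n k K (MvPolynomial.X i) = MvPolynomial.X i :=
  MvPolynomial.map_X _ i

theorem awayι_comp {S : CommRingCat.{u}} (i : Fin (n + 1)) (s' : MvPolynomial (Fin (n + 1)) K)
    (hs' : s' ∈ CohB1.polyGrading n K 1)
    (e : Groth.PnCoh.polyMapGraded n k K (MvPolynomial.X i) = s')
    (ψ : HomogeneousLocalization.Away (CohB1.polyGrading n K) s' →+* S)
    (φ : HomogeneousLocalization.Away (CohB1.polyGrading n k) (MvPolynomial.X i) →+* S)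
    (h : ∀ (d : ℕ) (a : MvPolynomial (Fin (n + 1)) k) (ha : a ∈ CohB1.polyGrading n k (d • 1)),
      φ (HomogeneousLocalization.Away.mk _ (ToPn.X_mem i) d a ha) =
        ψ (HomogeneousLocalization.Away.mk _ hs' d (Groth.PnCoh.polyMapGraded n k K a)
          (MvPolynomial.IsHomogeneous.map ha _))) :
    Spec.map (CommRingCat.ofHom ψ) ≫ Proj.awayι _ s' hs' one_pos ≫ Groth.PnCoh.toBasePn n k K =
      Spec.map (CommRingCat.ofHom φ) ≫ Proj.awayι _ (MvPolynomial.X i) (ToPn.X_mem i) one_pos := by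
  subst e
  have h1 := Proj.awayι_comp_map (Groth.PnCoh.polyMapGraded n k K)
    (Groth.PnCoh.irrelevant_le_map_polyMap n k K) one_pos (MvPolynomial.X i) (ToPn.X_mem i)
  refine (congrArg (Spec.map (CommRingCat.ofHom ψ) ≫ ·) h1).trans ?_
  rw [← Category.assoc, ← Spec.map_comp, ← CommRingCat.ofHom_comp]
  congr 3
  refine RingHom.ext fun z => ?_
  obtain ⟨d, a, ha, rfl⟩ := HomogeneousLocalization.Away.mk_surjective _ (ToPn.X_mem i) z
  rw [RingHom.comp_apply, HomogeneousLocalization.Away.map_mk, h d a ha]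

/-- The chart morphisms commute with base change. -/
theorem rU_comp {X : Scheme.{u}} (q' : X ⟶ Spec (CommRingCat.of K)) (L : X.Modules)
    (s : Fin (n + 1) → ProjUP.Γm L) (i : Fin (n + 1)) :
    ToPn.rU q' L s i ≫ Groth.PnCoh.toBasePn n k K =
      ToPn.rU (q' ≫ Spec.map (CommRingCat.ofHom (algebraMap k K))) L s i := by
  refine (Category.assoc _ _ _).trans (congrArg ((ToPn.U L s i).toSpecΓ ≫ ·) ((Category.assoc _ _ _).trans ?_))
  refine awayι_comp n i (MvPolynomial.X i) (ToPn.X_mem i) (polyMap_X n i) _ _ fun d a ha => ?_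
  rw [ToPn.α, ToPn.α, ToPn.chart_mk, ToPn.chart_mk]
  rw [show Groth.PnCoh.polyMapGraded n k K a = MvPolynomial.map (algebraMap k K) a from rfl,
    MvPolynomial.eval₂_map]
  congr 1
  refine RingHom.ext fun c => ?_
  change resX X le_top ((q' ≫ Spec.map (CommRingCat.ofHom (algebraMap k K))).appTop
    ((Scheme.ΓSpecIso (CommRingCat.of k)).inv c)) = resX X le_top (q'.appTop
      ((Scheme.ΓSpecIso (CommRingCat.of K)).inv (algebraMap k K c)))
  rw [Scheme.Hom.comp_appTop, CategoryTheory.comp_apply]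
  exact congrArg (fun z => resX X le_top (q'.appTop z)) (ConcreteCategory.congr_hom
    (Scheme.ΓSpecIso_inv_naturality (CommRingCat.ofHom (algebraMap k K))) c).symm

end Groth.CurveBridge.BarImm

namespace Groth.CurveBridge.BarImm

variable (k : Type u) [Field k] (X : Scheme.{u}) [X.Over (Spec (CommRingCat.of k))]

/-- A morphism and its base change: same coordinates, and one is a closed immersion if the other is. -/
theorem exists_bar_map (n : ℕ) (r : X ⟶ CohB1.ProjSpace n k)
    (hover : r ≫ CohB1.ProjSpace.toSpec n k = X ↘ Spec (CommRingCat.of k)) :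
    ∃ (Lb : (Xb k X).Modules) (sb : Fin (n + 1) → ProjUP.Γm Lb)
      (rb : Xb k X ⟶ CohB1.ProjSpace n (AlgebraicClosure k)),
      PicF.IsInvertible Lb ∧ (⨆ i, ToPn.U Lb sb i = ⊤) ∧
      Nonempty ((Scheme.Modules.pullback (proj k X ≫ r)).obj (Twist.twistProjSpace n k 1) ≅ Lb) ∧
      (∀ i, (ToPn.U Lb sb i).ι ≫ (proj k X ≫ r) =
        ToPn.rU (proj k X ≫ (X ↘ Spec (CommRingCat.of k))) Lb sb i) ∧
      (∀ i, (ToPn.U Lb sb i).ι ≫ rb =
        ToPn.rU (Xb k X ↘ Spec (CommRingCat.of (AlgebraicClosure k))) Lb sb i) ∧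
      (IsClosedImmersion rb ↔ IsClosedImmersion r) := by
  obtain ⟨Lb, sb, hLb, hUb, hiso, hrb⟩ :
      ∃ (Lb : (Xb k X).Modules) (sb : Fin (n + 1) → ProjUP.Γm Lb),
        PicF.IsInvertible Lb ∧ (⨆ i, ToPn.U Lb sb i = ⊤) ∧
        Nonempty ((Scheme.Modules.pullback (proj k X ≫ r)).obj (Twist.twistProjSpace n k 1) ≅ Lb) ∧
        ∀ i, (ToPn.U Lb sb i).ι ≫ (proj k X ≫ r) =
          ToPn.rU (proj k X ≫ (X ↘ Spec (CommRingCat.of k))) Lb sb i := by
    letI : (Xb k X).Over (Spec (CommRingCat.of k)) := ⟨proj k X ≫ (X ↘ Spec (CommRingCat.of k))⟩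
    exact ToLine.exists_sections n (proj k X ≫ r) (by rw [Category.assoc, hover]; rfl)
  obtain ⟨rb, hr'⟩ := ToPn.exists_r (Xb k X ↘ Spec (CommRingCat.of (AlgebraicClosure k))) Lb sb hUb
  refine ⟨Lb, sb, rb, hLb, hUb, hiso, hrb, hr', ?_⟩
  have hsq : proj k X ≫ (X ↘ Spec (CommRingCat.of k)) =
      (Xb k X ↘ Spec (CommRingCat.of (AlgebraicClosure k))) ≫
        Spec.map (CommRingCat.ofHom (algebraMap k (AlgebraicClosure k))) := pullback.condition
  have hcomp : rb ≫ Groth.PnCoh.toBasePn n k (AlgebraicClosure k) = proj k X ≫ r := by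
    refine (Scheme.openCoverOfIsOpenCover (Xb k X) (ToPn.U Lb sb)
      (TopologicalSpace.IsOpenCover.mk hUb)).hom_ext _ _ fun i => ?_
    change (ToPn.U Lb sb i).ι ≫ rb ≫ _ = (ToPn.U Lb sb i).ι ≫ (proj k X ≫ r)
    rw [reassoc_of% (hr' i), hrb i, hsq]
    exact rU_comp n _ Lb sb i
  have hbot := Groth.PnCoh.isPullback_toBasePn n k (AlgebraicClosure k)
  have houter : IsPullback (proj k X) (rb ≫ CohB1.ProjSpace.toSpec n (AlgebraicClosure k))
      (r ≫ CohB1.ProjSpace.toSpec n k)
      (Spec.map (CommRingCat.ofHom (algebraMap k (AlgebraicClosure k)))) := by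
    rw [ToPn.r_toSpec hr' hUb, hover]
    exact IsPullback.of_hasPullback _ _
  have htop : IsPullback (proj k X) rb r (Groth.PnCoh.toBasePn n k (AlgebraicClosure k)) :=
    IsPullback.of_bot houter hcomp.symm hbot
  have hS : Surjective (Spec.map (CommRingCat.ofHom (algebraMap k (AlgebraicClosure k)))) :=
    ⟨fun z => ⟨IsLocalRing.closedPoint _, Subsingleton.elim _ _⟩⟩
  haveI : Surjective (Groth.PnCoh.toBasePn n k (AlgebraicClosure k)) :=
    MorphismProperty.of_isPullback (P := @Surjective) hbot.flip hS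
  haveI : Flat (Spec.map (CommRingCat.ofHom (algebraMap k (AlgebraicClosure k)))) := by
    rw [HasRingHomProperty.Spec_iff (P := @Flat)]
    exact RingHom.flat_algebraMap_iff.mpr inferInstance
  haveI : Flat (Groth.PnCoh.toBasePn n k (AlgebraicClosure k)) :=
    MorphismProperty.of_isPullback (P := @Flat) hbot.flip inferInstance
  haveI : QuasiCompact (Groth.PnCoh.toBasePn n k (AlgebraicClosure k)) :=
    MorphismProperty.of_isPullback (P := @QuasiCompact) hbot.flip inferInstance
  exact ⟨fun hb => MorphismProperty.of_isPullback_of_descendsAlong (P := @IsClosedImmersion)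
      (Q := Groth.DescentBase.SFQ) htop.flip (Groth.DescentBase.sfq _) hb,
    fun hr => MorphismProperty.of_isPullback (P := @IsClosedImmersion) htop hr⟩

variable [IsIntegral X] [IsIntegral (Xb k X)]

/-- The coordinates of the base change are the images of the coordinates. -/
theorem germ_c_bar {n : ℕ} {L : X.Modules} {s : Fin (n + 1) → ProjUP.Γm L} (hU : ⨆ i, ToPn.U L s i = ⊤)
    {r : X ⟶ CohB1.ProjSpace n k}
    (hr : ∀ i, (ToPn.U L s i).ι ≫ r = ToPn.rU (X ↘ Spec (CommRingCat.of k)) L s i)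
    {Lb : (Xb k X).Modules} {sb : Fin (n + 1) → ProjUP.Γm Lb} (hUb : ⨆ i, ToPn.U Lb sb i = ⊤)
    (hrb : ∀ i, (ToPn.U Lb sb i).ι ≫ (proj k X ≫ r) =
      ToPn.rU (proj k X ≫ (X ↘ Spec (CommRingCat.of k))) Lb sb i)
    (i l : Fin (n + 1)) (hη : genericPoint X ∈ ToPn.U L s i) :
    ∃ hηb : genericPoint (Xb k X) ∈ ToPn.U Lb sb i,
      (Xb k X).presheaf.germ (ToPn.U Lb sb i) (genericPoint (Xb k X)) hηb (ToPn.c Lb sb i l) =
        BarField.incl k X (X.presheaf.germ (ToPn.U L s i) (genericPoint X) hη (ToPn.c L s i l)) := by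
  have hηb : genericPoint (Xb k X) ∈ ToPn.U Lb sb i := by
    refine (ToPn.preimage_D hrb hUb i).le ?_
    have := (ToPn.preimage_D hr hU i).ge hη
    change r (genericPoint X) ∈ Proj.basicOpen _ _ at this
    change r (proj k X (genericPoint (Xb k X))) ∈ Proj.basicOpen _ _
    rw [BarField.proj_genericPoint]
    exact this
  refine ⟨hηb, ?_⟩
  rw [BarField.incl_germ]
  have hηp : proj k X (genericPoint (Xb k X)) ∈ ToPn.U L s i := by
    rw [BarField.proj_genericPoint]; exact hη
  rw [BasisMap.germ_c (proj k X ≫ (X ↘ Spec (CommRingCat.of k))) hUb hrb i l _ hηb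
    ((ToPn.preimage_D hrb hUb i).ge hηb)]
  refine Eq.trans ?_ (Scheme.Hom.germ_stalkMap_apply (proj k X) (ToPn.U L s i) _ hηp (ToPn.c L s i l))
  rw [BasisMap.germ_c (X ↘ Spec (CommRingCat.of k)) hU hr i l _ hηp ((ToPn.preimage_D hr hU i).ge hηp),
    Scheme.Hom.stalkMap_comp]
  rfl

end Groth.CurveBridge.BarImm
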