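import Groth.Agent.CurveBridge.DoubleCover
import Groth.Agent.CurveBridge.BarGeom

/-!
The morphism of a basis of a base-point-free Riemann–Roch space, and its base change.
-/

set_option linter.style.haveILetI false
set_option linter.unusedSectionVars false

universe u

open CategoryTheory AlgebraicGeometry Opposite TopologicalSpace WithZero
open Groth.PicAux Groth.Chow Groth.FunFld1 Groth.PropsBasic.Ample

namespace Groth.CurveBridge.BasisMap

/-- The coordinates are the pullbacks of the ratios of the coordinates. -/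
theorem germ_c {k : Type u} [Field k] {X : Scheme.{u}} (q : X ⟶ Spec (CommRingCat.of k))
    {n : ℕ} {f : X ⟶ CohB1.ProjSpace n k} {L : X.Modules} {s : Fin (n + 1) → ProjUP.Γm L}
    (hU : ⨆ i, ToPn.U L s i = ⊤)
    (hr : ∀ i, (ToPn.U L s i).ι ≫ f = ToPn.rU q L s i)
    (i l : Fin (n + 1)) (x : X) (hx : x ∈ ToPn.U L s i)
    (hfx : f x ∈ Proj.basicOpen (CohB1.polyGrading n k) (MvPolynomial.X i)) :
    X.presheaf.germ (ToPn.U L s i) x hx (ToPn.c L s i l) =
      f.stalkMap x ((CohB1.ProjSpace n k).presheaf.germ _ (f x) hfx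
        (Proj.awayToSection (CohB1.polyGrading n k) (MvPolynomial.X i)
          (HomogeneousLocalization.Away.mk _ (ToPn.X_mem i) 1 (MvPolynomial.X l)
            (by rw [one_smul]; exact ToPn.X_mem l)))) := by
  refine Eq.trans ?_ (Scheme.Hom.germ_stalkMap_apply f _ x hfx _).symm
  have he := ToPn.appLE_awayToSection hr i (ToPn.preimage_D hr hU i).ge
    (HomogeneousLocalization.Away.mk _ (ToPn.X_mem i) 1 (MvPolynomial.X l)
      (by rw [one_smul]; exact ToPn.X_mem l))
  rw [show ToPn.α q L s i (HomogeneousLocalization.Away.mk _ (ToPn.X_mem i) 1 (MvPolynomial.X l)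
      (by rw [one_smul]; exact ToPn.X_mem l)) = ToPn.c L s i l by
    rw [ToPn.α, ToPn.chart_mk, MvPolynomial.eval₂_X]] at he
  rw [← he]
  exact TopCat.Presheaf.germ_res_apply X.presheaf _ x hx _

variable {k : Type u} [Field k] {X : Scheme.{u}} [X.Over (Spec (CommRingCat.of k))] [IsIntegral X]
  [IsProper (X ↘ Spec (CommRingCat.of k))]

/-- Generating sections realising a basis of `L(D)` when there are no base places. -/
theorem exists_basis_sections (h : IsRegCurve X) (hK : FunFld.IsFunctionField k X.functionField)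
    {L : X.Modules} (hL : PicF.IsInvertible L) {φ : L ⟶ constK X}
    {D : FunFld.Divisor k X.functionField} (hφ : IsDivEmb h φ D)
    (hb : ∀ P, FunFld.ell (D - Finsupp.single P 1) < FunFld.ell D) {n : ℕ}
    (hn : FunFld.ell D = n + 1) :
    ∃ s : Fin (n + 1) → ProjUP.Γm L, (LinearIndependent k fun l => zv φ (s l)) ∧
      (∀ l, zv φ (s l) ∈ FunFld.L D) ∧ (⨆ i, ToPn.U L s i = ⊤) := by
  have hF := isFF k X h.dim
  haveI := hφ.1
  haveI := hF.finiteDimensional_L D
  let b := Module.finBasisOfFinrankEq k (FunFld.L D) (n := n + 1) hn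
  have hli : LinearIndependent k fun l => ((b l : FunFld.L D) : X.functionField) :=
    b.linearIndependent.map' _ (Submodule.ker_subtype _)
  obtain ⟨s, hs, -⟩ := exists_sections h hK hL hφ _ (fun l => (b l).2) hli
  refine ⟨s, by simpa only [hs] using hli, fun l => by rw [hs l]; exact (b l).2, ?_⟩
  refine eq_top_iff.mpr fun y _ => Opens.mem_iSup.mpr ?_
  have key : ∀ x : Pt X, ∃ l, x.1 ∈ ToPn.U L s l := fun x => by
    set P := placeAt (k := k) h x with hP
    obtain ⟨w, hw, hwP⟩ := exists_val_eq_of_ell_lt hF (hb P)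
    by_contra! hc
    have hlt : ∀ l, P.1 (b l : X.functionField) < exp (D P) := fun l => by
      refine lt_of_le_of_ne ((b l).2 P) fun he => hc l ((mem_gloc_iff h hφ hL (s l) x).mpr ?_)
      rw [hs l, ← hP]; exact he
    have he := congrArg Subtype.val (b.sum_repr ⟨w, hw⟩)
    rw [Submodule.coe_sum] at he
    change _ = w at he
    rw [← he] at hwP
    refine hwP.not_lt (Valuation.map_sum_lt _ exp_ne_zero fun l _ => ?_)
    rw [Submodule.coe_smul, Algebra.smul_def, map_mul]
    rcases eq_or_ne (b.repr ⟨w, hw⟩ l) 0 with hz | hz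
    · rw [hz, map_zero, map_zero, zero_mul]; exact exp_pos
    · rw [Groth.FunFld1.val_algebraMap P hz, one_mul]; exact hlt l
  by_cases hy : y = genericPoint X
  · obtain ⟨P⟩ := hF.nonempty_place
    obtain ⟨x, -⟩ := placeAt_surjective (k := k) h P
    obtain ⟨l, hl'⟩ := key x
    exact ⟨l, hy ▸ (genericPoint_specializes x.1).mem_open (ToPn.U L s l).2 hl'⟩
  · exact key ⟨y, (isClosed_singleton_iff X h.dim y).mpr hy⟩

end Groth.CurveBridge.BasisMap

namespace Groth.CurveBridge.BasisMap

variable (k : Type u) [Field k] (X : Scheme.{u}) [X.Over (Spec (CommRingCat.of k))] [IsIntegral X]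
  [IsProper (X ↘ Spec (CommRingCat.of k))] [Smooth (X ↘ Spec (CommRingCat.of k))]
  (hdim : topologicalKrullDim X = 1)
  (h0 : Module.finrank k (Coh.HH X (Coh.structureModule X) 0) = 1)
include hdim h0

/-- Ratios of a base-point-free basis live, over the closure, in a space of the same degree. -/
theorem exists_bar_divisor [IsIntegral (Xb k X)] {L : X.Modules} (hL : PicF.IsInvertible L) {φ : L ⟶ constK X}
    {D : FunFld.Divisor k X.functionField} (hφ : IsDivEmb (isRegCurve_of_smooth k X hdim) φ D) {n : ℕ}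
    (s : Fin (n + 1) → ProjUP.Γm L) (hU : ⨆ i, ToPn.U L s i = ⊤)
    (hli : LinearIndependent k fun l => zv φ (s l)) :
    ∃ E : FunFld.Divisor (AlgebraicClosure k) (Xb k X).functionField, 0 ≤ E ∧
      E.deg = Curv2.deg k X L 1 ∧
      ∀ l, BarField.incl k X (zv φ (s l) / zv φ (s 0)) ∈ FunFld.L E := by
  classical
  haveI := hφ.1
  have h := isRegCurve_of_smooth k X hdim
  obtain ⟨r, hr⟩ := ToPn.exists_r (X ↘ Spec (CommRingCat.of k)) L s hU
  have hover := ToPn.r_toSpec hr hU
  obtain ⟨τ, -⟩ := ToPn.exists_tau hr hU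
  have hne0 : zv φ (s 0) ≠ 0 := hli.ne_zero 0
  have hη : genericPoint X ∈ ToPn.U L s 0 := by
    obtain ⟨j, hj⟩ := Opens.mem_iSup.mp (hU.ge (Set.mem_univ (genericPoint X)))
    have hm : genericPoint X ∈ X.basicOpen (ToPn.c L s j 0) :=
      (X.mem_basicOpen _ _ hj).mpr (isUnit_iff_ne_zero.mpr fun hz => hne0 (by
        rw [zv_coord s (φ := φ) j 0 hj, hz, zero_mul]))
    rw [← ToPn.U_inf] at hm
    exact hm.1
  -- the sections over the closure
  obtain ⟨Lb, sb, hLb, hUb, ⟨eb⟩, hrb⟩ :
      ∃ (Lb : (Xb k X).Modules) (sb : Fin (n + 1) → ProjUP.Γm Lb),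
        PicF.IsInvertible Lb ∧ (⨆ i, ToPn.U Lb sb i = ⊤) ∧
        Nonempty ((Scheme.Modules.pullback (proj k X ≫ r)).obj (Twist.twistProjSpace n k 1) ≅ Lb) ∧
        ∀ i, (ToPn.U Lb sb i).ι ≫ (proj k X ≫ r) =
          ToPn.rU (proj k X ≫ (X ↘ Spec (CommRingCat.of k))) Lb sb i := by
    letI : (Xb k X).Over (Spec (CommRingCat.of k)) := ⟨proj k X ≫ (X ↘ Spec (CommRingCat.of k))⟩
    exact ToLine.exists_sections n (proj k X ≫ r) (by rw [Category.assoc, hover]; rfl)
  have hb := isRegCurve_bar k X hdim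
  have hKb := isFunctionField (k := AlgebraicClosure k) (X := Xb k X) hb.dim
  obtain ⟨φb, Db, hφb, -, edb, -⟩ := exists_divEmb (k := AlgebraicClosure k) hb hKb hLb
  haveI := hφb.1
  have hηb : genericPoint (Xb k X) ∈ ToPn.U Lb sb 0 := by
    refine (ToPn.preimage_D hrb hUb 0).le ?_
    have := (ToPn.preimage_D hr hU 0).ge hη
    change r (genericPoint X) ∈ Proj.basicOpen _ _ at this
    change r (proj k X (genericPoint (Xb k X))) ∈ Proj.basicOpen _ _
    rw [BarField.proj_genericPoint]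
    exact this
  have hc : ∀ l, (Xb k X).presheaf.germ (ToPn.U Lb sb 0) (genericPoint (Xb k X)) hηb (ToPn.c Lb sb 0 l) =
      BarField.incl k X (zv φ (s l) / zv φ (s 0)) := fun l => by
    have ht : zv φ (s l) / zv φ (s 0) =
        X.presheaf.germ (ToPn.U L s 0) (genericPoint X) hη (ToPn.c L s 0 l) := by
      rw [zv_coord s (φ := φ) 0 l hη, mul_div_assoc, div_self hne0, mul_one]
    rw [ht, BarField.incl_germ]
    have hηp : proj k X (genericPoint (Xb k X)) ∈ ToPn.U L s 0 := by
      rw [BarField.proj_genericPoint]; exact hη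
    rw [germ_c (proj k X ≫ (X ↘ Spec (CommRingCat.of k))) hUb hrb 0 l _ hηb
      ((ToPn.preimage_D hrb hUb 0).ge hηb)]
    refine Eq.trans ?_ (Scheme.Hom.germ_stalkMap_apply (proj k X) (ToPn.U L s 0) _ hηp (ToPn.c L s 0 l))
    rw [germ_c (X ↘ Spec (CommRingCat.of k)) hU hr 0 l _ hηp ((ToPn.preimage_D hr hU 0).ge hηp),
      Scheme.Hom.stalkMap_comp]
    rfl
  have hne0b : zv φb (sb 0) ≠ 0 := fun hz => by
    obtain ⟨P⟩ := (isFF (AlgebraicClosure k) (Xb k X) hb.dim).nonempty_place
    obtain ⟨x, rfl⟩ := placeAt_surjective (k := AlgebraicClosure k) hb P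
    obtain ⟨j, hj⟩ := Opens.mem_iSup.mp (hUb.ge (Set.mem_univ x.1))
    have h1 := (mem_gloc_iff hb hφb hLb (sb j) x).mp hj
    rw [zv_coord sb (φ := φb) 0 j hηb, hz, mul_zero, map_zero] at h1
    exact exp_ne_zero h1.symm
  have hmem : ∀ l, BarField.incl k X (zv φ (s l) / zv φ (s 0)) ∈
      FunFld.L (Db + FunFld.div (AlgebraicClosure k) (zv φb (sb 0))) := fun l P => by
    have hF := isFF (AlgebraicClosure k) (Xb k X) hb.dim
    have h1 := zv_mem hb hφb (sb l) P
    rw [zv_coord sb (φ := φb) 0 l hηb, hc, map_mul, val_eq_exp_neg_ord P hne0b] at h1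
    rw [Finsupp.add_apply, hF.div_apply, exp_add]
    calc P.1 (BarField.incl k X (zv φ (s l) / zv φ (s 0)))
        = P.1 (BarField.incl k X (zv φ (s l) / zv φ (s 0))) * exp (-P.ord (zv φb (sb 0))) *
            exp (P.ord (zv φb (sb 0))) := by rw [mul_assoc, ← exp_add, neg_add_cancel, exp_zero, mul_one]
      _ ≤ _ := mul_le_mul_left h1 _
  refine ⟨_, ?_, ?_, hmem⟩
  · intro P
    have h1 := hmem 0 P
    rw [div_self hne0, map_one, map_one, ← exp_zero, exp_le_exp] at h1
    rw [Finsupp.zero_apply]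
    exact h1
  · rw [Groth.FunFld1.deg_add, (isFF (AlgebraicClosure k) (Xb k X) hb.dim).deg_div, add_zero, ← edb]
    haveI := (Groth.EulerDeg.isCoh_of_isInvertible hL).1
    rw [← deg_bc k X L 1]
    exact (Groth.EulerDeg.deg_congr (AlgebraicClosure k)
      (eb.symm ≪≫ ((Scheme.Modules.pullbackComp (proj k X) r).app _).symm ≪≫
        (Scheme.Modules.pullback (proj k X)).mapIso τ) 1)

end Groth.CurveBridge.BasisMap
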