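import Groth.Agent.CurveBridge.RatPoints

/-!
The residue field at a closed point is the residue field of its place.
-/

set_option linter.style.haveILetI false
set_option linter.unusedSectionVars false

universe u

open CategoryTheory AlgebraicGeometry Opposite TopologicalSpace
open Groth.FunFld1

namespace Groth.CurveBridge

variable {k : Type u} [Field k] {X : Scheme.{u}} [X.Over (Spec (CommRingCat.of k))] [IsIntegral X]
  [LocallyOfFiniteType (X ↘ Spec (CommRingCat.of k))] (h : IsRegCurve X)
include h

theorem exists_residueEquiv (x : Pt X) :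
    ∃ e : X.residueField x.1 ≃+* IsLocalRing.ResidueField (placeAt (k := k) h x).O,
      ∀ c : k, e (Curv2.resMap k X x.1 c) =
        algebraMap k (IsLocalRing.ResidueField (placeAt (k := k) h x).O) c := by
  set P := placeAt (k := k) h x
  let φ : X.presheaf.stalk x.1 →+* P.O := (algebraMap (X.presheaf.stalk x.1) X.functionField).codRestrict
    P.O.toSubring fun a => (placeAt_le_one_iff h x _).mpr ⟨a, rfl⟩
  let ψ : X.presheaf.stalk x.1 ≃+* P.O := RingEquiv.ofBijective φ
    ⟨fun a b hab => IsFractionRing.injective (X.presheaf.stalk x.1) X.functionField (congrArg Subtype.val hab),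
      fun z => by
        obtain ⟨a, ha⟩ := (placeAt_le_one_iff h x z.1).mp z.2
        exact ⟨a, Subtype.ext ha⟩⟩
  refine ⟨IsLocalRing.ResidueField.mapEquiv ψ, fun c => ?_⟩
  change IsLocalRing.residue P.O (φ (Curv2.stalkMap k X x.1 c)) = IsLocalRing.residue P.O (algebraMap k P.O c)
  congr 1
  exact Subtype.ext (algebraMap_functionField k X x.1 c)

attribute [local instance] Curv2.resAlgebra

theorem finrank_residueField (x : Pt X) :
    Module.finrank k (X.residueField x.1) = (placeAt (k := k) h x).deg := by
  obtain ⟨e, he⟩ := exists_residueEquiv (k := k) h x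
  refine (Algebra.finrank_eq_of_equiv_equiv (RingEquiv.refl k) e (RingHom.ext fun c => (he c).symm)).trans ?_
  rfl

theorem isSeparable_residueField (x : Pt X)
    [Algebra.IsSeparable k (IsLocalRing.ResidueField (placeAt (k := k) h x).O)] :
    Algebra.IsSeparable k (X.residueField x.1) := by
  obtain ⟨e, he⟩ := exists_residueEquiv (k := k) h x
  exact (Algebra.IsSeparable.iff_of_equiv_equiv (RingEquiv.refl k) e (RingHom.ext fun c => (he c).symm)).mpr
    inferInstance

end Groth.CurveBridge
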