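import Groth.Agent.CurveBridge.BasisMap
import Groth.Agent.CurveBridge.ResidueEquiv
import Groth.Agent.FunFld1.Residues

/-!
A canonical ratio is separating, and a separable point of degree at most `2g - 2`.
-/

set_option linter.style.haveILetI false
set_option linter.unusedSectionVars false

universe u

open CategoryTheory AlgebraicGeometry Opposite TopologicalSpace WithZero
open Groth.PicAux Groth.Chow Groth.FunFld1

namespace Groth.CurveBridge

/-- `p`-th powers with divisor bounded by `E` come from a Riemann–Roch space of degree `deg E / p`. -/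
theorem exists_root_divisor {k K : Type*} [Field k] [IsAlgClosed k] [Field K] [Algebra k K]
    (hK : FunFld.IsFunctionField k K) (p : ℕ) [Fact p.Prime] [CharP K p] {E : FunFld.Divisor k K}
    (hE : 0 ≤ E) {ι : Type*} [Fintype ι] {w : ι → K} (hli : LinearIndependent k fun i => w i ^ p)
    (hw : ∀ i, w i ^ p ∈ FunFld.L E) :
    ∃ E' : FunFld.Divisor k K, 0 ≤ E' ∧ (p : ℤ) * E'.deg ≤ E.deg ∧ Fintype.card ι ≤ FunFld.ell E' := by
  classical
  have hF := IsFF.of_isFunctionField hK
  have hp : 0 < p := (Fact.out : p.Prime).pos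
  let E' : FunFld.Divisor k K := E.mapRange (fun a => a / (p : ℤ)) (Int.zero_ediv _)
  have hE' : ∀ P, E' P = E P / (p : ℤ) := fun P => Finsupp.mapRange_apply
  refine ⟨E', fun P => ?_, ?_, ?_⟩
  · rw [hE', Finsupp.zero_apply]
    exact Int.ediv_nonneg (hE P) (Int.natCast_nonneg p)
  · rw [← Groth.FunFld1.deg_nsmul]
    refine deg_mono fun P => ?_
    rw [Finsupp.smul_apply, nsmul_eq_mul, hE', mul_comm]
    exact Int.ediv_mul_le _ (by exact_mod_cast hp.ne')
  · have hmem : ∀ i, w i ∈ FunFld.L E' := fun i P => by
      rcases eq_or_ne (w i) 0 with h0 | h0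
      · rw [h0, map_zero]; exact zero_le
      have h1 := hw i P
      rw [map_pow, val_eq_exp_neg_ord P h0, ← exp_nsmul, exp_le_exp, nsmul_eq_mul] at h1
      rw [val_eq_exp_neg_ord P h0, exp_le_exp, hE', Int.le_ediv_iff_mul_le (by exact_mod_cast hp)]
      linarith
    haveI := hF.finiteDimensional_L E'
    let w' : ι → FunFld.L E' := fun i => ⟨w i, hmem i⟩
    have hli' : LinearIndependent k w' := by
      refine LinearIndependent.of_comp (FunFld.L E').subtype ?_
      rw [Fintype.linearIndependent_iff]
      intro c hc i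
      have h1 := congrArg (fun z => z ^ p) hc
      haveI : CharP k p := (RingHom.charP_iff (algebraMap k K) (algebraMap k K).injective p).mpr ‹_›
      change (∑ j, c j • w j) ^ p = 0 ^ p at h1
      rw [sum_pow_char p, zero_pow hp.ne'] at h1
      simp only [smul_pow] at h1
      exact pow_eq_zero_iff hp.ne' |>.mp (Fintype.linearIndependent_iff.mp hli (fun j => c j ^ p) h1 i)
    exact hli'.fintype_card_le_finrank

/-- Over the closure the constants and `p`-th powers are `p`-th powers. -/
theorem exists_pow_of_mem_frobField (k : Type u) [Field k] (X : Scheme.{u})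
    [X.Over (Spec (CommRingCat.of k))] [IsIntegral X] [IsIntegral (Xb k X)] (p : ℕ) [Fact p.Prime]
    [CharP X.functionField p] [CharP (Xb k X).functionField p] {z : X.functionField}
    (hz : z ∈ frobField k X.functionField p) :
    ∃ w : (Xb k X).functionField, w ^ p = BarField.incl k X z := by
  induction hz using IntermediateField.adjoin_induction with
  | mem v hv => obtain ⟨y, rfl⟩ := hv; exact ⟨BarField.incl k X y, (map_pow _ y p).symm⟩
  | algebraMap c =>
    obtain ⟨d, hd⟩ := IsAlgClosed.exists_pow_nat_eq (algebraMap k (AlgebraicClosure k) c)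
      (Fact.out : p.Prime).pos
    exact ⟨algebraMap (AlgebraicClosure k) _ d, by rw [← map_pow, hd, BarField.incl_algebraMap]⟩
  | add a b _ _ ha hb =>
    obtain ⟨a', ha⟩ := ha; obtain ⟨b', hb⟩ := hb
    exact ⟨a' + b', by rw [add_pow_char, ha, hb, map_add]⟩
  | mul a b _ _ ha hb =>
    obtain ⟨a', ha⟩ := ha; obtain ⟨b', hb⟩ := hb
    exact ⟨a' * b', by rw [mul_pow, ha, hb, map_mul]⟩
  | inv a _ ha => obtain ⟨a', ha⟩ := ha; exact ⟨a'⁻¹, by rw [inv_pow, ha, map_inv₀]⟩

variable (k : Type u) [Field k] (X : Scheme.{u}) [X.Over (Spec (CommRingCat.of k))] [IsIntegral X]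
  [IsProper (X ↘ Spec (CommRingCat.of k))] [Smooth (X ↘ Spec (CommRingCat.of k))]
  (hdim : topologicalKrullDim X = 1)
  (h0 : Module.finrank k (Coh.HH X (Coh.structureModule X) 0) = 1) (hg : 2 ≤ Curv2.genus k X)
include hdim h0 hg

/-- Some ratio of canonical functions is separating. -/
theorem exists_separating_canonical :
    ∃ (t : X.functionField) (E : FunFld.Divisor k X.functionField), 0 ≤ E ∧
      E.deg = 2 * (Curv2.genus k X : ℤ) - 2 ∧ t ∈ FunFld.L E ∧ Transcendental k t ∧
      Algebra.IsSeparable (IntermediateField.adjoin k ({t} : Set X.functionField)) X.functionField := by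
  classical
  have h : IsRegCurve X := isRegCurve_of_smooth k X hdim
  have hK := isFunctionField_field k X hdim h0
  have hF := isFF k X hdim
  haveI := isIntegral_bar k X h0
  have hL := isInvertible_omega_field k X hdim h0
  obtain ⟨o0, -, od⟩ := omega_numerics_field k X hdim h0
  obtain ⟨φ, D, hφ, e0, ed, -⟩ := exists_divEmb h hK hL
  have hC := isCanonical_of_numerics h hK e0 ed o0 od
  rw [o0] at e0
  rw [od] at ed
  have hb : ∀ P, FunFld.ell (D - Finsupp.single P 1) < FunFld.ell D := fun P => by
    have h1 := Groth.FunFld1.riemann_roch hK hC (D - Finsupp.single P 1)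
    rw [sub_sub_cancel, Groth.FunFld1.deg_sub, Groth.FunFld1.deg_single, ← ed, ← genus_eq h hK] at h1
    obtain ⟨M, hM, m0, md, -⟩ := exists_invertible_numerics h hK (Finsupp.single P (1 : ℤ))
    have hpos := hF.deg_pos P
    have h2 := finrank_h0_le_deg_field k X hdim h0 hM (by omega)
      (by rw [md, Groth.FunFld1.deg_single]; omega)
    rw [m0, md, Groth.FunFld1.deg_single] at h2
    omega
  obtain ⟨n, hn⟩ : ∃ n, FunFld.ell D = n + 1 := ⟨FunFld.ell D - 1, by omega⟩
  obtain ⟨s, hli, hsL, hU⟩ := BasisMap.exists_basis_sections h hK hL hφ hb hn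
  have hne0 : zv φ (s 0) ≠ 0 := hli.ne_zero 0
  let t : Fin (n + 1) → X.functionField := fun l => zv φ (s l) / zv φ (s 0)
  have hlit : LinearIndependent k t := by
    have := hli.map' (LinearMap.mulRight k (zv φ (s 0))⁻¹)
      (LinearMap.ker_eq_bot.mpr (mul_left_injective₀ (inv_ne_zero hne0)))
    exact this
  set E := D + FunFld.div k (zv φ (s 0)) with hEdef
  have htE : ∀ l, t l ∈ FunFld.L E := fun l P => by
    rw [hEdef, Finsupp.add_apply, hF.div_apply, exp_add]
    show P.1 (zv φ (s l) / zv φ (s 0)) ≤ _
    rw [map_div₀, val_eq_exp_neg_ord P hne0, div_eq_mul_inv, ← exp_neg, neg_neg]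
    exact mul_le_mul_left (hsL l P) _
  have hE0 : 0 ≤ E := fun P => by
    have h1 := htE 0 P
    rw [show t 0 = 1 from div_self hne0, map_one, ← exp_zero, exp_le_exp] at h1
    exact h1
  have hEd : E.deg = 2 * (Curv2.genus k X : ℤ) - 2 := by
    rw [hEdef, Groth.FunFld1.deg_add, hF.deg_div, add_zero, ← ed]
  have hne : (0 : Fin (n + 1)) ≠ Fin.last n := by
    intro he
    have := congrArg Fin.val he
    simp at this
    omega
  have htr : ∀ l, l ≠ 0 → Transcendental k (t l) := fun l hl =>
    transcendental_of_notMem hK fun ⟨c, hc⟩ => by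
      have h1 := linearIndependent_iff'.mp hlit {0, l} (fun j => if j = 0 then -c else 1)
        (by rw [Finset.sum_pair hl.symm, if_pos rfl, if_neg hl, one_smul, show t 0 = 1 from div_self hne0,
          ← hc, neg_smul, ← Algebra.algebraMap_eq_smul_one, neg_add_cancel]) l (by simp)
      rw [if_neg hl] at h1
      exact one_ne_zero h1
  have hgeo := BarField.isGeometric k X
  rcases CharP.exists' k with hc | ⟨p, hp, hpk⟩
  · haveI := hc
    refine ⟨t (Fin.last n), E, hE0, hEd, htE _, htr _ hne.symm, ?_⟩
    haveI : CharZero (IntermediateField.adjoin k ({t (Fin.last n)} : Set X.functionField)) :=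
      charZero_of_injective_algebraMap (algebraMap k _).injective
    haveI := hF.finiteDimensional (htr _ hne.symm)
    infer_instance
  haveI := hp
  haveI : CharP X.functionField p := charP_of_injective_algebraMap (algebraMap k X.functionField).injective p
  by_cases hall : ∀ l, t l ∈ frobField k X.functionField p
  · exfalso
    haveI : CharP (AlgebraicClosure k) p :=
      charP_of_injective_algebraMap (algebraMap k (AlgebraicClosure k)).injective p
    haveI : CharP (Xb k X).functionField p :=
      charP_of_injective_algebraMap (algebraMap (AlgebraicClosure k) (Xb k X).functionField).injective p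
    have hbR := isRegCurve_bar k X hdim
    have hKb := isFunctionField (k := AlgebraicClosure k) (X := Xb k X) hbR.dim
    obtain ⟨Eb, hEb0, hEbd, hEbm⟩ := BasisMap.exists_bar_divisor k X hdim h0 hL hφ s hU hli
    choose w hw using fun l => exists_pow_of_mem_frobField k X p (hall l)
    obtain ⟨E', hE'0, hE'd, hE'l⟩ := exists_root_divisor hKb p hEb0 (w := w)
      (by simpa only [hw] using BarField.linearIndependent_incl k X hlit)
      (fun l => (hw l).symm ▸ hEbm l)
    rw [Fintype.card_fin] at hE'l
    rw [hEbd, od] at hE'd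
    have hgb : 1 ≤ FunFld.genus (AlgebraicClosure k) (Xb k X).functionField := by
      rw [← genus_eq hbR hKb, genus_bc k X]; omega
    have h1 := Groth.FunFld1.ell_le_deg_add_one hKb hE'0
    have h2p : (2 : ℤ) ≤ p := by exact_mod_cast (Fact.out : p.Prime).two_le
    have h3 : 2 * E'.deg ≤ (p : ℤ) * E'.deg :=
      mul_le_mul_of_nonneg_right h2p (deg_nonneg hE'0)
    have h4 := ell_le_deg_of_pos hKb hgb (D := E') (by omega)
    omega
  · push Not at hall
    obtain ⟨l, hl⟩ := hall
    have hl0 : l ≠ 0 := fun he => hl (by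
      rw [he, show t 0 = 1 from div_self hne0]; exact one_mem _)
    refine ⟨t l, E, hE0, hEd, htE _, htr _ hl0, ?_⟩
    by_contra hns
    exact hl ((mem_frobField_iff_not_separable p hK hgeo (t l)).mpr hns)

/-- A place with separable residue field of degree at most `2g - 2`. -/
theorem exists_separable_place :
    ∃ P : FunFld.Place k X.functionField,
      Algebra.IsSeparable k (IsLocalRing.ResidueField P.O) ∧ P.deg ≤ 2 * Curv2.genus k X - 2 := by
  classical
  have hF := isFF k X hdim
  obtain ⟨t, E, hE0, hEd, htE, htr, hsep⟩ := exists_separating_canonical k X hdim h0 hg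
  rcases finite_or_infinite k with hk | hk
  · obtain ⟨P, hP⟩ : ∃ P, E P ≠ 0 := by
      by_contra! hall
      rw [show E = 0 from Finsupp.ext hall, Groth.FunFld1.deg_zero] at hEd
      omega
    refine ⟨P, isSeparable_residue_of_finite hF P, ?_⟩
    have h1 : Finsupp.single P (1 : ℤ) ≤ E := fun R => by
      rcases eq_or_ne R P with rfl | hne
      · rw [Finsupp.single_eq_same]
        have h3 : (0 : ℤ) ≤ E R := hE0 R
        omega
      · rw [Finsupp.single_eq_of_ne hne]; exact hE0 R
    have h2 := deg_mono h1
    rw [Groth.FunFld1.deg_single, hEd] at h2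
    omega
  · haveI := hsep
    haveI := hF.finiteDimensional htr
    have hFt := isFF_adjoin htr
    set F := IntermediateField.adjoin k ({t} : Set X.functionField)
    have hdeg : (Module.finrank F X.functionField : ℤ) ≤ 2 * (Curv2.genus k X : ℤ) - 2 := by
      rw [← hF.deg_poleDiv_eq htr, ← hEd]
      exact deg_mono (hF.deg_poleDiv_le_of_mem_L hE0 htE)
    obtain ⟨θ, hθ⟩ := Field.exists_primitive_element F X.functionField
    have hbad := finite_not_good (K := F) (K' := X.functionField) hFt
      (Algebra.IsSeparable.isSeparable F θ) hθ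
    choose P hPd hPc using exists_rational_place (k := k) htr
    have hPinj : Function.Injective P := by
      intro c d hcd
      by_contra hne
      have h1 := hPc c
      have h2 := hPc d
      rw [hcd] at h1
      have h3 := (P d).1.map_sub (IntermediateField.AdjoinSimple.gen k t - algebraMap k F c)
        (IntermediateField.AdjoinSimple.gen k t - algebraMap k F d)
      rw [show IntermediateField.AdjoinSimple.gen k t - algebraMap k F c -
        (IntermediateField.AdjoinSimple.gen k t - algebraMap k F d) = algebraMap k F (d - c) by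
          rw [map_sub]; ring, Groth.FunFld1.val_algebraMap _ (sub_ne_zero.mpr (Ne.symm hne))] at h3
      exact absurd (h3.trans_lt (max_lt h1 h2)) (lt_irrefl 1)
    obtain ⟨c, hc⟩ := ((hbad.preimage hPinj.injOn).infinite_compl).nonempty
    obtain ⟨f, hf⟩ := not_not.mp hc
    letI : Algebra (P c).O X.functionField := ((algebraMap F X.functionField).comp (P c).O.subtype).toAlgebra
    haveI : IsScalarTower (P c).O F X.functionField := IsScalarTower.of_algebraMap_eq fun _ => rfl
    haveI := isSeparable_residue_of_deg_one (hPd c)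
    obtain ⟨Q, hQ⟩ := hFt.exists_over (K' := X.functionField) (P c)
    refine ⟨Q, hf.isSeparable_residue hFt hQ, ?_⟩
    have hsum := hFt.sum_ramIdx_deg (K' := X.functionField) (P c)
    rw [hPd c, mul_one] at hsum
    have hle : FunFld.ramIdx Q (P c) * Q.deg ≤ Module.finrank F X.functionField := hsum ▸
      Finset.single_le_sum (f := fun R => FunFld.ramIdx R (P c) * R.deg) (fun R _ => Nat.zero_le _) (hFt.mem_above.mpr hQ)
    have he := overWith_pos (isOverWith_ramIdx hQ)
    have : Q.deg ≤ FunFld.ramIdx Q (P c) * Q.deg := Nat.le_mul_of_pos_left _ he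
    omega

end Groth.CurveBridge
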