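import Groth.Agent.CurveBridge.Cokernel
import Groth.Agent.EulerDeg.Basic

/-!
Cohomology of an invertible module on a regular curve from its divisor.
-/

set_option linter.style.haveILetI false
set_option linter.unusedSectionVars false

universe u

open CategoryTheory AlgebraicGeometry Opposite TopologicalSpace WithZero
open Groth.PicAux

namespace Groth.CurveBridge

variable {k : Type u} [Field k] {X : Scheme.{u}} [X.Over (Spec (CommRingCat.of k))]

/-- Degree zero cohomology is global sections. -/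
noncomputable def sec0 (M : X.Modules) : Coh.HH X M 0 ≃+ Γ(M, ⊤) :=
  Groth.CohFin.equivSections (X ↘ Spec (CommRingCat.of k)) M

theorem sec0_smul (M : X.Modules) (c : k) (x : Coh.HH X M 0) :
    sec0 (k := k) M (c • x) =
      (show Γ(X, ⊤) from Coh.toGlobal (X ↘ Spec (CommRingCat.of k)) c) • sec0 (k := k) M x :=
  Groth.CohFin.equivSections_smul (X ↘ Spec (CommRingCat.of k)) M c x

theorem sec0_hMap {M N : X.Modules} (ψ : M ⟶ N) (x : Coh.HH X M 0) :
    sec0 (k := k) N (Groth.EulerDeg.hMap k ψ 0 x) = ψ.app ⊤ (sec0 (k := k) M x) :=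
  Groth.CohFin.equivSections_mapL (X ↘ Spec (CommRingCat.of k)) ψ x

variable [IsIntegral X]

theorem germ_toGlobal (c : k) :
    X.presheaf.germ ⊤ (genericPoint X) trivial
      (show Γ(X, ⊤) from Coh.toGlobal (X ↘ Spec (CommRingCat.of k)) c) = algebraMap k X.functionField c :=
  rfl

/-- Rational functions as cohomology of the constant module. -/
noncomputable def constEquiv : Coh.HH X (constK X) 0 ≃ₗ[k] X.functionField where
  toFun x := kv (U := ⊤) trivial (sec0 (k := k) (constK X) x)
  map_add' x y := by rw [map_add, map_add]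
  map_smul' c x := by
    rw [sec0_smul, kv_smul, germ_toGlobal, RingHom.id_apply, Algebra.smul_def]
  invFun z := (sec0 (k := k) (constK X)).symm (ksec ⊤ z)
  left_inv x := by
    refine (sec0 (k := k) (constK X)).injective ?_
    rw [AddEquiv.apply_symm_apply]
    exact constK_ext fun _ => rfl
  right_inv z := by
    simp only [AddEquiv.apply_symm_apply]
    rfl

variable {L : X.Modules} (φ : L ⟶ constK X) [Mono φ] [IsProper (X ↘ Spec (CommRingCat.of k))]
  (h : IsRegCurve X) {U₀ : X.Opens} (hU₀ : genericPoint X ∈ U₀) {e₀ : Γ(L, U₀)}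
  (hφ : φ.app U₀ e₀ = ksec U₀ 1) {D : FunFld.Divisor k X.functionField}
  (hD : ∀ (x : Pt X) z, InStalk φ x.1 z ↔ (placeAt (k := k) h x).1 z ≤ exp (D (placeAt (k := k) h x)))

/-- Repartitions to polar parts. -/
noncomputable def theta : FunFld.adele k X.functionField →ₗ[k] Coh.HH X (polar φ) 0 where
  toFun a := (sec0 (k := k) (polar φ)).symm (exists_theta φ h hU₀ hφ hD a).choose
  map_add' a b := by
    rw [← map_add]
    refine congrArg _ (polar_ext φ hU₀ hφ h.dim fun y _ => ?_)
    rw [map_add]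
    refine ((exists_theta φ h hU₀ hφ hD (a + b)).choose_spec.1 y).trans ?_
    refine Eq.trans ?_ (congrArg₂ (· + ·) ((exists_theta φ h hU₀ hφ hD a).choose_spec.1 y).symm
      ((exists_theta φ h hU₀ hφ hD b).choose_spec.1 y).symm)
    rw [← map_add]
    rfl
  map_smul' c a := by
    refine (sec0 (k := k) (polar φ)).injective ?_
    rw [RingHom.id_apply, sec0_smul, AddEquiv.apply_symm_apply, AddEquiv.apply_symm_apply]
    refine polar_ext φ hU₀ hφ h.dim fun y _ => ?_
    rw [Groth.QCohMod.germ_smul]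
    refine ((exists_theta φ h hU₀ hφ hD (c • a)).choose_spec.1 y).trans ?_
    refine Eq.trans ?_ (congrArg (Curv2.stalkMap k X y.1 c • ·) ((exists_theta φ h hU₀ hφ hD a).choose_spec.1 y).symm)
    rw [← rho_smul]
    rfl

theorem germ_sec0_theta (a : FunFld.adele k X.functionField) (y : Pt X) :
    Groth.QCohMod.germ (polar φ) y.1 (U := ⊤) trivial (sec0 (k := k) (polar φ) (theta φ h hU₀ hφ hD a)) =
      rho φ y.1 (a.1 (placeAt (k := k) h y)) := by
  change Groth.QCohMod.germ (polar φ) y.1 _ (sec0 (k := k) (polar φ) ((sec0 (k := k) (polar φ)).symm _)) = _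
  rw [AddEquiv.apply_symm_apply]
  exact (exists_theta φ h hU₀ hφ hD a).choose_spec.1 y

theorem theta_eq_zero_iff (a : FunFld.adele k X.functionField) :
    theta φ h hU₀ hφ hD a = 0 ↔ a.1 ∈ FunFld.AD D := by
  constructor
  · intro h0 P
    obtain ⟨y, rfl⟩ := placeAt_surjective (k := k) h P
    refine (hD y _).mp ((rho_eq_zero_iff φ y.1 _).mp ?_)
    rw [← germ_sec0_theta φ h hU₀ hφ hD, h0, map_zero, map_zero]
  · intro ha
    refine (sec0 (k := k) (polar φ)).injective (polar_ext φ hU₀ hφ h.dim fun y _ => ?_)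
    rw [germ_sec0_theta φ h hU₀ hφ hD, map_zero, map_zero, rho_eq_zero_iff, hD]
    exact ha _

theorem theta_surjective : Function.Surjective (theta φ h hU₀ hφ hD) := by
  classical
  intro q
  set s := sec0 (k := k) (polar φ) q with hs
  choose z hz using fun y : Pt X => exists_rho_eq φ y.1 (Groth.QCohMod.germ (polar φ) y.1 (U := ⊤) trivial s)
  -- a section has finitely many non-zero germs
  have hfin : {y : Pt X | Groth.QCohMod.germ (polar φ) y.1 (U := ⊤) trivial s ≠ 0}.Finite :=
    finite_germ_ne_zero φ h hU₀ hφ hD s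
  let f : Pt X → X.functionField := fun y =>
    if Groth.QCohMod.germ (polar φ) y.1 (U := ⊤) trivial s = 0 then 0 else z y
  let a : FunFld.Place k X.functionField → X.functionField := fun P => f ((placeEquiv (k := k) h).symm P)
  have ha : a ∈ FunFld.adele k X.functionField := by
    refine Filter.eventually_cofinite.mpr ((hfin.image (placeEquiv (k := k) h)).subset fun P hP => ?_)
    refine ⟨(placeEquiv (k := k) h).symm P, fun h0 => hP ?_, Equiv.apply_symm_apply _ _⟩
    simp only [a, f, if_pos h0, map_zero, zero_le]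
  refine ⟨⟨a, ha⟩, (sec0 (k := k) (polar φ)).injective (polar_ext φ hU₀ hφ h.dim fun y _ => ?_)⟩
  rw [germ_sec0_theta φ h hU₀ hφ hD]
  show rho φ y.1 (f ((placeEquiv (k := k) h).symm (placeEquiv (k := k) h y))) = _
  rw [Equiv.symm_apply_apply]
  simp only [f]
  split_ifs with h0
  · rw [map_zero]; exact h0.symm
  · exact hz y

theorem theta_diag (z : X.functionField) :
    theta φ h hU₀ hφ hD ⟨FunFld.diag k X.functionField z, Groth.FunFld1.IsFF.diag_mem_adele (isFF k X h.dim) z⟩ =
      Groth.EulerDeg.hMap k (Limits.cokernel.π φ) 0 ((constEquiv (k := k)).symm z) := by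
  refine (sec0 (k := k) (polar φ)).injective (polar_ext φ hU₀ hφ h.dim fun y _ => ?_)
  rw [germ_sec0_theta φ h hU₀ hφ hD, sec0_hMap]
  show rho φ y.1 z = Groth.QCohMod.germ (polar φ) y.1 _ ((Limits.cokernel.π φ).app ⊤
    (sec0 (k := k) (constK X) ((sec0 (k := k) (constK X)).symm (ksec ⊤ z))))
  rw [AddEquiv.apply_symm_apply]
  exact rho_eq φ y.1 _ z

theorem shortExact : (ShortComplex.mk φ (Limits.cokernel.π φ) (Limits.cokernel.condition φ)).ShortExact :=
  { exact := ShortComplex.exact_cokernel φ }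

include h hU₀ hφ hD

/-- `H⁰(X, L) = L(D)`. -/
theorem nonempty_h0_equiv : Nonempty (Coh.HH X L 0 ≃ₗ[k] FunFld.L D) := by
  set S := ShortComplex.mk φ (Limits.cokernel.π φ) (Limits.cokernel.condition φ)
  let ι : Coh.HH X L 0 →ₗ[k] X.functionField :=
    (constEquiv (k := k)).toLinearMap.comp (Groth.EulerDeg.hMap k φ 0)
  have hinj : Function.Injective ι := fun a b hab =>
    Groth.EulerDeg.injective_zero (hS := shortExact φ) (A := k) ((constEquiv (k := k)).injective hab)
  have hrange : LinearMap.range ι = FunFld.L D := by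
    ext z
    have hmem : z ∈ FunFld.L D ↔ theta φ h hU₀ hφ hD
        ⟨FunFld.diag k X.functionField z, Groth.FunFld1.IsFF.diag_mem_adele (isFF k X h.dim) z⟩ = 0 := by
      rw [theta_eq_zero_iff]
      rfl
    rw [hmem, theta_diag, (Groth.EulerDeg.exact_mid k (shortExact φ) 0) _]
    constructor
    · rintro ⟨a, rfl⟩
      exact ⟨a, ((constEquiv (k := k)).symm_apply_apply _).symm⟩
    · rintro ⟨a, ha⟩
      refine ⟨a, ?_⟩
      show constEquiv (k := k) (Groth.EulerDeg.hMap k φ 0 a) = z
      rw [show Groth.EulerDeg.hMap k φ 0 a = (constEquiv (k := k)).symm z from ha, LinearEquiv.apply_symm_apply]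
  exact ⟨(LinearEquiv.ofInjective ι hinj).trans (LinearEquiv.ofEq _ _ hrange)⟩

/-- `H¹(X, L) = A / (A(D) + K)`. -/
theorem nonempty_h1_equiv :
    Nonempty ((↥(FunFld.adele k X.functionField) ⧸ FunFld.ADK D) ≃ₗ[k] Coh.HH X L 1) := by
  set S := ShortComplex.mk φ (Limits.cokernel.π φ) (Limits.cokernel.condition φ)
  let Φ : FunFld.adele k X.functionField →ₗ[k] Coh.HH X L 1 :=
    (Groth.EulerDeg.hDelta k (shortExact φ) 0).comp (theta φ h hU₀ hφ hD)
  have hsur : Function.Surjective Φ := by
    intro w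
    haveI : Subsingleton (Coh.HH X S.X₂ (0 + 1)) := subsingleton_HH_constK (X := X) 0
    obtain ⟨q, rfl⟩ := ((Groth.EulerDeg.exact_left k (shortExact φ) 0) w).mp (Subsingleton.elim _ _)
    obtain ⟨a, rfl⟩ := theta_surjective φ h hU₀ hφ hD q
    exact ⟨a, rfl⟩
  have hker : LinearMap.ker Φ = FunFld.ADK D := by
    ext a
    rw [LinearMap.mem_ker]
    show Groth.EulerDeg.hDelta k (shortExact φ) 0 (theta φ h hU₀ hφ hD a) = 0 ↔ _
    rw [(Groth.EulerDeg.exact_right k (shortExact φ) 0) _]
    constructor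
    · rintro ⟨g, hg⟩
      obtain ⟨z, rfl⟩ := (constEquiv (k := k)).symm.surjective g
      have h0 : theta φ h hU₀ hφ hD
          (a - ⟨FunFld.diag k X.functionField z, Groth.FunFld1.IsFF.diag_mem_adele (isFF k X h.dim) z⟩) = 0 := by
        rw [map_sub, theta_diag, ← hg, sub_self]
      rw [theta_eq_zero_iff] at h0
      show a.1 ∈ FunFld.AD D ⊔ LinearMap.range (FunFld.diag k X.functionField)
      exact Submodule.mem_sup.mpr ⟨_, h0, _, ⟨z, rfl⟩, sub_add_cancel _ _⟩
    · intro ha
      obtain ⟨b, hb, _, ⟨z, rfl⟩, he⟩ := Submodule.mem_sup.mp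
        (show a.1 ∈ FunFld.AD D ⊔ LinearMap.range (FunFld.diag k X.functionField) from ha)
      refine ⟨(constEquiv (k := k)).symm z, ?_⟩
      rw [← theta_diag φ h hU₀ hφ hD, eq_comm, ← sub_eq_zero, ← map_sub, theta_eq_zero_iff]
      show a.1 - FunFld.diag k X.functionField z ∈ FunFld.AD D
      rw [← he, add_sub_cancel_right]
      exact hb
  exact ⟨(Submodule.quotEquivOfEq _ _ hker.symm).trans (Φ.quotKerEquivOfSurjective hsur)⟩

end Groth.CurveBridge
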