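import Groth.Agent.CurveBridge.Divisor
import Groth.Agent.CohFin.Linear

/-!
Global sections of the cokernel of `L → K` as repartitions.
-/

set_option linter.style.haveILetI false
set_option linter.unusedSectionVars false

universe u

open CategoryTheory AlgebraicGeometry Opposite TopologicalSpace WithZero
open Groth.PicAux

namespace Groth.CurveBridge

variable {k : Type u} [Field k] {X : Scheme.{u}} [X.Over (Spec (CommRingCat.of k))] [IsIntegral X]
  {L : X.Modules} (φ : L ⟶ constK X)

local notation "Q" => Limits.cokernel φ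

/-- A section over `V` vanishing on `V ⊓ W` extends by zero on `W`. -/
theorem exists_extend_zero (M : X.Modules) {V W : X.Opens} (hcov : V ⊔ W = ⊤) (s : Γ(M, V))
    (hs : res M (inf_le_left : V ⊓ W ≤ V) s = 0) :
    ∃ t : Γ(M, ⊤), res M (le_top : V ≤ ⊤) t = s ∧ res M (le_top : W ≤ ⊤) t = 0 := by
  let O : Bool → X.Opens := fun b => bif b then V else W
  let sf : ∀ b, Γ(M, O b) := fun b => match b with
    | true => s
    | false => 0
  have hs' : res M (inf_le_right : W ⊓ V ≤ V) s = 0 := by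
    rw [← res_res (inf_le_left : V ⊓ W ≤ V) (le_of_eq (inf_comm W V)), hs, res_zero]
  obtain ⟨t, ht, -⟩ := res_glue O (fun _ => le_top)
    (by rw [← hcov]; exact sup_le (le_iSup O true) (le_iSup O false)) sf fun i j => by
      cases i <;> cases j
      · rfl
      · exact (res_zero _).trans hs'.symm
      · exact hs.trans (res_zero _).symm
      · rfl
  exact ⟨t, ht true, ht false⟩

theorem germ_res' (M : X.Modules) {U V : X.Opens} (h : V ≤ U) (x : X) (hx : x ∈ V) (m : Γ(M, U)) :
    Groth.QCohMod.germ M x hx (res M h m) = Groth.QCohMod.germ M x (h hx) m :=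
  TopCat.Presheaf.germ_res_apply M.presheaf (homOfLE h) x hx m

/-- The sheaf of polar parts. -/
noncomputable abbrev polar : X.Modules := Limits.cokernel φ

/-- The image of a rational function in the stalk of polar parts. -/
noncomputable def rho (x : X) : X.functionField →+ (polar φ).presheaf.stalk x :=
  ((Groth.QCohMod.germ (polar φ) x (U := ⊤) trivial).comp
    ((Limits.cokernel.π φ).app ⊤).hom).comp (ksec ⊤)

theorem rho_eq (x : X) {V : X.Opens} (hx : x ∈ V) (z : X.functionField) :
    rho φ x z = Groth.QCohMod.germ (polar φ) x hx ((Limits.cokernel.π φ).app V (ksec V z)) := by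
  show Groth.QCohMod.germ (polar φ) x _ ((Limits.cokernel.π φ).app ⊤ (ksec ⊤ z)) = _
  rw [← res_ksec (le_top : V ≤ ⊤), app_res, germ_res']

theorem exists_rho_eq (x : X) (q : (polar φ).presheaf.stalk x) : ∃ z, rho φ x z = q := by
  have : Function.Surjective ((Groth.QCohMod.stalk x).map (Limits.cokernel.π φ)) :=
    (Groth.QCohMod.epi_iff_stalk _).mp inferInstance x
  obtain ⟨g, hg⟩ := this q
  obtain ⟨V, hxV, s, rfl⟩ := Groth.QCohMod.exists_germ (constK X) x g
  refine ⟨kv (generic_mem V hxV) s, ?_⟩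
  rw [rho_eq φ x hxV, ← hg, Groth.QCohMod.stalk_map_germ]
  congr 1

theorem rho_eq_zero_iff [Mono φ] (x : X) (z : X.functionField) : rho φ x z = 0 ↔ InStalk φ x z := by
  have hex : ((ShortComplex.mk φ (Limits.cokernel.π φ) (Limits.cokernel.condition φ)).map
      (Groth.QCohMod.stalk x)).Exact :=
    (ShortComplex.exact_cokernel φ).map (Groth.QCohMod.stalk x)
  rw [ShortComplex.ab_exact_iff] at hex
  constructor
  · intro h0
    rw [rho_eq φ x (Opens.mem_top x), ← Groth.QCohMod.stalk_map_germ] at h0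
    obtain ⟨t, ht⟩ := hex _ h0
    obtain ⟨W, hxW, m, rfl⟩ := Groth.QCohMod.exists_germ L x t
    have ht' : (Groth.QCohMod.stalk x).map φ (Groth.QCohMod.germ L x hxW m) =
        Groth.QCohMod.germ (constK X) x (Opens.mem_top x) (ksec ⊤ z) := ht
    rw [Groth.QCohMod.stalk_map_germ] at ht'
    obtain ⟨V, hxV, i, j, hij⟩ := TopCat.Presheaf.germ_eq (constK X).presheaf x hxW (Opens.mem_top x)
      _ _ ht'
    refine ⟨W, hxW, m, ?_⟩
    have e : res (constK X) i.le (φ.app W m) = res (constK X) j.le (ksec ⊤ z) := hij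
    have := congrArg (kv (generic_mem V hxV)) e
    rwa [kv_res, kv_res, kv_ksec] at this
  · rintro ⟨W, hxW, m, rfl⟩
    rw [rho_eq φ x hxW]
    have e : ksec W (kv (generic_mem W hxW) (φ.app W m)) = φ.app W m := constK_ext fun _ => rfl
    rw [e]
    have : (Limits.cokernel.π φ).app W (φ.app W m) = 0 := by
      have h1 := congrArg (fun ψ : L ⟶ polar φ => ψ.app W m) (Limits.cokernel.condition φ)
      exact h1
    rw [this, map_zero]

/-- Constants act on rational functions through the generic point. -/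
theorem rho_smul (x : X) (c : k) (z : X.functionField) :
    rho φ x (c • z) = Curv2.stalkMap k X x c • rho φ x z := by
  have e : ksec ⊤ (c • z) =
      (show Γ(X, ⊤) from Coh.toGlobal (X ↘ Spec (CommRingCat.of k)) c) • ksec ⊤ z := by
    rw [ksec_smul (Opens.mem_top (genericPoint X)), Algebra.smul_def]
    rfl
  rw [rho_eq φ x (Opens.mem_top x), rho_eq φ x (Opens.mem_top x), e, Scheme.Modules.Hom.app_smul,
    Groth.QCohMod.germ_smul]
  rfl

theorem polar_generic_eq_zero {U₀ : X.Opens} (hU₀ : genericPoint X ∈ U₀) {e₀ : Γ(L, U₀)} [Mono φ]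
    (hφ : φ.app U₀ e₀ = ksec U₀ 1) (q : (polar φ).presheaf.stalk (genericPoint X)) : q = 0 := by
  obtain ⟨z, rfl⟩ := exists_rho_eq φ _ q
  rw [rho_eq_zero_iff]
  obtain ⟨W, hW, a, ha⟩ := TopCat.Presheaf.exists_germ_eq X.presheaf (show X.presheaf.stalk (genericPoint X) from z)
  refine ⟨W ⊓ U₀, ⟨hW, hU₀⟩,
    resX X (inf_le_left : W ⊓ U₀ ≤ W) a • res L (inf_le_right : W ⊓ U₀ ≤ U₀) e₀, ?_⟩
  rw [Scheme.Modules.Hom.app_smul, app_res, kv_smul, kv_res, hφ, kv_ksec, mul_one, germ_resX']
  exact ha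

theorem polar_ext [Mono φ] {U₀ : X.Opens} (hU₀ : genericPoint X ∈ U₀) {e₀ : Γ(L, U₀)}
    (hφ : φ.app U₀ e₀ = ksec U₀ 1) (hdim : topologicalKrullDim X = 1) {U : X.Opens} {s t : Γ(polar φ, U)}
    (h : ∀ x : Pt X, ∀ hx : x.1 ∈ U, Groth.QCohMod.germ (polar φ) x.1 hx s =
      Groth.QCohMod.germ (polar φ) x.1 hx t) : s = t := by
  refine TopCat.Presheaf.section_ext (⟨(polar φ).presheaf, (polar φ).isSheaf⟩ : TopCat.Sheaf Ab.{u} X)
    U s t fun y hy => ?_
  by_cases hy' : y = genericPoint X
  · subst hy'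
    exact (polar_generic_eq_zero φ hU₀ hφ _).trans (polar_generic_eq_zero φ hU₀ hφ _).symm
  · exact h ⟨y, (isClosed_singleton_iff X hdim y).mpr hy'⟩ hy

section

variable [Mono φ] [IsProper (X ↘ Spec (CommRingCat.of k))] (h : IsRegCurve X)
  {U₀ : X.Opens} (hU₀ : genericPoint X ∈ U₀) {e₀ : Γ(L, U₀)} (hφ : φ.app U₀ e₀ = ksec U₀ 1)
  {D : FunFld.Divisor k X.functionField}
  (hD : ∀ (x : Pt X) z, InStalk φ x.1 z ↔ (placeAt (k := k) h x).1 z ≤ exp (D (placeAt (k := k) h x)))

include h hU₀ hφ hD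

theorem finite_rho_ne_zero (z : X.functionField) : {x : Pt X | rho φ x.1 z ≠ 0}.Finite := by
  have hF := isFF k X h.dim
  have h1 : ({P : FunFld.Place k X.functionField | 0 < P.ord z⁻¹} ∪ (D.support : Set _)).Finite :=
    (hF.finite_zeros z⁻¹).union D.support.finite_toSet
  refine (h1.preimage (placeAt_injective (k := k) h).injOn).subset fun x hx => ?_
  by_contra hne
  rw [Set.mem_preimage, Set.mem_union, not_or, Set.mem_setOf_eq, Finset.mem_coe,
    Finsupp.notMem_support_iff, not_lt] at hne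
  refine hx ((rho_eq_zero_iff φ x.1 z).mpr ((hD x z).mpr ?_))
  rw [hne.2, exp_zero]
  rcases eq_or_ne z 0 with rfl | hz
  · simp
  · rw [Groth.FunFld1.val_eq_exp_neg_ord _ hz, ← exp_zero, exp_le_exp]
    have := hne.1
    rw [Groth.FunFld1.ord_inv] at this
    omega

open scoped Classical in
/-- A single polar part. -/
theorem exists_single (x : Pt X) (z : X.functionField) :
    ∃ q : Γ(polar φ, ⊤), ∀ y : Pt X, Groth.QCohMod.germ (polar φ) y.1 (U := ⊤) trivial q =
      if y = x then rho φ y.1 z else 0 := by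
  classical
  haveI : CompactSpace X := QuasiCompact.compactSpace_of_compactSpace (X ↘ Spec (CommRingCat.of k))
  set T : Set X := (Subtype.val '' ({y : Pt X | rho φ y.1 z ≠ 0} \ {x})) with hT
  have hTfin : T.Finite := ((finite_rho_ne_zero φ h hU₀ hφ hD z).sdiff).image _
  have hTc : IsClosed T := by
    rw [← Set.biUnion_of_singleton T]
    exact hTfin.isClosed_biUnion (by rintro _ ⟨y, -, rfl⟩; exact y.2)
  let V : X.Opens := ⟨Tᶜ, hTc.isOpen_compl⟩
  let W : X.Opens := ⟨({x.1} : Set X)ᶜ, x.2.isOpen_compl⟩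
  have hxV : x.1 ∈ V := by
    rintro ⟨y, hy, hyx⟩
    exact hy.2 (Subtype.ext hyx)
  have hcov : V ⊔ W = ⊤ := eq_top_iff.mpr fun y _ => by
    by_cases hy : y = x.1
    · exact Or.inl (hy ▸ hxV)
    · exact Or.inr hy
  have hs : res (polar φ) (inf_le_left : V ⊓ W ≤ V) ((Limits.cokernel.π φ).app V (ksec V z)) = 0 := by
    refine polar_ext φ hU₀ hφ h.dim fun y hy => ?_
    rw [germ_res', map_zero, ← rho_eq φ y.1 hy.1]
    by_contra hne
    exact hy.1 ⟨y, ⟨hne, fun hyx => hy.2 (congrArg Subtype.val hyx)⟩, rfl⟩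
  obtain ⟨q, hq', hqW⟩ := exists_extend_zero (polar φ) hcov _ hs
  refine ⟨q, fun y => ?_⟩
  by_cases hyV : y.1 ∈ V
  · have hg : Groth.QCohMod.germ (polar φ) y.1 (U := ⊤) trivial q = rho φ y.1 z := by
      rw [rho_eq φ y.1 hyV, ← hq', germ_res']
    rw [hg]
    split_ifs with e
    · rfl
    · by_contra hne
      exact hyV ⟨y, ⟨hne, e⟩, rfl⟩
  · rw [if_neg (fun e : y = x => hyV (e ▸ hxV))]
    -- off `V` the section restricts to zero
    have hyW : y.1 ∈ W := (eq_top_iff.mp hcov (Opens.mem_top y.1)).resolve_left hyV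
    rw [← germ_res' (polar φ) (le_top : W ≤ ⊤) y.1 hyW, hqW, map_zero]
  
/-- The polar parts of a repartition. -/
theorem exists_theta (a : FunFld.adele k X.functionField) :
    ∃! q : Γ(polar φ, ⊤), ∀ y : Pt X,
      Groth.QCohMod.germ (polar φ) y.1 (U := ⊤) trivial q = rho φ y.1 (a.1 (placeAt (k := k) h y)) := by
  classical
  have hbad : {y : Pt X | rho φ y.1 (a.1 (placeAt (k := k) h y)) ≠ 0}.Finite := by
    have h1 : ({P : FunFld.Place k X.functionField | ¬ P.1 (a.1 P) ≤ 1} ∪ (D.support : Set _)).Finite :=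
      (Filter.eventually_cofinite.mp a.2).union D.support.finite_toSet
    refine (h1.preimage (placeAt_injective (k := k) h).injOn).subset fun x hx => ?_
    by_contra hne
    rw [Set.mem_preimage, Set.mem_union, not_or, Set.mem_setOf_eq, Finset.mem_coe,
      Finsupp.notMem_support_iff, not_not] at hne
    refine hx ((rho_eq_zero_iff φ x.1 _).mpr ((hD x _).mpr ?_))
    rw [hne.2, exp_zero]
    exact hne.1
  choose q hq using fun y : Pt X => exists_single φ h hU₀ hφ hD y (a.1 (placeAt (k := k) h y))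
  refine ⟨∑ y ∈ hbad.toFinset, q y, fun y => ?_, fun q' hq' => polar_ext φ hU₀ hφ h.dim fun y _ => ?_⟩
  · rw [map_sum]
    simp only [hq, Finset.sum_ite_eq]
    split_ifs with hy
    · rfl
    · rw [Set.Finite.mem_toFinset, Set.mem_setOf_eq, not_not] at hy
      exact hy.symm
  · refine (hq' y).trans ?_
    rw [map_sum]
    simp only [hq, Finset.sum_ite_eq]
    split_ifs with hy
    · rfl
    · rw [Set.Finite.mem_toFinset, Set.mem_setOf_eq, not_not] at hy
      exact hy

/-- A section of polar parts has finitely many non-zero germs. -/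
theorem finite_germ_ne_zero (s : Γ(polar φ, ⊤)) :
    {y : Pt X | Groth.QCohMod.germ (polar φ) y.1 (U := ⊤) trivial s ≠ 0}.Finite := by
  haveI : CompactSpace X := QuasiCompact.compactSpace_of_compactSpace (X ↘ Spec (CommRingCat.of k))
  haveI : IsLocallyNoetherian X := LocallyOfFiniteType.isLocallyNoetherian (X ↘ Spec (CommRingCat.of k))
  haveI : IsNoetherian X := ⟨⟩
  haveI : NoetherianSpace X.toTopCat := (inferInstance : NoetherianSpace X)
  haveI : QuasiSober X.toTopCat := (inferInstance : QuasiSober X)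
  let Z : Set X := {x | Groth.QCohMod.germ (polar φ) x (U := ⊤) trivial s ≠ 0}
  have hcl : closure Z ∩ Set.univ ⊆ Z := by
    rintro x ⟨hx, -⟩ h0
    obtain ⟨W, hxW, i, j, he⟩ := TopCat.Presheaf.germ_eq (polar φ).presheaf x (Opens.mem_top x)
      (Opens.mem_top x) s 0 (h0.trans (map_zero _).symm)
    obtain ⟨y, hyW, hyZ⟩ := mem_closure_iff.mp hx W W.isOpen hxW
    refine hyZ ?_
    have := congrArg (Groth.QCohMod.germ (polar φ) y hyW)
      (show res (polar φ) i.le s = res (polar φ) j.le 0 from he)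
    rwa [germ_res', germ_res', map_zero] at this
  have hpts : ∀ z ∈ Z, IsClosed ({z} : Set X) := fun z hz =>
    (isClosed_singleton_iff X h.dim z).mpr fun he => hz (by
      subst he; exact polar_generic_eq_zero φ hU₀ hφ _)
  exact ((Groth.EulerDeg.finite_and_isClosed_of_closed_points (X := X.toTopCat) (Z := Z) isOpen_univ
    (Set.subset_univ _) hcl hpts).1).preimage Subtype.val_injective.injOn

end

end Groth.CurveBridge
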