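import Groth.Agent.FunFld1.Basic
import Groth.Agent.Chow.ToPn

/-!
The homogeneous forms vanishing at a point `(u : v : 1)` of a Weierstrass cubic.
-/

set_option linter.style.haveILetI false
set_option linter.unusedSectionVars false

universe u

open WithZero

namespace Groth.CurveBridge.CubicAlgebra

open Polynomial

variable {k K : Type u} [Field k] [Field K] [Algebra k K]

theorem val_aeval {P : FunFld.Place k K} {v : K} {e : ℕ} (he : 0 < e) (hv : P.1 v = exp (e : ℤ))
    {c : k[X]} (hc : c ≠ 0) : P.1 (aeval v c) = exp ((c.natDegree * e : ℕ) : ℤ) := by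
  have hterm : ∀ i, c.coeff i ≠ 0 → P.1 (algebraMap k K (c.coeff i) * v ^ i) = exp ((i * e : ℕ) : ℤ) :=
    fun i hi => by
      rw [map_mul, map_pow, Groth.FunFld1.val_algebraMap P hi, hv, one_mul, ← exp_nsmul]
      simp
  have hlead : c.coeff c.natDegree ≠ 0 := leadingCoeff_ne_zero.mpr hc
  rw [aeval_eq_sum_range, Finset.sum_congr rfl fun i _ => Algebra.smul_def (c.coeff i) (v ^ i),
    P.1.map_sum_eq_of_lt (j := c.natDegree) (Finset.self_mem_range_succ _) (fun i hi => ?_),
    hterm _ hlead]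
  rw [hterm _ hlead]
  simp only [Finset.mem_sdiff, Finset.mem_range, Finset.mem_singleton] at hi
  by_cases h0 : c.coeff i = 0
  · simp [h0]
  · rw [hterm i h0, exp_lt_exp]
    exact_mod_cast Nat.mul_lt_mul_of_pos_right (show i < c.natDegree by omega) he

variable {P : FunFld.Place k K} {u v : K} (hu : P.1 u = exp (2 : ℤ)) (hv : P.1 v = exp (3 : ℤ))
include hu hv

theorem eq_zero_of_aeval {c₀ c₁ c₂ : k[X]}
    (h : aeval v c₀ + u * aeval v c₁ + u ^ 2 * aeval v c₂ = 0) : c₀ = 0 ∧ c₁ = 0 ∧ c₂ = 0 := by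
  classical
  let w : Fin 3 → K := fun i => u ^ i.1 * aeval v (![c₀, c₁, c₂] i)
  have hsum : ∑ i, w i = 0 := by
    rw [Fin.sum_univ_three]
    simpa [w] using h
  have hw : ∀ i, ![c₀, c₁, c₂] i ≠ 0 →
      P.1 (w i) = exp ((2 * i.1 + (![c₀, c₁, c₂] i).natDegree * 3 : ℕ) : ℤ) := fun i hi => by
    simp only [w, map_mul, map_pow, hu, val_aeval (e := 3) (by norm_num) (by exact_mod_cast hv) hi, ← exp_nsmul,
      ← exp_add]
    congr 1
    push_cast
    ring
  by_contra hne
  have hex : (Finset.univ.filter fun i : Fin 3 => ![c₀, c₁, c₂] i ≠ 0).Nonempty := by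
    by_contra hall
    rw [Finset.not_nonempty_iff_eq_empty, Finset.filter_eq_empty_iff] at hall
    exact hne ⟨by simpa using hall (Finset.mem_univ 0), by simpa using hall (Finset.mem_univ 1),
      by simpa using hall (Finset.mem_univ 2)⟩
  obtain ⟨j, hj, hmax⟩ := Finset.exists_max_image _
    (fun i => 2 * i.1 + (![c₀, c₁, c₂] i).natDegree * 3) hex
  have hj' := (Finset.mem_filter.mp hj).2
  have := P.1.map_sum_eq_of_lt (f := w) (Finset.mem_univ j) fun i hi => ?_
  · rw [hsum, map_zero, hw j hj'] at this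
    exact exp_ne_zero this.symm
  · simp only [Finset.mem_sdiff, Finset.mem_singleton] at hi
    rw [hw j hj']
    by_cases h0 : ![c₀, c₁, c₂] i = 0
    · simp [w, h0]
    · rw [hw i h0, exp_lt_exp, Nat.cast_lt]
      refine lt_of_le_of_ne (hmax i (Finset.mem_filter.mpr ⟨Finset.mem_univ _, h0⟩)) fun he => hi.2 ?_
      exact Fin.ext (by have := i.2; have := j.2; omega)

/-- The forms vanishing at `(u : v : 1)` are the multiples of the Weierstrass form. -/
theorem dvd_of_aeval_eq_zero {a₁ a₂ a₃ a₄ a₆ : k} {W : MvPolynomial (Fin (2 + 1)) k}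
    (hW : W = MvPolynomial.X 1 ^ 2 * MvPolynomial.X 2 + MvPolynomial.C a₁ * MvPolynomial.X 0 * MvPolynomial.X 1 * MvPolynomial.X 2 + MvPolynomial.C a₃ * MvPolynomial.X 1 * MvPolynomial.X 2 ^ 2 - MvPolynomial.X 0 ^ 3 - MvPolynomial.C a₂ * MvPolynomial.X 0 ^ 2 * MvPolynomial.X 2 - MvPolynomial.C a₄ * MvPolynomial.X 0 * MvPolynomial.X 2 ^ 2 - MvPolynomial.C a₆ * MvPolynomial.X 2 ^ 3)
    (hWz : MvPolynomial.aeval ![u, v, 1] W = 0)
    {d : ℕ} {p : MvPolynomial (Fin (2 + 1)) k} (hp : p ∈ CohB1.polyGrading 2 k d)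
    (hpz : MvPolynomial.aeval ![u, v, 1] p = 0) : W ∣ p := by
  classical
  let Φ : MvPolynomial (Fin 2) k →ₐ[k] k[X][X] := MvPolynomial.aeval ![C X * X, X]
  let ev : k[X][X] →+* K[X] := mapRingHom (aeval v).toRingHom
  let ψ : MvPolynomial (Fin (2 + 1)) k →+* K[X] :=
    MvPolynomial.eval₂Hom (C.comp (algebraMap k K)) fun l => X * C (![u, v, 1] l)
  let ψ' : (MvPolynomial (Fin 2) k)[X] →+* K[X] := eval₂RingHom (ev.comp Φ.toRingHom) (C u * X)
  have hψ : ψ = ψ'.comp (MvPolynomial.finSuccEquiv k 2).toRingEquiv.toRingHom := by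
    refine MvPolynomial.ringHom_ext (fun a => ?_) fun i => ?_
    · simp [ψ, ψ', ev, Φ, MvPolynomial.finSuccEquiv_apply]
    · change MvPolynomial.eval₂ _ _ (MvPolynomial.X i) = ψ' (MvPolynomial.finSuccEquiv k 2 (MvPolynomial.X i))
      rw [MvPolynomial.eval₂_X]
      induction i using Fin.cases with
      | zero => rw [MvPolynomial.finSuccEquiv_X_zero]; simp [ψ', X_mul_C]
      | succ j =>
        rw [MvPolynomial.finSuccEquiv_X_succ]
        fin_cases j <;> simp [ψ', ev, Φ, X_mul_C]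
  have hψ0 : ∀ {e : ℕ} {q : MvPolynomial (Fin (2 + 1)) k}, q ∈ CohB1.polyGrading 2 k e →
      MvPolynomial.aeval ![u, v, 1] q = 0 → ψ' (MvPolynomial.finSuccEquiv k 2 q) = 0 := fun {e q} hq hz => by
    have : ψ q = 0 := by
      simp only [ψ, MvPolynomial.coe_eval₂Hom]
      rw [Groth.Chow.ToPn.eval₂_scale _ (fun l => C (![u, v, 1] l)) X hq]
      have := MvPolynomial.eval₂_comp_left (C : K →+* K[X]) (algebraMap k K) ![u, v, 1] q
      rw [show MvPolynomial.eval₂ (algebraMap k K) ![u, v, 1] q = 0 from hz, map_zero] at this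
      rw [show (fun l => C (![u, v, 1] l)) = C ∘ ![u, v, 1] from rfl, ← this, mul_zero]
    rw [hψ] at this
    exact this
  let Y : MvPolynomial (Fin 2) k := MvPolynomial.X 0
  let Z : MvPolynomial (Fin 2) k := MvPolynomial.X 1
  let M : (MvPolynomial (Fin 2) k)[X] := X ^ 3 + C (MvPolynomial.C a₂ * Z) * X ^ 2 +
    C (MvPolynomial.C a₄ * Z ^ 2 - MvPolynomial.C a₁ * Y * Z) * X +
    C (MvPolynomial.C a₆ * Z ^ 3 - MvPolynomial.C a₃ * Y * Z ^ 2 - Y ^ 2 * Z)
  have hM : M.Monic := by
    simp only [M]; monicity!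
  have hMd : M.natDegree = 3 := by
    simp only [M]; compute_degree!
  have hWM : MvPolynomial.finSuccEquiv k 2 W = -M := by
    have h1 : (1 : Fin (2 + 1)) = (0 : Fin 2).succ := rfl
    have h2 : (2 : Fin (2 + 1)) = (1 : Fin 2).succ := rfl
    rw [hW, h1, h2]
    simp only [map_add, map_sub, map_mul, map_pow, MvPolynomial.finSuccEquiv_X_zero,
      MvPolynomial.finSuccEquiv_X_succ, M, Y, Z]
    simp only [MvPolynomial.finSuccEquiv_apply, MvPolynomial.eval₂Hom_C, RingHom.coe_comp,
      Function.comp_apply]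
    ring
  have hWh : W ∈ CohB1.polyGrading 2 k 3 := by
    rw [MvPolynomial.mem_homogeneousSubmodule, hW]
    have hX := fun i : Fin (2 + 1) => MvPolynomial.isHomogeneous_X k i
    have hC := fun a : k => MvPolynomial.isHomogeneous_C (Fin (2 + 1)) a
    refine ((((((?_ : MvPolynomial.IsHomogeneous _ 3).add ?_).add ?_).sub ?_).sub ?_).sub ?_).sub ?_
    · exact ((hX 1).pow 2).mul (hX 2)
    · exact (((hC a₁).mul (hX 0)).mul (hX 1)).mul (hX 2)
    · exact ((hC a₃).mul (hX 1)).mul ((hX 2).pow 2)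
    · exact (hX 0).pow 3
    · exact ((hC a₂).mul ((hX 0).pow 2)).mul (hX 2)
    · exact ((hC a₄).mul (hX 0)).mul ((hX 2).pow 2)
    · exact (hC a₆).mul ((hX 2).pow 3)
  have hM0 : ψ' M = 0 := by
    have := hψ0 hWh hWz
    rwa [hWM, map_neg, neg_eq_zero] at this
  set F := MvPolynomial.finSuccEquiv k 2 p with hF
  set R := F %ₘ M with hR
  have hR0 : ψ' R = 0 := by
    have h := congrArg ψ' (modByMonic_add_div F M)
    rw [map_add, map_mul, hM0, zero_mul, add_zero, ← hR, hF, hψ0 hp hpz] at h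
    exact h
  have hRd : R.natDegree < 3 := by
    have := natDegree_modByMonic_lt F hM (fun h1 => by rw [h1, natDegree_one] at hMd; omega)
    rw [hR]; omega
  have hev : ψ' R = ev (Φ (R.coeff 0)) + C u * ev (X * Φ (R.coeff 1)) + C (u ^ 2) * ev (X ^ 2 * Φ (R.coeff 2)) := by
    conv_lhs => rw [R.as_sum_range_C_mul_X_pow' hRd]
    simp only [Finset.sum_range_succ, Finset.sum_range_zero, map_add, map_mul, map_pow, map_zero, zero_add,
      ψ', coe_eval₂RingHom, eval₂_C, eval₂_X]
    simp only [ev, coe_mapRingHom, Polynomial.map_X, RingHom.coe_comp, Function.comp_apply]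
    change _ = _
    simp only [AlgHom.toRingHom_eq_coe, RingHom.coe_coe]
    ring
  have hcoef : ∀ e, (Φ (R.coeff 0)).coeff e = 0 ∧ (X * Φ (R.coeff 1)).coeff e = 0 ∧
      (X ^ 2 * Φ (R.coeff 2)).coeff e = 0 := fun e => by
    have h := congrArg (fun q : K[X] => q.coeff e) (hev.symm.trans hR0)
    simp only [coeff_add, coeff_C_mul, ev, coe_mapRingHom, coeff_map, coeff_zero] at h
    exact eq_zero_of_aeval hu hv h
  have hinj : Function.Injective Φ := by
    let A := FractionRing (MvPolynomial (Fin 2) k)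
    let y := algebraMap (MvPolynomial (Fin 2) k) A (MvPolynomial.X 0)
    let z := algebraMap (MvPolynomial (Fin 2) k) A (MvPolynomial.X 1)
    have hz : z ≠ 0 := (map_ne_zero_iff _ (IsFractionRing.injective _ _)).mpr (MvPolynomial.X_ne_zero _)
    let back : k[X][X] →+* A := eval₂RingHom (eval₂RingHom (algebraMap k A) (y / z)) z
    have hb : back.comp Φ.toRingHom = algebraMap (MvPolynomial (Fin 2) k) A := by
      refine MvPolynomial.ringHom_ext (fun a => ?_) fun i => ?_
      · simp [back, Φ, IsScalarTower.algebraMap_apply k (MvPolynomial (Fin 2) k) A]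
      · fin_cases i
        · simp only [back, Φ, y, z] at hz ⊢
          simp [div_mul_cancel₀ _ hz]
        · simp [back, Φ, z]
    intro a b hab
    refine IsFractionRing.injective (MvPolynomial (Fin 2) k) A ?_
    rw [← hb]
    exact congrArg back hab
  have hR' : R = 0 := by
    ext1 i
    rw [coeff_zero]
    by_cases hi : R.natDegree < i
    · exact coeff_eq_zero_of_natDegree_lt hi
    · refine hinj ?_
      rw [map_zero]
      have e0 : Φ (R.coeff 0) = 0 := Polynomial.ext fun e => (hcoef e).1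
      have e1 : X * Φ (R.coeff 1) = 0 := Polynomial.ext fun e => (hcoef e).2.1
      have e2 : X ^ 2 * Φ (R.coeff 2) = 0 := Polynomial.ext fun e => (hcoef e).2.2
      obtain rfl | rfl | rfl : i = 0 ∨ i = 1 ∨ i = 2 := by omega
      · exact e0
      · exact (mul_eq_zero.mp e1).resolve_left X_ne_zero
      · exact (mul_eq_zero.mp e2).resolve_left (pow_ne_zero _ X_ne_zero)
  rw [← map_dvd_iff (MvPolynomial.finSuccEquiv k 2), hWM]
  exact ((modByMonic_eq_zero_iff_dvd hM).mp hR').neg_left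

end Groth.CurveBridge.CubicAlgebra
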