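import Groth.Agent.Funfld2.Residue.Canonical
import Groth.Agent.Funfld2.Hasse.Expansion
import Groth.Agent.Funfld2.Hasse.DegreeW
import Groth.Agent.FunFld1.Rational

/-!
A normalised derivation of an algebraically closed function field and its canonical divisor.
-/

set_option linter.style.haveILetI false

universe u

open FunFld Groth.FunFld1
open scoped LaurentSeries WithZero

namespace Groth.CurveBridge

variable {k : Type u} [Field k] [IsAlgClosed k] {K : Type*} [Field K] [Algebra k K]

/-- A derivation `δ` spanning all differentials, bounded by a canonical divisor and attaining the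
bound at uniformisers. -/
theorem exists_derivation_canonical (hK : IsFunctionField k K) :
    ∃ (δ : Derivation k K K) (C : Divisor k K), IsCanonical k K C ∧
      (∃ v : K, ∀ a : K, KaehlerDifferential.D k K a = δ a • KaehlerDifferential.D k K v) ∧
      (∀ (P : Place k K) (a : K), P.1 a ≤ 1 → P.1 (δ a) ≤ WithZero.exp (C P)) ∧
      (∀ (P : Place k K) (t : K), P.1 t = WithZero.exp (-1) → P.1 (δ t) = WithZero.exp (C P)) := by
  classical
  have hF : IsFF k K := IsFF.of_isFunctionField hK
  have hg : FunFld.IsGeometric k K := Groth.Funfld2.Hasse.isGeometric_of_isAlgClosed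
  have hdeg : ∀ P : Place k K, P.deg = 1 := fun P => deg_eq_one_of_isAlgClosed hF P
  choose t ht using fun P : Place k K => exists_val_eq_exp P (-1)
  let Φ : ∀ P : Place k K, K →ₐ[k] k⸨X⸩ := fun P => Groth.Funfld2.Hasse.expansion (hdeg P) (ht P)
  have hΦ : ∀ P, LocRes.IsExpansionAt P.1 (Φ P) := fun P =>
    Groth.Funfld2.Hasse.isExpansionAt_expansion (hdeg P) (ht P)
  have hD0 : ∀ (P : Place k K) (s : K), P.1 s = WithZero.exp (-1) →
      (LocRes.D k (Φ P s)).coeff 0 ≠ 0 := fun P s hs => by
    rw [Groth.Funfld2.Residue.D_coeff_zero]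
    exact Groth.Funfld2.Residue.coeff_one_ne_zero (hΦ P) hs
  have hlift : ∀ (P : Place k K) (a b c : K),
      KaehlerDifferential.D k K a = c • KaehlerDifferential.D k K b →
      LocRes.D k (Φ P a) = Φ P c * LocRes.D k (Φ P b) := fun P a b c h => by
    let _i := (Φ P).toRingHom.toAlgebra
    have _t : IsScalarTower k K k⸨X⸩ := LocRes.isScalarTower_exp (Φ P)
    have h1 : LocRes.dExp (Φ P) a = c • LocRes.dExp (Φ P) b := by
      rw [← Derivation.liftKaehlerDifferential_comp_D (LocRes.dExp (Φ P)) a, h, map_smul,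
        Derivation.liftKaehlerDifferential_comp_D]
    exact h1
  obtain ⟨v, hv⟩ := Groth.Funfld2.Residue.exists_smul_D_eq hF hg
  have hv0 : KaehlerDifferential.D k K v ≠ 0 := fun h0 => by
    obtain ⟨P⟩ := hF.nonempty_place
    obtain ⟨c, hc⟩ := hv (KaehlerDifferential.D k K (t P))
    refine hD0 P _ (ht P) ?_
    rw [hlift P (t P) v c hc.symm, hlift P v v 0 (by rw [zero_smul, h0])]
    simp
  choose c hc using hv
  have hinj : ∀ x y : K, x • KaehlerDifferential.D k K v = y • KaehlerDifferential.D k K v → x = y :=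
    fun x y h => by
      rw [← sub_eq_zero, ← sub_smul, smul_eq_zero, or_iff_left hv0, sub_eq_zero] at h
      exact h
  let δ : Derivation k K K := Derivation.mk'
    { toFun := fun a => c (KaehlerDifferential.D k K a)
      map_add' := fun a b => hinj _ _ (by rw [hc, add_smul, hc, hc, map_add])
      map_smul' := fun r a => hinj _ _ (by
        rw [RingHom.id_apply, hc, Algebra.smul_def r (c _), mul_smul, hc, Derivation.map_smul,
          algebraMap_smul]) }
    fun a b => hinj _ _ (by
      change c (KaehlerDifferential.D k K (a * b)) • _ =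
        (a * c (KaehlerDifferential.D k K b) + b * c (KaehlerDifferential.D k K a)) • _
      rw [hc, add_smul, mul_smul, mul_smul, hc, hc, Derivation.leibniz])
  have hδ : ∀ a : K, KaehlerDifferential.D k K a = δ a • KaehlerDifferential.D k K v := fun a =>
    (hc _).symm
  obtain ⟨-, C, hC, hCeq⟩ :=
    Groth.Funfld2.Residue.exists_canonical hK Φ hΦ hg one_ne_zero hv0
  have hcan : IsCanonical k K C :=
    ⟨_, Groth.Funfld2.Residue.resForm_ne_zero hK Φ hΦ hg one_ne_zero hv0, hC⟩
  have hval : ∀ (P : Place k K) (a : K),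
      Valued.v (LocRes.D k (Φ P a)) = P.1 (δ a) * WithZero.exp (-(C P)) := fun P a => by
    rw [hlift P a v (δ a) (hδ a), map_mul, (hΦ P).1, hCeq P,
      ← Groth.Funfld2.Residue.vDiff_eq_exp hK Φ hΦ hg one_ne_zero hv0 P, LocRes.vDiff, map_one,
      one_mul]
  have hle : ∀ (P : Place k K) (a : K), P.1 a ≤ 1 → Valued.v (LocRes.D k (Φ P a)) ≤ (1 : ℤᵐ⁰) :=
    fun P a ha => by
      refine Groth.Funfld2.Residue.val_le_one_of_coeff fun i hi => ?_
      rw [LocRes.D_coeff]
      rcases (Int.add_one_le_iff.2 hi).lt_or_eq with h | h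
      · rw [Groth.Funfld2.Residue.coeff_eq_zero_of_val (N := 0)
          (by rw [(hΦ P).1, WithZero.exp_zero]; exact ha) (by omega), smul_zero]
      · rw [h, zero_smul]
  have hmul : ∀ (P : Place k K) (a : K),
      P.1 (δ a) = Valued.v (LocRes.D k (Φ P a)) * WithZero.exp (C P) := fun P a => by
    rw [hval, mul_assoc, ← WithZero.exp_add, neg_add_cancel, WithZero.exp_zero, mul_one]
  refine ⟨δ, C, hcan, ⟨v, hδ⟩, fun P a ha => ?_, fun P s hs => ?_⟩
  · rw [hmul]
    exact (mul_le_mul' (hle P a ha) le_rfl).trans_eq (one_mul _)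
  · rw [hmul]
    have h1 : Valued.v (LocRes.D k (Φ P s)) = (1 : ℤᵐ⁰) := by
      refine le_antisymm (hle P s ?_) (not_lt.1 fun hlt => hD0 P s hs ?_)
      · rw [hs, ← WithZero.exp_zero, WithZero.exp_le_exp]; norm_num
      · refine Groth.Funfld2.Residue.coeff_eq_zero_of_val (N := -1) ?_ (by norm_num)
        by_cases h0 : Valued.v (LocRes.D k (Φ P s)) = (0 : ℤᵐ⁰)
        · rw [h0]; exact zero_le
        · rw [← WithZero.exp_log h0, ← WithZero.exp_zero, WithZero.exp_lt_exp] at hlt
          rw [← WithZero.exp_log h0, WithZero.exp_le_exp]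
          omega
    rw [h1, one_mul]

end Groth.CurveBridge
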