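import Groth.Agent.CurveBridge.Meromorphic

/-!
The divisor of an embedded invertible module on a regular curve.
-/

set_option linter.style.haveILetI false
set_option linter.unusedSectionVars false

universe u

open CategoryTheory AlgebraicGeometry Opposite TopologicalSpace WithZero
open Groth.PicAux

namespace Groth.CurveBridge

variable {k : Type u} [Field k] {X : Scheme.{u}} [X.Over (Spec (CommRingCat.of k))] [IsIntegral X]
  {L : X.Modules}

/-- `z` is the value of a local section of `L` near `x`. -/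
def InStalk (φ : L ⟶ constK X) (x : X) (z : X.functionField) : Prop :=
  ∃ (W : X.Opens) (hx : x ∈ W) (m : Γ(L, W)), kv (generic_mem W hx) (φ.app W m) = z

theorem inStalk_iff_of_gen (φ : L ⟶ constK X) {x : X} {U : X.Opens} (hx : x ∈ U) {e : Γ(L, U)}
    (he : Gen L U e) (z : X.functionField) :
    InStalk φ x z ↔ ∃ a : X.presheaf.stalk x,
      algebraMap (X.presheaf.stalk x) X.functionField a * kv (generic_mem U hx) (φ.app U e) = z := by
  constructor
  · rintro ⟨W, hxW, m, rfl⟩
    obtain ⟨c, hc⟩ := he.exists_coeff (inf_le_right : W ⊓ U ≤ U) (res L (inf_le_left : W ⊓ U ≤ W) m)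
    refine ⟨X.presheaf.germ (W ⊓ U) x ⟨hxW, hx⟩ c, ?_⟩
    have h1 := congrArg (φ.app (W ⊓ U)) hc
    rw [app_res, Scheme.Modules.Hom.app_smul, app_res] at h1
    have h2 := congrArg (kv (generic_mem (W ⊓ U) (⟨hxW, hx⟩ : x ∈ W ⊓ U))) h1
    rw [kv_res, kv_smul, kv_res] at h2
    rw [germ_generic]
    exact h2.symm
  · rintro ⟨a, rfl⟩
    obtain ⟨W, hxW, c, rfl⟩ := TopCat.Presheaf.exists_germ_eq X.presheaf a
    refine ⟨W ⊓ U, ⟨hxW, hx⟩, resX X (inf_le_left : W ⊓ U ≤ W) c • res L (inf_le_right : W ⊓ U ≤ U) e, ?_⟩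
    rw [Scheme.Modules.Hom.app_smul, app_res, kv_smul, kv_res, germ_generic, germ_resX']

variable (φ : L ⟶ constK X) [Mono φ]

theorem app_injective (U : X.Opens) : Function.Injective (φ.app U) := by
  have h := (Groth.QCohMod.mono_iff_stalk φ).mp inferInstance
  exact (TopCat.Presheaf.app_injective_iff_stalkFunctor_map_injective
      (F := (⟨L.presheaf, L.isSheaf⟩ : TopCat.Sheaf Ab.{u} X)) (G := (constK X).presheaf)
      ((Scheme.Modules.toPresheaf X).map φ)).mp h U

theorem kv_gen_ne_zero {U : X.Opens} {x : X} (hx : x ∈ U) {e : Γ(L, U)} (he : Gen L U e) :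
    kv (generic_mem U hx) (φ.app U e) ≠ 0 := by
  intro h0
  have h1 : φ.app U e = φ.app U 0 := by
    rw [map_zero]
    exact kv_injective (generic_mem U hx) (by rw [h0, map_zero])
  have h2 : e = 0 := app_injective φ U h1
  have h3 : (1 : Γ(X, U)) = 0 := he.smul_inj le_rfl (by rw [one_smul, zero_smul, res_self, h2])
  have := congrArg (X.presheaf.germ U x hx) h3
  rw [map_one, map_zero] at this
  exact one_ne_zero this

variable [IsProper (X ↘ Spec (CommRingCat.of k))] (h : IsRegCurve X)
include h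

theorem exists_exp (hL : PicF.IsInvertible L) (x : Pt X) :
    ∃ n : ℤ, ∀ z, InStalk φ x.1 z ↔ (placeAt (k := k) h x).1 z ≤ exp n := by
  obtain ⟨U, e, hxU, he⟩ := (isInvertible_iff_exists_gen L).1 hL x.1
  set P := placeAt (k := k) h x
  set w := kv (generic_mem U hxU) (φ.app U e) with hw
  have hw0 : w ≠ 0 := kv_gen_ne_zero φ hxU he
  refine ⟨-P.ord w, fun z => ?_⟩
  rw [inStalk_iff_of_gen φ hxU he, ← Groth.FunFld1.val_eq_exp_neg_ord P hw0,
    ← div_le_one₀ (zero_lt_iff.mpr ((Valuation.ne_zero_iff _).mpr hw0)), ← map_div₀,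
    placeAt_le_one_iff]
  exact exists_congr fun a => (eq_div_iff hw0).symm

/-- The divisor of an embedded invertible module. -/
theorem exists_divisor (hL : PicF.IsInvertible L) {U₀ : X.Opens} (hU₀ : genericPoint X ∈ U₀)
    {e₀ : Γ(L, U₀)} (he₀ : Gen L U₀ e₀) (hφ : φ.app U₀ e₀ = ksec U₀ 1) :
    ∃ D : FunFld.Divisor k X.functionField,
      ∀ (x : Pt X) z, InStalk φ x.1 z ↔ (placeAt (k := k) h x).1 z ≤ exp (D (placeAt (k := k) h x)) := by
  classical
  choose n hn using fun x => exists_exp (k := k) φ h hL x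
  haveI : CompactSpace X := QuasiCompact.compactSpace_of_compactSpace (X ↘ Spec (CommRingCat.of k))
  haveI : IsLocallyNoetherian X := LocallyOfFiniteType.isLocallyNoetherian (X ↘ Spec (CommRingCat.of k))
  haveI : IsNoetherian X := ⟨⟩
  have hzero : ∀ x : Pt X, x.1 ∈ U₀ → n x = 0 := by
    intro x hx
    have h1 : ∀ z, (placeAt (k := k) h x).1 z ≤ exp (n x) ↔ (placeAt (k := k) h x).1 z ≤ 1 := fun z => by
      rw [← hn, inStalk_iff_of_gen φ hx he₀, hφ, kv_ksec, placeAt_le_one_iff]
      simp only [mul_one]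
    obtain ⟨a, ha⟩ := Groth.FunFld1.exists_val_eq_exp (placeAt (k := k) h x) (n x)
    obtain ⟨b, hb⟩ := Groth.FunFld1.exists_val_eq_exp (placeAt (k := k) h x) 0
    have h2 := (h1 a).mp ha.le
    have h3 := (h1 b).mpr (by rw [hb, exp_zero])
    rw [ha, ← exp_zero, exp_le_exp] at h2
    rw [hb, exp_le_exp] at h3
    omega
  have hfin : (Function.support fun P => n ((placeEquiv (k := k) h).symm P)).Finite := by
    haveI : NoetherianSpace X.toTopCat := (inferInstance : NoetherianSpace X)
    haveI : QuasiSober X.toTopCat := (inferInstance : QuasiSober X)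
    have hcl : closure ((U₀ : Set X)ᶜ) = ((U₀ : Set X)ᶜ) := U₀.isOpen.isClosed_compl.closure_eq
    have hZ : ((U₀ : Set X)ᶜ).Finite :=
      (Groth.EulerDeg.finite_and_isClosed_of_closed_points (X := X.toTopCat) (Z := (U₀ : Set X)ᶜ)
        isOpen_univ (Set.subset_univ _) (fun z hz => hcl.le hz.1)
        (fun z hz => (isClosed_singleton_iff X h.dim z).mpr fun he => hz (he ▸ hU₀))).1
    refine ((hZ.preimage Subtype.val_injective.injOn).image (placeEquiv (k := k) h)).subset ?_
    intro P hP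
    refine ⟨(placeEquiv (k := k) h).symm P, ?_, Equiv.apply_symm_apply _ _⟩
    exact fun hmem => hP (hzero _ hmem)
  refine ⟨Finsupp.ofSupportFinite _ hfin, fun x z => ?_⟩
  rw [hn x z, Finsupp.ofSupportFinite_coe]
  show _ ↔ _ ≤ exp (n ((placeEquiv (k := k) h).symm (placeEquiv (k := k) h x)))
  rw [Equiv.symm_apply_apply]

end Groth.CurveBridge
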