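import Groth.Agent.CurveBridge.PencilMap

/-!
The affine coordinate ring of a double cover over a chart.
-/

set_option linter.style.haveILetI false
set_option linter.unusedSectionVars false

universe u

open Polynomial WithZero FunFld Groth.FunFld1

namespace Groth.CurveBridge.DoubleAffine

variable {k K : Type u} [Field k] [Field K] [Algebra k K] (hK : IsFunctionField k K)
  {t y : K} (ht : Transcendental k t)
  (h2 : Module.finrank (IntermediateField.adjoin k ({t} : Set K)) K = 2)
  (hy : y ∉ IntermediateField.adjoin k ({t} : Set K)) {P Q : k[X]}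
  (he : y ^ 2 + aeval t Q * y = aeval t P) (hQ : Q.natDegree ≤ genus k K + 1)
  (hP : P.natDegree ≤ 2 * genus k K + 2)
include hK ht h2 hy he hQ hP

theorem mem_L_pole : y ∈ L ((genus k K + 1) • zeroDiv k t⁻¹ : Divisor k K) := by
  have hF : IsFF k K := IsFF.of_isFunctionField hK
  intro R
  by_contra hbig
  rw [not_le] at hbig
  have h1 := (mem_L_adjoin_iff hF ht (DoubleModel.aeval_mem Q) (genus k K + 1)).mpr ⟨Q, hQ, rfl⟩ R
  have h3 := (mem_L_adjoin_iff hF ht (DoubleModel.aeval_mem P) (2 * genus k K + 2)).mpr ⟨P, hP, rfl⟩ R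
  set e := ((genus k K + 1) • zeroDiv k t⁻¹ : Divisor k K) R with he'
  have h2e : ((2 * genus k K + 2) • zeroDiv k t⁻¹ : Divisor k K) R = e + e := by
    rw [he', show 2 * genus k K + 2 = 2 * (genus k K + 1) by ring, mul_nsmul', two_nsmul, Finsupp.add_apply]
  have hy0 : 0 < R.1 y := lt_of_le_of_lt zero_le hbig
  have hPy : R.1 (aeval t P) < R.1 (y ^ 2) := by
    rw [map_pow, pow_two]
    refine (h3.trans (by rw [h2e, exp_add])).trans_lt ?_
    exact (mul_lt_mul_of_pos_right hbig exp_pos).trans_le (mul_le_mul_right hbig.le _)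
  have hQy : R.1 (aeval t Q * y) < R.1 (y ^ 2) := by
    rw [map_mul, map_pow, pow_two]
    exact mul_lt_mul_of_pos_right (h1.trans_lt hbig) hy0
  have hlt' := R.1.map_sub_lt hPy hQy
  rw [show aeval t P - aeval t Q * y = y ^ 2 by linear_combination -he] at hlt'
  exact lt_irrefl _ hlt'

omit h2 hy he hQ hP in
theorem aeval_le_one (q : k[X]) {R : Place k K} (hR : R.1 t ≤ 1) : R.1 (aeval t q) ≤ 1 := by
  have hF : IsFF k K := IsFF.of_isFunctionField hK
  have h1 := (mem_L_adjoin_iff hF ht (DoubleModel.aeval_mem q) q.natDegree).mpr ⟨q, le_rfl, rfl⟩ R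
  refine h1.trans ?_
  rw [Finsupp.smul_apply, hF.zeroDiv_apply, ord_inv, nsmul_eq_mul]
  have : 0 ≤ R.ord t := by
    rw [val_eq_exp_neg_ord R (fun h0 : t = 0 => ht (h0 ▸ isAlgebraic_zero)), ← exp_zero, exp_le_exp] at hR
    omega
  rw [max_eq_right (by omega), mul_zero, exp_zero]

theorem y_le_one {R : Place k K} (hR : R.1 t ≤ 1) : R.1 y ≤ 1 := by
  have hF : IsFF k K := IsFF.of_isFunctionField hK
  refine (mem_L_pole hK ht h2 hy he hQ hP R).trans ?_
  rw [Finsupp.smul_apply, hF.zeroDiv_apply, ord_inv, nsmul_eq_mul]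
  have : 0 ≤ R.ord t := by
    rw [val_eq_exp_neg_ord R (fun h0 : t = 0 => ht (h0 ▸ isAlgebraic_zero)), ← exp_zero, exp_le_exp] at hR
    omega
  rw [max_eq_right (by omega), mul_zero, exp_zero]

omit hK h2 he hQ hP in
theorem eq_zero_of_add_mul {a b : k[X]} (hab : aeval t a + aeval t b * y = 0) : a = 0 ∧ b = 0 := by
  have hinj := transcendental_iff_injective.mp ht
  have hb : b = 0 := by
    by_contra hb
    refine hy ?_
    have hb' : aeval t b ≠ 0 := fun h0 => hb (hinj (h0.trans (map_zero _).symm))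
    rw [show y = -aeval t a / aeval t b by rw [eq_div_iff hb']; linear_combination hab]
    exact div_mem (neg_mem (DoubleModel.aeval_mem a)) (DoubleModel.aeval_mem b)
  subst hb
  rw [map_zero, zero_mul, add_zero] at hab
  exact ⟨hinj (hab.trans (map_zero _).symm), rfl⟩

/-- The functions regular where `t` is: `k[t] + k[t] y`. -/
theorem exists_repr {z : K} (hz : ∀ R : Place k K, R.1 t ≤ 1 → R.1 z ≤ 1) :
    ∃ a b : k[X], aeval t a + aeval t b * y = z := by
  classical
  have hF : IsFF k K := IsFF.of_isFunctionField hK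
  set g := genus k K with hg
  let n := g + 1 + (zeroDiv k z⁻¹).support.sup fun R => (-R.ord z).toNat
  have hzn : z ∈ L (n • zeroDiv k t⁻¹ : Divisor k K) := by
    intro R
    rcases eq_or_ne z 0 with rfl | hz0
    · simp
    have ht0 : t ≠ 0 := fun h0 => ht (h0 ▸ isAlgebraic_zero)
    rw [val_eq_exp_neg_ord R hz0, exp_le_exp, Finsupp.smul_apply, hF.zeroDiv_apply, ord_inv, nsmul_eq_mul]
    by_cases hR : R.1 t ≤ 1
    · have h1 := hz R hR
      rw [val_eq_exp_neg_ord R hz0, ← exp_zero, exp_le_exp] at h1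
      have : 0 ≤ (n : ℤ) * max (-R.ord t) 0 := by positivity
      omega
    · rw [not_le, val_eq_exp_neg_ord R ht0, ← exp_zero, exp_lt_exp] at hR
      have h1 : (n : ℤ) * 1 ≤ (n : ℤ) * max (-R.ord t) 0 :=
        mul_le_mul_of_nonneg_left (by omega) (by positivity)
      by_cases hs : R ∈ (zeroDiv k z⁻¹).support
      · have h3 : (-R.ord z).toNat ≤ (zeroDiv k z⁻¹).support.sup fun R => (-R.ord z).toNat :=
          Finset.le_sup (f := fun R : Place k K => (-R.ord z).toNat) hs
        omega
      · rw [Finsupp.notMem_support_iff, hF.zeroDiv_apply, ord_inv] at hs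
        omega
  have hgn : g + 1 ≤ n := Nat.le_add_right _ _
  let Φ : (degreeLT k (n + 1) × degreeLT k (n - g)) →ₗ[k] K :=
    ((aeval t).toLinearMap.comp (degreeLT k (n + 1)).subtype).coprod
      ((LinearMap.mulRight k y).comp ((aeval t).toLinearMap.comp (degreeLT k (n - g)).subtype))
  have hΦ : ∀ x : degreeLT k (n + 1) × degreeLT k (n - g),
      Φ x = aeval t (x.1 : k[X]) + aeval t (x.2 : k[X]) * y := fun x => rfl
  have hinj : Function.Injective Φ := by
    rw [← LinearMap.ker_eq_bot, LinearMap.ker_eq_bot']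
    intro x hx
    obtain ⟨ha, hb⟩ := eq_zero_of_add_mul ht hy ((hΦ x).symm.trans hx)
    exact Prod.ext (Subtype.ext ha) (Subtype.ext hb)
  haveI := hF.finiteDimensional_L (n • zeroDiv k t⁻¹ : Divisor k K)
  have hdeg : ∀ {m : ℕ} {q : k[X]}, q ∈ degreeLT k (m + 1) → q.natDegree ≤ m := fun {m q} hq => by
    rw [mem_degreeLT] at hq
    rcases eq_or_ne q 0 with rfl | hq0
    · simp
    · rw [degree_eq_natDegree hq0, Nat.cast_lt] at hq; omega
  have hle : LinearMap.range Φ ≤ L (n • zeroDiv k t⁻¹ : Divisor k K) := by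
    rintro _ ⟨⟨⟨a, ha⟩, ⟨b, hb⟩⟩, rfl⟩
    rw [hΦ]
    refine add_mem ((mem_L_adjoin_iff hF ht (DoubleModel.aeval_mem a) n).mpr ⟨a, hdeg ha, rfl⟩) fun R => ?_
    have hb' : b.natDegree ≤ n - g - 1 := hdeg (m := n - g - 1)
      (by rwa [show n - g - 1 + 1 = n - g by omega])
    have h1 := (mem_L_adjoin_iff hF ht (DoubleModel.aeval_mem b) (n - g - 1)).mpr ⟨b, hb', rfl⟩ R
    rw [map_mul, show (n • zeroDiv k t⁻¹ : Divisor k K) R =
      ((n - g - 1) • zeroDiv k t⁻¹ : Divisor k K) R + ((g + 1) • zeroDiv k t⁻¹ : Divisor k K) R by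
        rw [← Finsupp.add_apply, ← add_nsmul, show n - g - 1 + (g + 1) = n by omega], exp_add]
    exact mul_le_mul' h1 (mem_L_pole hK ht h2 hy he hQ hP R)
  have heq := Submodule.eq_of_le_of_finrank_le hle (by
    have h3 := DoubleModel.ell_poleMul hK ht h2 (n := n) (by omega)
    haveI : Module.Finite k (degreeLT k (n + 1)) := Module.Finite.equiv (degreeLTEquiv k _).symm
    haveI : Module.Finite k (degreeLT k (n - g)) := Module.Finite.equiv (degreeLTEquiv k _).symm
    rw [LinearMap.finrank_range_of_inj hinj, Module.finrank_prod, (degreeLTEquiv k _).finrank_eq,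
      (degreeLTEquiv k _).finrank_eq, Module.finrank_fin_fun, Module.finrank_fin_fun]
    unfold ell at h3
    rw [← hg] at h3
    omega)
  obtain ⟨⟨a, b⟩, hab⟩ := heq.ge hzn
  exact ⟨a, b, (hΦ (a, b)).symm.trans hab⟩

/-- The ideal of the plane equation. -/
noncomputable abbrev curveIdeal (P Q : k[X]) : Ideal (MvPolynomial (Fin 2) k) :=
  Ideal.span {MvPolynomial.X 1 ^ 2 + aeval (MvPolynomial.X 0) Q * MvPolynomial.X 1 - aeval (MvPolynomial.X 0) P}

omit hK ht h2 hy hQ hP in
/-- The plane ring maps to the field. -/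
noncomputable def toField : MvPolynomial (Fin 2) k ⧸ curveIdeal P Q →ₐ[k] K :=
  Ideal.Quotient.liftₐ _ (MvPolynomial.aeval ![t, y]) fun a ha => by
    induction ha using Submodule.span_induction with
    | mem w hw =>
      rw [Set.mem_singleton_iff] at hw
      subst hw
      rw [map_sub, map_add, map_mul, map_pow, ← aeval_algHom_apply, ← aeval_algHom_apply]
      simp [he]
    | zero => exact map_zero _
    | add a b _ _ ha hb => rw [map_add, ha, hb, add_zero]
    | smul c a _ ha => rw [smul_eq_mul, map_mul, ha, mul_zero]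

omit hK ht h2 hy hQ hP in
theorem exists_normal_form (x : MvPolynomial (Fin 2) k ⧸ curveIdeal P Q) : ∃ a b : k[X],
    x = Ideal.Quotient.mk (curveIdeal P Q)
      (aeval (MvPolynomial.X 0) a + aeval (MvPolynomial.X 0) b * MvPolynomial.X 1) := by
  obtain ⟨p, rfl⟩ := Ideal.Quotient.mk_surjective x
  induction p using MvPolynomial.induction_on with
  | C c => exact ⟨Polynomial.C c, 0, by simp [MvPolynomial.algebraMap_eq]⟩
  | add p q hp hq =>
    obtain ⟨a, b, hp⟩ := hp
    obtain ⟨a', b', hq⟩ := hq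
    exact ⟨a + a', b + b', by rw [map_add, hp, hq, ← map_add]; congr 1; simp only [map_add]; ring⟩
  | mul_X p i hp =>
    obtain ⟨a, b, hp⟩ := hp
    fin_cases i
    · refine ⟨a * X, b * X, ?_⟩
      rw [map_mul, hp, ← map_mul]
      congr 1
      simp only [map_mul, aeval_X, Fin.zero_eta]
      ring
    · refine ⟨b * P, a - b * Q, ?_⟩
      rw [map_mul, hp, ← map_mul, Ideal.Quotient.eq, Ideal.mem_span_singleton]
      refine ⟨aeval (MvPolynomial.X 0) b, ?_⟩
      simp only [map_mul, map_sub, Fin.mk_one]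
      ring

omit hK h2 hQ hP in
theorem toField_injective : Function.Injective (toField (t := t) (y := y) (P := P) (Q := Q) he) := by
  rw [injective_iff_map_eq_zero]
  intro x hx
  obtain ⟨a, b, rfl⟩ := exists_normal_form (t := t) (y := y) he x
  rw [toField, Ideal.Quotient.liftₐ_apply, Ideal.Quotient.lift_mk] at hx
  simp only [AlgHom.coe_toRingHom, RingHom.coe_coe, map_add, map_mul, ← aeval_algHom_apply,
    MvPolynomial.aeval_X, Matrix.cons_val_zero, Matrix.cons_val_one] at hx
  obtain ⟨ha, hb⟩ := eq_zero_of_add_mul ht hy hx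
  subst ha hb
  simp

theorem mem_range_toField_iff (z : K) :
    z ∈ (toField (t := t) (y := y) (P := P) (Q := Q) he).toRingHom.range ↔
      ∀ R : Place k K, R.1 t ≤ 1 → R.1 z ≤ 1 := by
  have key : ∀ a b : k[X], toField (t := t) (y := y) (P := P) (Q := Q) he (Ideal.Quotient.mk (curveIdeal P Q)
      (aeval (MvPolynomial.X 0) a + aeval (MvPolynomial.X 0) b * MvPolynomial.X 1)) =
        aeval t a + aeval t b * y := fun a b => by
    rw [toField, Ideal.Quotient.liftₐ_apply, Ideal.Quotient.lift_mk]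
    simp [← aeval_algHom_apply]
  constructor
  · rintro ⟨x, rfl⟩ R hR
    obtain ⟨a, b, rfl⟩ := exists_normal_form (t := t) (y := y) he x
    show R.1 (toField _ _) ≤ 1
    rw [key]
    refine (R.1.map_add _ _).trans (max_le (aeval_le_one hK ht a hR) ?_)
    rw [map_mul]
    exact mul_le_one' (aeval_le_one hK ht b hR) (y_le_one hK ht h2 hy he hQ hP hR)
  · intro hz
    obtain ⟨a, b, rfl⟩ := exists_repr hK ht h2 hy he hQ hP hz
    exact ⟨_, key a b⟩

end Groth.CurveBridge.DoubleAffine
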