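import Groth.Agent.CurveBridge.SectionPoint
import Groth.Agent.ModelsGraphs.GlobalFunctions
import Groth.Agent.AlgGrp1.Geom

/-!
A connected smooth proper scheme with a rational point has only constant functions.
-/

set_option linter.style.haveILetI false
set_option linter.unusedSectionVars false
set_option backward.isDefEq.respectTransparency.types false

universe u

open CategoryTheory AlgebraicGeometry Coh TopologicalSpace Opposite Groth.PicAux Groth.EulerDeg

namespace Groth.CurveBridge

attribute [local instance] secModule Curv2.resAlgebra

variable (k : Type u) [Field k] {X : Scheme.{u}} [X.Over (Spec (CommRingCat.of k))]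
  [IsProper (X ↘ Spec (CommRingCat.of k))] [Smooth (X ↘ Spec (CommRingCat.of k))]

theorem finrank_h0_of_section [ConnectedSpace X] (s : Spec (CommRingCat.of k) ⟶ X)
    (hs : s ≫ (X ↘ Spec (CommRingCat.of k)) = 𝟙 _) :
    Module.finrank k (HH X (structureModule X) 0) = 1 := by
  haveI := Groth.AlgGrp1.geometricallyConnected_of_point (X ↘ Spec (CommRingCat.of k)) s hs
  have hb := Groth.ModelsGraphs.GlobalFun.appTop_bijective_of_geometricallyConnected (X ↘ Spec (CommRingCat.of k))
  have hb' : Function.Bijective (Coh.toGlobal (X ↘ Spec (CommRingCat.of k))) :=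
    hb.comp (ConcreteCategory.bijective_of_isIso (Scheme.ΓSpecIso (CommRingCat.of k)).inv)
  let e : k ≃ₗ[k] Γ(structureModule X, (⊤ : X.Opens)) :=
    LinearEquiv.ofBijective
      ({ toFun := fun a => (show Γ(structureModule X, (⊤ : X.Opens)) from
           Coh.toGlobal (X ↘ Spec (CommRingCat.of k)) a)
         map_add' := fun a b => map_add _ a b
         map_smul' := fun a b => by
           rw [RingHom.id_apply, smul_sec, toSec]
           show Coh.toGlobal (X ↘ Spec (CommRingCat.of k)) (a * b) = _
           rw [map_mul]
           exact congrArg (· * _) (resX_self _ _).symm } : k →ₗ[k] Γ(structureModule X, (⊤ : X.Opens))) hb'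
  rw [(h0Equiv k (structureModule X)).finrank_eq, ← e.finrank_eq, Module.finrank_self]

end Groth.CurveBridge
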