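import Groth.Agent.CurveBridge.SectionPoint
import Groth.Agent.CurveBridge.SectionH0
import Groth.Agent.CurveBridge.Canonical
import Groth.Agent.CurveBridge.Clifford
import Groth.Agent.AlgGrp1.Points
import Groth.Agent.AlgGrp1.SmoothReduced

/-!
Twisting on a curve after a field extension by divisors of rational points.
-/

set_option linter.style.haveILetI false

universe u

open CategoryTheory CategoryTheory.Limits AlgebraicGeometry TopologicalSpace
open Groth.FunFld1
open MonoidalCategory (tensorUnit)
open scoped MonoidalCategory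

namespace Groth.CurveBridge.RationalTwist

/-- The point of a section is closed and rational. -/
theorem exists_point (k : Type u) [Field k] (C : Scheme.{u}) [C.Over (Spec (CommRingCat.of k))]
    [IsIntegral C] [IsProper (C ↘ Spec (CommRingCat.of k))] (h : IsRegCurve C)
    (s : Spec (CommRingCat.of k) ⟶ C) (hs : s ≫ (C ↘ Spec (CommRingCat.of k)) = 𝟙 _) :
    ∃ x : Pt C, (∀ p, s.base p = x.1) ∧ (placeAt (k := k) h x).deg = 1 := by
  set x := (C.SpecToEquivOfField k s).1 with hxdef
  set φ := (C.SpecToEquivOfField k s).2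
  have hsx : Spec.map φ ≫ C.fromSpecResidueField x = s := (C.SpecToEquivOfField k).symm_apply_apply s
  have hx : ∀ p, s.base p = x := fun p => by
    rw [← hsx]
    exact C.fromSpecResidueField_apply x _
  have hc : IsClosed ({x} : Set C) := by
    have : IsClosedImmersion (s ≫ (C ↘ Spec (CommRingCat.of k))) := by rw [hs]; infer_instance
    have := IsClosedImmersion.of_comp s (C ↘ Spec (CommRingCat.of k))
    have hr : Set.range s.base = {x} := Set.eq_singleton_iff_unique_mem.2
      ⟨⟨Classical.arbitrary _, hx _⟩, by rintro _ ⟨p, rfl⟩; exact hx p⟩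
    rw [← hr]
    exact s.isClosedEmbedding.isClosed_range
  have hres : CommRingCat.ofHom (Curv2.resMap k C x) ≫ φ = 𝟙 _ := by
    refine Spec.map_injective ?_
    rw [Spec.map_comp, Spec.map_id, ← hs, ← hsx, Category.assoc]
    congr 1
    rw [Scheme.fromSpecResidueField, Category.assoc, fromSpecStalk_over, ← Spec.map_comp]
    rfl
  have hb : Function.Bijective (Curv2.resMap k C x) := by
    refine ⟨(Curv2.resMap k C x).injective, fun w => ⟨φ w, φ.hom.injective ?_⟩⟩
    exact ConcreteCategory.congr_hom hres (φ w)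
  exact ⟨⟨x, hc⟩, hx, (bijective_resMap_iff h ⟨x, hc⟩).mp hb⟩

/-- Rational points of a smooth curve over a separably closed field. -/
theorem infinite_rational (k : Type u) [Field k] [IsSepClosed k] (C : Scheme.{u})
    [C.Over (Spec (CommRingCat.of k))] [IsIntegral C] [IsProper (C ↘ Spec (CommRingCat.of k))]
    [Smooth (C ↘ Spec (CommRingCat.of k))] (h : IsRegCurve C) :
    {x : Pt C | (placeAt (k := k) h x).deg = 1}.Infinite ∧
      ∃ s : Spec (CommRingCat.of k) ⟶ C, s ≫ (C ↘ Spec (CommRingCat.of k)) = 𝟙 _ := by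
  let Y : Over (Spec (CommRingCat.of k)) := Over.mk (C ↘ Spec (CommRingCat.of k))
  haveI : Smooth Y.hom := inferInstanceAs (Smooth (C ↘ Spec (CommRingCat.of k)))
  haveI : GeometricallyReduced Y.hom := Groth.AlgGrp1.geometricallyReduced_of_smooth_hom Y
  have hd := Groth.AlgGrp1.dense_points Y
  have hsec : ∀ (s : 𝟙_ (Over (Spec (CommRingCat.of k))) ⟶ Y),
      s.left ≫ (C ↘ Spec (CommRingCat.of k)) = 𝟙 _ := fun s => Over.w s
  refine ⟨fun hfin => ?_, ?_⟩
  · have hsub : {p : ↥Y.left | ∃ (s : 𝟙_ (Over (Spec (CommRingCat.of k))) ⟶ Y)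
        (t : ↥(Spec (CommRingCat.of k))), s.left.base t = p} ⊆
        (Subtype.val : Pt C → C) '' {x : Pt C | (placeAt (k := k) h x).deg = 1} := by
      rintro p ⟨s, t, rfl⟩
      obtain ⟨x, hx, hdeg⟩ := exists_point k C h s.left (hsec s)
      exact ⟨x, hdeg, (hx t).symm⟩
    have hcl : IsClosed ((Subtype.val : Pt C → C) '' {x : Pt C | (placeAt (k := k) h x).deg = 1}) := by
      rw [← Set.biUnion_of_singleton (Subtype.val '' _)]
      exact (hfin.image _).isClosed_biUnion fun x hx => by obtain ⟨y, -, rfl⟩ := hx; exact y.2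
    have h1 : closure _ ⊆ _ := closure_minimal hsub hcl
    obtain ⟨y, -, hy⟩ := h1 (hd (genericPoint C))
    exact (isClosed_singleton_iff C h.dim _).mp (hy ▸ y.2) rfl
  · obtain ⟨p, s, t, -⟩ := hd.nonempty (X := ↥Y.left) (h := ⟨genericPoint C⟩)
    exact ⟨s.left, hsec s⟩

variable {k : Type u} [Field k] {X : Scheme.{u}} [X.Over (Spec (CommRingCat.of k))]
  [IsIntegral X] [IsProper (X ↘ Spec (CommRingCat.of k))] (h : IsRegCurve X)
  (hK : FunFld.IsFunctionField k X.functionField)
include h hK

/-- Every divisor is the divisor of an invertible module. -/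
theorem exists_line (D : FunFld.Divisor k X.functionField) :
    ∃ (L : X.Modules) (φ : L ⟶ constK X), PicF.IsInvertible L ∧ IsDivEmb h φ D := by
  obtain ⟨L, φ, U₀, hU₀, e₀, hL, -, hm, hD⟩ := exists_invertible_embedding (k := k) h D
  exact ⟨L, φ, hL, hm, hD⟩

variable {K : Type u} [Field K] [Algebra k K] {Y : Scheme.{u}} [Y.Over (Spec (CommRingCat.of K))]
  [IsIntegral Y] [IsProper (Y ↘ Spec (CommRingCat.of K))] (g : Y ⟶ X) (hY : IsRegCurve Y)
  (hKY : FunFld.IsFunctionField K Y.functionField)
  (hfr : ∀ (L : X.Modules), PicF.IsInvertible L → ∀ p : ℕ,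
    Module.finrank K (Coh.HH Y ((Scheme.Modules.pullback g).obj L) p) =
      Module.finrank k (Coh.HH X L p))
include g hY hKY hfr

/-- Pullback of divisor classes. -/
theorem exists_pull : ∃ A : FunFld.Divisor k X.functionField → FunFld.Divisor K Y.functionField,
    (∀ D, (A D).deg = D.deg ∧ FunFld.ell (A D) = FunFld.ell D ∧
      ∃ (L : X.Modules) (ψ : (Scheme.Modules.pullback g).obj L ⟶ constK Y),
        PicF.IsInvertible L ∧ IsDivEmb hY ψ (A D)) ∧
    ∀ D E, ∃ μ : Y.functionField, μ ≠ 0 ∧ A (D + E) = A D + A E + FunFld.div K μ := by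
  have hpick : ∀ D : FunFld.Divisor k X.functionField,
      ∃ (L : X.Modules) (φ : L ⟶ constK X) (B : FunFld.Divisor K Y.functionField)
        (ψ : (Scheme.Modules.pullback g).obj L ⟶ constK Y),
        PicF.IsInvertible L ∧ IsDivEmb h φ D ∧ IsDivEmb hY ψ B := fun D => by
    obtain ⟨L, φ, hL, hφ⟩ := exists_line h hK D
    obtain ⟨ψ, B, hψ, -, -, -⟩ := exists_divEmb hY hKY (Groth.PicAux.isInvertible_pullback g hL)
    exact ⟨L, φ, B, ψ, hL, hφ, hψ⟩
  choose L φ B ψ hL hφ hψ using hpick
  refine ⟨B, fun D => ?_, fun D E => ?_⟩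
  · obtain ⟨n0, nd, -⟩ := numerics_of_divEmb h hK (hL D) (hφ D)
    obtain ⟨m0, md, m1⟩ := numerics_of_divEmb hY hKY (Groth.PicAux.isInvertible_pullback g (hL D)) (hψ D)
    obtain ⟨-, -, n1⟩ := numerics_of_divEmb h hK (hL D) (hφ D)
    have hgen : Curv2.genus K Y = Curv2.genus k X := by
      obtain ⟨e⟩ := Groth.PicAux.pullback_structure_iso g
      unfold Curv2.genus
      rw [← hfr _ (Groth.EulerDeg.isInvertible_structureModule X) 1]
      exact (Groth.EulerDeg.finrank_congr e 1).symm
    rw [hfr _ (hL D) 0, n0] at m0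
    rw [hfr _ (hL D) 1, hgen, ← m0] at m1
    exact ⟨by omega, m0.symm, L D, ψ D, hL D, hψ D⟩
  · obtain ⟨χ, hχ⟩ := exists_divEmb_tensor h (hL D) (hL E) (hφ D) (hφ E)
    obtain ⟨e⟩ := nonempty_iso_of_divEmb h (Groth.PicAux.isInvertible_tensorMod (hL D) (hL E))
      (hL (D + E)) hχ (hφ (D + E))
    obtain ⟨χ', hχ'⟩ := exists_divEmb_tensor hY (Groth.PicAux.isInvertible_pullback g (hL D))
      (Groth.PicAux.isInvertible_pullback g (hL E)) (hψ D) (hψ E)
    exact linEquiv_of_iso hY hKY
      (Groth.PicAux.isInvertible_tensorMod (Groth.PicAux.isInvertible_pullback g (hL D))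
        (Groth.PicAux.isInvertible_pullback g (hL E)))
      (Groth.PicAux.isInvertible_pullback g (hL (D + E))) hχ' (hψ (D + E))
      ((Groth.PicAux.pullback_tensorMod g (hL D) (hL E)).some.symm ≪≫
        (Scheme.Modules.pullback g).mapIso e)

/-- Some divisor supported on rational points twists a class to a nonspecial one of degree `g`. -/
theorem exists_twist (A₀ : FunFld.Divisor K Y.functionField)
    (hinf : {x : Pt X | (placeAt (k := k) h x).deg = 1}.Infinite)
    (hell1 : 1 ≤ Curv2.genus k X → ∀ P : FunFld.Place k X.functionField, P.deg = 1 →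
      FunFld.ell (Finsupp.single P (1 : ℤ)) ≤ 1) :
    ∃ (L : X.Modules) (A : FunFld.Divisor K Y.functionField)
      (ψ : (Scheme.Modules.pullback g).obj L ⟶ constK Y), PicF.IsInvertible L ∧
      IsDivEmb hY ψ A ∧ (A₀ + A).deg = (FunFld.genus K Y.functionField : ℤ) ∧
      FunFld.ell (A₀ + A) = 1 := by
  classical
  obtain ⟨A, hA, hadd⟩ := exists_pull h hK g hY hKY hfr
  obtain ⟨C, hC⟩ := exists_isCanonical hKY
  have hF := isFF K Y hY.dim
  have hFX := isFF k X h.dim
  have hdC := ((isCanonical_iff hKY C).mp hC).2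
  set γ := FunFld.genus K Y.functionField with hγ
  have hγX : Curv2.genus k X = γ := by
    obtain ⟨e⟩ := Groth.PicAux.pullback_structure_iso g
    rw [hγ, ← genus_eq hY hKY]
    unfold Curv2.genus
    rw [← hfr _ (Groth.EulerDeg.isInvertible_structureModule X) 1]
    exact Groth.EulerDeg.finrank_congr e 1
  suffices key : ∀ n : ℕ, ∀ D : FunFld.Divisor k X.functionField,
      (A₀ + A D).deg = γ + n → FunFld.ell (C - (A₀ + A D)) = 0 →
      ∃ D' : FunFld.Divisor k X.functionField, (A₀ + A D').deg = γ ∧
        FunFld.ell (C - (A₀ + A D')) = 0 by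
    obtain ⟨x₀, hx₀⟩ := hinf.nonempty
    set P₀ := placeAt (k := k) h x₀
    set n : ℕ := γ with hn
    obtain ⟨D', hd', hl'⟩ := key n (Finsupp.single P₀ (2 * (γ : ℤ) - A₀.deg))
      (by rw [Groth.FunFld1.deg_add, (hA _).1, Groth.FunFld1.deg_single, hx₀]; push_cast; omega)
      (by
        by_contra hne
        have hL : FunFld.L (C - (A₀ + A (Finsupp.single P₀ (2 * (γ : ℤ) - A₀.deg)))) ≠ ⊥ := fun hb => by
          unfold FunFld.ell at hne
          rw [hb, finrank_bot] at hne
          exact hne rfl
        obtain ⟨z, hz, hz0⟩ := hF.exists_effective_of_ne_bot hL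
        have := Groth.FunFld1.deg_nonneg hz0
        rw [Groth.FunFld1.deg_add, hF.deg_div, Groth.FunFld1.deg_sub, Groth.FunFld1.deg_add, (hA _).1,
          Groth.FunFld1.deg_single, hx₀, hdC] at this
        push_cast at this
        omega)
    obtain ⟨-, -, L, ψ, hL, hψ⟩ := hA D'
    refine ⟨L, A D', ψ, hL, hψ, hd', ?_⟩
    have := Groth.FunFld1.riemann_roch hKY hC (A₀ + A D')
    omega
  intro n
  induction n with
  | zero => exact fun D hd hl => ⟨D, by simpa using hd, hl⟩
  | succ n ih =>
    intro D hd hl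
    set E := A₀ + A D with hE
    -- effective representatives of rational points
    have hR : ∀ x : {x : Pt X | (placeAt (k := k) h x).deg = 1}, ∃ R : FunFld.Place K Y.functionField,
        R.deg = 1 ∧ ∃ μ : Y.functionField, μ ≠ 0 ∧
          A (Finsupp.single (placeAt (k := k) h x.1) 1) = Finsupp.single R 1 + FunFld.div K μ := fun x => by
      obtain ⟨hd1, hl1, -⟩ := hA (Finsupp.single (placeAt (k := k) h x.1) 1)
      have hne : FunFld.L (A (Finsupp.single (placeAt (k := k) h x.1) 1)) ≠ ⊥ := fun hb => by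
        have h1 : 1 ≤ FunFld.ell (Finsupp.single (placeAt (k := k) h x.1) (1 : ℤ)) := by
          exact (Groth.FunFld1.ell_zero_eq hK).ge.trans
            (ell_mono hFX (Finsupp.single_nonneg.mpr zero_le_one))
        rw [← hl1] at h1
        unfold FunFld.ell at h1
        rw [hb, finrank_bot] at h1
        omega
      obtain ⟨z, hz, hz0⟩ := hF.exists_effective_of_ne_bot hne
      obtain ⟨R, hR1, hR⟩ := effective_deg_one hF hz0 (by
        rw [Groth.FunFld1.deg_add, hF.deg_div, add_zero, hd1, Groth.FunFld1.deg_single, x.2]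
        simp)
      refine ⟨R, hR1, z⁻¹, inv_ne_zero hz, ?_⟩
      rw [← hR, hF.div_inv]
      abel
    choose R hR1 μ hμ hRμ using hR
    have hmid : ∃ x : {x : Pt X | (placeAt (k := k) h x).deg = 1},
        FunFld.ell (E - Finsupp.single (R x) 1) ≠ FunFld.ell E := by
      have hrr := Groth.FunFld1.riemann_roch hKY hC E
      rcases Nat.eq_zero_or_pos γ with hg0 | hg0
      · obtain ⟨x₀, hx₀⟩ := hinf.nonempty
        refine ⟨⟨x₀, hx₀⟩, fun he => ?_⟩
        have hrr' := Groth.FunFld1.riemann_roch hKY hC (E - Finsupp.single (R ⟨x₀, hx₀⟩) 1)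
        rw [Groth.FunFld1.deg_sub, Groth.FunFld1.deg_single, hR1, he] at hrr'
        by_cases hbot : FunFld.L (C - (E - Finsupp.single (R ⟨x₀, hx₀⟩) 1)) = ⊥
        · unfold FunFld.ell at hrr' hrr hl
          rw [hbot, finrank_bot] at hrr'
          omega
        · obtain ⟨z, hz, hz0⟩ := hF.exists_effective_of_ne_bot hbot
          have := Groth.FunFld1.deg_nonneg hz0
          rw [Groth.FunFld1.deg_add, hF.deg_div, Groth.FunFld1.deg_sub, Groth.FunFld1.deg_sub,
            Groth.FunFld1.deg_single, hR1, hdC] at this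
          omega
      have hinj : Function.Injective R := fun x y hxy => by
        by_contra hne
        have hP : placeAt (k := k) h x.1 ≠ placeAt (k := k) h y.1 := fun he =>
          hne (Subtype.ext (placeAt_injective (k := k) h he))
        set P := placeAt (k := k) h x.1 with hPdef
        set Q := placeAt (k := k) h y.1 with hQdef
        obtain ⟨ν, hν, hν'⟩ := hadd (Finsupp.single P 1 - Finsupp.single Q 1) (Finsupp.single Q 1)
        rw [sub_add_cancel, hRμ x, hRμ y, ← hxy] at hν'
        obtain ⟨hd1, hl1, -⟩ := hA (Finsupp.single P 1 - Finsupp.single Q 1)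
        have hAz : A (Finsupp.single P 1 - Finsupp.single Q 1) =
            0 + FunFld.div K (μ x * (μ y * ν)⁻¹) := by
          rw [hF.div_mul (hμ x) (inv_ne_zero (mul_ne_zero (hμ y) hν)), hF.div_inv,
            hF.div_mul (hμ y) hν]
          rw [← sub_eq_zero] at hν' ⊢
          refine Eq.trans ?_ ((congrArg Neg.neg hν').trans neg_zero)
          abel
        rw [hAz, hF.ell_add_div 0 (mul_ne_zero (hμ x) (inv_ne_zero (mul_ne_zero (hμ y) hν))),
          Groth.FunFld1.ell_zero_eq hKY] at hl1
        have hne0 : FunFld.L (Finsupp.single P (1 : ℤ) - Finsupp.single Q 1) ≠ ⊥ := fun hb => by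
          unfold FunFld.ell at hl1
          rw [hb, finrank_bot] at hl1
          omega
        obtain ⟨z, hz, hz0⟩ := Groth.FunFld1.exists_eq_neg_div hK hne0 (by
          rw [Groth.FunFld1.deg_sub, Groth.FunFld1.deg_single, Groth.FunFld1.deg_single, x.2, y.2, sub_self])
        have hle := hell1 (by omega) P x.2
        haveI := hFX.finiteDimensional_L (Finsupp.single P (1 : ℤ))
        have hzmem : z ∈ FunFld.L (Finsupp.single P (1 : ℤ)) := by
          refine (hFX.mem_L_iff hz).mpr ?_
          rw [show Finsupp.single P (1 : ℤ) + FunFld.div k z = Finsupp.single Q 1 by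
            rw [← sub_eq_zero, ← hz0]; abel]
          exact Finsupp.single_nonneg.mpr zero_le_one
        have heq := Submodule.eq_of_le_of_finrank_le
          (Groth.FunFld1.L_mono (Finsupp.single_nonneg.mpr zero_le_one) :
            FunFld.L (0 : FunFld.Divisor k X.functionField) ≤ FunFld.L (Finsupp.single P (1 : ℤ)))
          (hle.trans (Groth.FunFld1.ell_zero_eq hK).ge)
        rw [← heq] at hzmem
        have h0z := (hFX.mem_L_iff hz).mp hzmem Q
        have hQz := DFunLike.congr_fun hz0 Q
        simp only [Finsupp.coe_zero, Pi.zero_apply, Finsupp.add_apply, Finsupp.sub_apply,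
          Finsupp.single_eq_same, Finsupp.single_eq_of_ne hP, zero_add] at h0z hQz
        rw [Finsupp.single_eq_of_ne hP.symm] at hQz
        have hz' := Groth.FunFld1.eq_of_le_of_deg_eq hFX
          (show (0 : FunFld.Divisor k X.functionField) ≤ 0 + FunFld.div k z from
            (hFX.mem_L_iff hz).mp hzmem)
          (by rw [zero_add, hFX.deg_div, Groth.FunFld1.deg_zero])
        have := DFunLike.congr_fun hz' Q
        simp only [Finsupp.coe_zero, Pi.zero_apply, Finsupp.add_apply, zero_add] at this
        omega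
      have hne : FunFld.L E ≠ ⊥ := fun hb => by
        unfold FunFld.ell at hrr
        rw [hb, finrank_bot] at hrr
        omega
      obtain ⟨z, hz, hz0⟩ := hF.exists_effective_of_ne_bot hne
      haveI : Infinite {x : Pt X | (placeAt (k := k) h x).deg = 1} := hinf.to_subtype
      obtain ⟨x, hx⟩ : ∃ x, R x ∉ (E + FunFld.div K z).support := by
        by_contra hall
        push Not at hall
        exact Set.infinite_range_of_injective hinj
          ((E + FunFld.div K z).support.finite_toSet.subset (by rintro _ ⟨x, rfl⟩; exact hall x))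
      refine ⟨x, fun he => ?_⟩
      haveI := hF.finiteDimensional_L E
      have heq := Submodule.eq_of_le_of_finrank_eq
        (Groth.FunFld1.L_mono (sub_le_self E (Finsupp.single_nonneg.mpr zero_le_one))) he
      have hmem : z ∈ FunFld.L (E - Finsupp.single (R x) 1) :=
        heq.symm ▸ (hF.mem_L_iff hz).mpr hz0
      have h1 := (hF.mem_L_iff hz).mp hmem (R x)
      have h2 := Finsupp.notMem_support_iff.mp hx
      simp only [Finsupp.coe_zero, Pi.zero_apply, Finsupp.add_apply, Finsupp.sub_apply,
        Finsupp.single_eq_same] at h1 h2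
      omega
    obtain ⟨x, hx⟩ := hmid
    set P := placeAt (k := k) h x.1
    obtain ⟨ν, hν, hν'⟩ := hadd (D - Finsupp.single P 1) (Finsupp.single P 1)
    rw [sub_add_cancel, hRμ x] at hν'
    refine ih (D - Finsupp.single P 1) ?_ ?_
    · have e := hd
      rw [hE] at e
      rw [Groth.FunFld1.deg_add, (hA _).1] at e ⊢
      rw [Groth.FunFld1.deg_sub, Groth.FunFld1.deg_single, x.2]
      push_cast at e ⊢
      omega
    · have he : C - (A₀ + A (D - Finsupp.single P 1)) =
          C - (E - Finsupp.single (R x) 1) + FunFld.div K (μ x * ν) := by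
        rw [hF.div_mul (hμ x) hν, hE, hν']
        abel
      rw [he, hF.ell_add_div _ (mul_ne_zero (hμ x) hν)]
      have hrr := Groth.FunFld1.riemann_roch hKY hC E
      have hrr' := Groth.FunFld1.riemann_roch hKY hC (E - Finsupp.single (R x) 1)
      have hle := ell_mono hF (sub_le_self E (Finsupp.single_nonneg.mpr zero_le_one :
        (0 : FunFld.Divisor K Y.functionField) ≤ Finsupp.single (R x) 1))
      rw [Groth.FunFld1.deg_sub, Groth.FunFld1.deg_single, hR1 x] at hrr'
      push_cast at hd
      omega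

end Groth.CurveBridge.RationalTwist
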