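import Groth.Agent.CurveBridge.RatPoints

/-!
A section gives a rational closed point.
-/

set_option linter.style.haveILetI false
set_option linter.unusedSectionVars false

universe u

open CategoryTheory AlgebraicGeometry Opposite TopologicalSpace

namespace Groth.CurveBridge

variable {k : Type u} [Field k] {X : Scheme.{u}} [X.Over (Spec (CommRingCat.of k))] [IsIntegral X]
  [IsProper (X ↘ Spec (CommRingCat.of k))]

theorem exists_rational_of_section (h : IsRegCurve X) (s : Spec (CommRingCat.of k) ⟶ X)
    (hs : s ≫ (X ↘ Spec (CommRingCat.of k)) = 𝟙 _) :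
    ∃ x : Pt X, (placeAt (k := k) h x).deg = 1 := by
  set x := (X.SpecToEquivOfField k s).1
  set φ := (X.SpecToEquivOfField k s).2
  have hsx : Spec.map φ ≫ X.fromSpecResidueField x = s := (X.SpecToEquivOfField k).symm_apply_apply s
  have hres : CommRingCat.ofHom (Curv2.resMap k X x) ≫ φ = 𝟙 _ := by
    refine Spec.map_injective ?_
    rw [Spec.map_comp, Spec.map_id, ← hs, ← hsx, Category.assoc]
    congr 1
    rw [Scheme.fromSpecResidueField, Category.assoc, fromSpecStalk_over, ← Spec.map_comp]
    rfl
  have hb : Function.Bijective (Curv2.resMap k X x) := by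
    refine ⟨(Curv2.resMap k X x).injective, fun w => ⟨φ w, φ.hom.injective ?_⟩⟩
    exact ConcreteCategory.congr_hom hres (φ w)
  have hc : IsClosed ({x} : Set X) := by
    rw [isClosed_singleton_iff X h.dim x]
    intro he
    obtain ⟨z, hz, -⟩ := isFF k X h.dim
    obtain ⟨c, hc⟩ := hb.2 (X.residue x ((X.presheaf.stalkSpecializes (specializes_of_eq he)).hom z))
    refine hz ?_
    have hinj : Function.Injective (X.residue x) := by
      rw [he]
      exact (X.residue (genericPoint X)).hom.injective (R := X.functionField)
    have := hinj hc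
    have h2 := congrArg (X.presheaf.stalkSpecializes (specializes_of_eq he.symm)).hom this
    rw [← CategoryTheory.comp_apply, TopCat.Presheaf.stalkSpecializes_comp,
      TopCat.Presheaf.stalkSpecializes_refl, CategoryTheory.id_apply] at h2
    rw [← h2]
    refine ?_
    rw [show (X.presheaf.stalkSpecializes (specializes_of_eq he.symm)).hom (Curv2.stalkMap k X x c) =
      algebraMap k X.functionField c by
        change (X.presheaf.stalkSpecializes _).hom (X.presheaf.germ ⊤ x trivial _) = _
        rw [TopCat.Presheaf.germ_stalkSpecializes_apply]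
        rfl]
    exact isAlgebraic_algebraMap c
  exact ⟨⟨x, hc⟩, (bijective_resMap_iff h ⟨x, hc⟩).mp hb⟩

end Groth.CurveBridge
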