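import Groth.Agent.Inter.EulerFamily
import Groth.Agent.S14609
import Groth.Agent.S15990
import Groth.Agent.S17807
import Groth.Agent.ZetaAn.ProdCurves
import Groth.Agent.PicAux.EffCartierSection
import Groth.Agent.CurveBridge.DoubleCover
import Groth.Agent.CurveBridge.RationalTwist
import Groth.Agent.CurveBridge.RatPoints
import Groth.Prelude.Def_SymProd

/-!
# Sections in families of invertible modules on a curve, and the point divisors of fibre powers
-/

set_option linter.style.haveILetI false

universe u

open CategoryTheory CategoryTheory.Limits AlgebraicGeometry TopologicalSpace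

namespace Groth.CurveBridge.FamilyH0

open Groth.PicAux

/-- Finite fibre powers of a proper morphism are proper. -/
theorem isProper_fibPow_base {X S : Scheme.{u}} (f : X ⟶ S) [IsProper f] :
    ∀ d : ℕ, IsProper (WidePullback.base (fun _ : Fin d => f)) := by
  intro d
  induction d with
  | zero =>
    have : IsIso (WidePullback.base (fun _ : Fin 0 => f)) :=
      ⟨WidePullback.lift (𝟙 S) (fun i => i.elim0) (fun i => i.elim0),
        WidePullback.hom_ext _ _ _ (fun i => i.elim0) (by rw [Category.assoc, WidePullback.lift_base, Category.id_comp, Category.comp_id]),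
        WidePullback.lift_base _ _ _ _⟩
    infer_instance
  | succ d ih =>
    let W := fun _ : Fin d => f
    let W' := fun _ : Fin (d + 1) => f
    let a : widePullback S (fun _ : Fin (d + 1) => X) W' ⟶ pullback (WidePullback.base W) f :=
      pullback.lift (WidePullback.lift (WidePullback.base W') (fun i => WidePullback.π W' i.castSucc)
          (fun i => WidePullback.π_arrow W' i.castSucc))
        (WidePullback.π W' (Fin.last d))
        (by rw [WidePullback.lift_base, WidePullback.π_arrow])
    let b : pullback (WidePullback.base W) f ⟶ widePullback S (fun _ : Fin (d + 1) => X) W' :=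
      WidePullback.lift (pullback.fst _ _ ≫ WidePullback.base W)
        (fun i => Fin.lastCases (pullback.snd _ _) (fun j => pullback.fst _ _ ≫ WidePullback.π W j) i)
        (fun i => by
          induction i using Fin.lastCases with
          | last => rw [Fin.lastCases_last]; exact pullback.condition.symm
          | cast j => rw [Fin.lastCases_castSucc, Category.assoc, WidePullback.π_arrow])
    have hab : a ≫ b = 𝟙 _ := by
      refine WidePullback.hom_ext _ _ _ (fun i => ?_) ?_
      · rw [Category.assoc, WidePullback.lift_π, Category.id_comp]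
        induction i using Fin.lastCases with
        | last => rw [Fin.lastCases_last, pullback.lift_snd]
        | cast j => rw [Fin.lastCases_castSucc, pullback.lift_fst_assoc, WidePullback.lift_π]
      · rw [Category.assoc, WidePullback.lift_base, Category.id_comp, pullback.lift_fst_assoc,
          WidePullback.lift_base]
    have hba : b ≫ a = 𝟙 _ := by
      refine pullback.hom_ext (WidePullback.hom_ext _ _ _ (fun i => ?_) ?_) ?_
      · rw [Category.id_comp, Category.assoc, Category.assoc, pullback.lift_fst_assoc,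
          WidePullback.lift_π, WidePullback.lift_π, Fin.lastCases_castSucc]
      · rw [Category.id_comp, Category.assoc, Category.assoc, pullback.lift_fst_assoc,
          WidePullback.lift_base, WidePullback.lift_base]
      · rw [Category.id_comp, Category.assoc, pullback.lift_snd, WidePullback.lift_π,
          Fin.lastCases_last]
    have : IsIso a := ⟨b, hab, hba⟩
    haveI := ih
    haveI : IsProper (pullback.fst (WidePullback.base W) f) :=
      MorphismProperty.of_isPullback (IsPullback.of_hasPullback _ _).flip ‹IsProper f›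
    have he : WidePullback.base W' = a ≫ pullback.fst _ _ ≫ WidePullback.base W := by
      rw [pullback.lift_fst_assoc, WidePullback.lift_base]
    show IsProper (WidePullback.base W')
    rw [he]
    infer_instance

/-- The cohomology of a fibre is computed at any point over it. -/
theorem finrank_point_eq {X S : Scheme.{u}} (f : X ⟶ S) [IsProper f] (M : X.Modules)
    [M.IsQuasicoherent] (K : Type u) [Field K] {Z : Scheme.{u}}
    [Z.Over (Spec (CommRingCat.of K))] (σ : Spec (CommRingCat.of K) ⟶ S) (g : Z ⟶ X)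
    (hsq : IsPullback g (Z ↘ Spec (CommRingCat.of K)) f σ) (p : ℕ) :
    Module.finrank K (Coh.HH Z ((Scheme.Modules.pullback g).obj M) p) =
      CohIII.fiberRank f M p (σ (IsLocalRing.closedPoint K)) := by
  let y : S := σ (IsLocalRing.closedPoint K)
  let ι : S.residueField y ⟶ CommRingCat.of K := S.descResidueField (Scheme.stalkClosedPointTo σ)
  have hσ : Spec.map ι ≫ S.fromSpecResidueField y = σ :=
    Scheme.descResidueField_stalkClosedPointTo_fromSpecResidueField K S σ
  let : Algebra (S.residueField y) K := ι.hom.toAlgebra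
  let : (f.fiber y).Over (Spec (CommRingCat.of (S.residueField y))) :=
    ⟨f.fiberToSpecResidueField y⟩
  have hF : IsPullback (f.fiberι y) (f.fiberToSpecResidueField y) f (S.fromSpecResidueField y) :=
    IsPullback.of_hasPullback _ _
  have hw : g ≫ f = ((Z ↘ Spec (CommRingCat.of K)) ≫ Spec.map ι) ≫ S.fromSpecResidueField y :=
    by rw [Category.assoc, hσ]; exact hsq.w
  let g' : Z ⟶ f.fiber y := hF.lift g ((Z ↘ Spec (CommRingCat.of K)) ≫ Spec.map ι) hw
  have hfst : g' ≫ f.fiberι y = g := hF.lift_fst _ _ _
  have hbc : Groth.CohBase.IsBC (A := S.residueField y) (A' := K) g' := by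
    have hsq' : IsPullback (g' ≫ f.fiberι y) (Z ↘ Spec (CommRingCat.of K)) f
        (Spec.map ι ≫ S.fromSpecResidueField y) := by rw [hfst, hσ]; exact hsq
    exact IsPullback.of_right hsq' (hF.lift_snd _ _ _) hF
  have : IsProper (f.fiber y ↘ Spec (CommRingCat.of (S.residueField y))) :=
    MorphismProperty.of_isPullback hF inferInstance
  have : CompactSpace (f.fiber y) :=
    QuasiCompact.compactSpace_of_compactSpace (f.fiber y ↘ Spec (CommRingCat.of (S.residueField y)))
  have : (f.fiber y).IsSeparated := by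
    rw [Scheme.isSeparated_iff, show terminal.from (f.fiber y) =
      (f.fiber y ↘ Spec (CommRingCat.of (S.residueField y))) ≫ terminal.from _ from
        Subsingleton.elim _ _]
    infer_instance
  have : ((Scheme.Modules.pullback (f.fiberι y)).obj M).IsQuasicoherent :=
    QCohMod.isQCoh_pullback_obj _ M
  have h := HilbStab.BC.finrank_HH_baseChange hbc ((Scheme.Modules.pullback (f.fiberι y)).obj M) p
  refine Eq.trans (Groth.EulerDeg.finrank_congr (k := K) ?_ p) h
  exact (Scheme.Modules.pullbackCongr hfst.symm).app M ≪≫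
    ((Scheme.Modules.pullbackComp _ _).app M).symm

/-- Few sections is an open condition in a flat family. -/
theorem isOpen_fiberRank_zero_le {X S : Scheme.{u}} (f : X ⟶ S) [IsProper f] [IsLocallyNoetherian S]
    (M : X.Modules) (hM : Coh.IsCoh M) (hfl : FlatMod.IsFlatOver f M)
    [HasInjectiveResolutions X.Modules] (m : ℕ) :
    IsOpen {y : S | CohIII.fiberRank f M 0 y ≤ m} := by
  rw [isOpen_iff_forall_mem_open]
  intro y hy
  obtain ⟨_, ⟨V, hV, rfl⟩, hyV, -⟩ :=
    S.isBasis_affineOpens.exists_subset_of_mem_open (Set.mem_univ y) isOpen_univ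
  have : IsNoetherianRing Γ(S, V) := IsLocallyNoetherian.component_noetherian ⟨V, hV⟩
  obtain ⟨L, hL⟩ := Groth.CohBase.exists_isModel f M hV hM hfl
  have := hL.finite
  have := hL.free
  have hus := Groth.Agent.S14609.result Γ(S, V) (Groth.CohBase.CxRank.Qc L ((0 : ℕ) : ℤ))
    (L.X (((0 : ℕ) : ℤ) + 1)) (Groth.CohBase.CxRank.dq L ((0 : ℕ) : ℤ))
  have key : ∀ (z : S) (hz : z ∈ V), CohIII.fiberRank f M 0 z =
      Module.finrank (hV.primeIdealOf ⟨z, hz⟩).asIdeal.ResidueField
        (LinearMap.ker ((Groth.CohBase.CxRank.dq L ((0 : ℕ) : ℤ)).baseChange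
          (hV.primeIdealOf ⟨z, hz⟩).asIdeal.ResidueField)) :=
    fun z hz => hL.fiberRank_eq hV 0 z hz _ (Ideal.ker_algebraMap_residueField _)
  have hcont : Continuous fun z : V => hV.primeIdealOf z :=
    hV.isoSpec.hom.continuous
  have hset : {z : V | CohIII.fiberRank f M 0 z.1 ≤ m} =
      (fun z : V => hV.primeIdealOf z) ⁻¹' {x | Module.finrank x.asIdeal.ResidueField
        (LinearMap.ker ((Groth.CohBase.CxRank.dq L ((0 : ℕ) : ℤ)).baseChange
          x.asIdeal.ResidueField)) < m + 1} := by
    ext z
    refine Iff.trans ?_ Nat.lt_succ_iff.symm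
    exact iff_of_eq (congrArg (· ≤ m) (key z.1 z.2))
  have hopen : IsOpen {z : V | CohIII.fiberRank f M 0 z.1 ≤ m} := by
    rw [hset]
    exact (upperSemicontinuous_iff_isOpen_preimage.1 hus (m + 1)).preimage hcont
  exact ⟨Subtype.val '' {z : V | CohIII.fiberRank f M 0 z.1 ≤ m},
    Set.image_subset_iff.2 fun z hz => hz, V.isOpen.isOpenMap_subtype_val _ hopen,
    ⟨⟨y, hyV⟩, hy, rfl⟩⟩

section Families

variable (k : Type u) [Field k] (C : Scheme.{u}) [C.Over (Spec (CommRingCat.of k))]
  [IsProper (C ↘ Spec (CommRingCat.of k))]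
  {T : Scheme.{u}} (q : T ⟶ Spec (CommRingCat.of k)) [LocallyOfFiniteType q]

/-- The parameters at which a member of an invertible family has at most `m` independent sections
form an open set. -/
theorem exists_open_h0_le {M : (Pic13.prodK k C q).Modules} (hM : PicF.IsInvertible M) (m : ℕ) :
    ∃ U : T.Opens, ∀ (x : Spec (CommRingCat.of k) ⟶ T) (hx : x ≫ q = 𝟙 _),
      x (IsLocalRing.closedPoint k) ∈ U ↔
        Module.finrank k (Coh.HH C (Pic13.fibreMod k C q x hx M) 0) ≤ m := by
  let π : Pic13.prodK k C q ⟶ T := pullback.snd _ _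
  let pr : Pic13.prodK k C q ⟶ C := pullback.fst _ _
  have hP : IsPullback pr π (C ↘ Spec (CommRingCat.of k)) q := IsPullback.of_hasPullback _ _
  have : IsProper π := MorphismProperty.of_isPullback hP inferInstance
  have : IsLocallyNoetherian T := LocallyOfFiniteType.isLocallyNoetherian q
  let F := Coh.structureModule C
  have hF : Coh.IsCoh F :=
    Groth.EulerDeg.isCoh_of_isInvertible (Groth.EulerDeg.isInvertible_structureModule C)
  have := hF.1
  have : ((Scheme.Modules.pullback pr).obj F).IsQuasicoherent := QCohMod.isQCoh_pullback_obj _ F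
  let G := CohB1.tensorMod ((Scheme.Modules.pullback pr).obj F) M
  have hGi : PicF.IsInvertible G := isInvertible_tensorMod
    (isInvertible_pullback pr (Groth.EulerDeg.isInvertible_structureModule C)) hM
  have hGc : Coh.IsCoh G := Groth.EulerDeg.isCoh_of_isInvertible hGi
  have hGf : FlatMod.IsFlatOver π G :=
    FlatTwist.isFlatOver_tensorMod hM
      (FlatMorOne.isFlatOver_baseChange hP F (Groth.Inter.isFlatOver_field k _ F))
  have : G.IsQuasicoherent := hGc.1
  obtain ⟨eG⟩ : Nonempty (G ≅ M) :=
    ⟨(Groth.Inter.tensor_congr ⟨(pullback_structure_iso pr).some⟩ ⟨Iso.refl M⟩).some ≪≫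
      (Groth.Inter.tensor_comm _ _).some ≪≫ (SecTwist.unitorR M)⟩
  refine ⟨⟨_, isOpen_fiberRank_zero_le π G hGc hGf m⟩, fun x hx => ?_⟩
  have hsl : Pic13.sliceAt k C q x hx ≫ pr = 𝟙 C := pullback.lift_fst _ _ _
  have hsn : Pic13.sliceAt k C q x hx ≫ π = (C ↘ Spec (CommRingCat.of k)) ≫ x :=
    pullback.lift_snd _ _ _
  have hsq : IsPullback (Pic13.sliceAt k C q x hx) (C ↘ Spec (CommRingCat.of k)) π x :=
    Groth.ZetaAn.ProdCurves.isPullback_section' _ q x hx _ ⟨hsl, hsn⟩
  have h1 := finrank_point_eq π G k x _ hsq 0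
  have h2 := Groth.EulerDeg.finrank_congr (k := k)
    ((Scheme.Modules.pullback (Pic13.sliceAt k C q x hx)).mapIso eG) 0
  show CohIII.fiberRank π G 0 _ ≤ m ↔ _
  rw [← h1, h2]
  rfl

omit [LocallyOfFiniteType q] in
/-- The ideal of the graph of a morphism to the curve is a family of point ideals. -/
theorem exists_pointFamily [SmoothOfRelativeDimension 1 (C ↘ Spec (CommRingCat.of k))]
    (γ : T ⟶ C) (hγ : γ ≫ (C ↘ Spec (CommRingCat.of k)) = q) :
    ∃ I : (Pic13.prodK k C q).Modules, PicF.IsInvertible I ∧
      ∀ (x : Spec (CommRingCat.of k) ⟶ T) (hx : x ≫ q = 𝟙 _),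
        Nonempty (Pic13.fibreMod k C q x hx I ≅ ClSub.idealMod (x ≫ γ).ker) := by
  let p := C ↘ Spec (CommRingCat.of k)
  haveI := AlgebraicGeometry.smoothOfRelativeDimension_isStableUnderBaseChange.{u} (n := 1)
  have hsd : SmoothOfRelativeDimension 1 (pullback.snd p q) :=
    MorphismProperty.of_isPullback (P := @SmoothOfRelativeDimension.{u} 1)
      (IsPullback.of_hasPullback p q) ‹_›
  let Δ : T ⟶ pullback p q := pullback.lift γ (𝟙 T) (by rw [hγ, Category.id_comp])
  have hΔ : Δ ≫ pullback.snd p q = 𝟙 T := pullback.lift_snd _ _ _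
  have := Groth.ZetaAn.ProdCurves.isClosedImmersion_of_over' (pullback.snd p q) Δ hΔ
  have hI := (Groth.Agent.S15990.result (pullback.snd p q) Δ hΔ).1
  refine ⟨ClSub.idealMod Δ.ker, isInvertible_idealMod hI, fun x hx => ?_⟩
  let σ := Pic13.sliceAt k C q x hx
  let s := x ≫ γ
  have hs : s ≫ p = 𝟙 _ := by rw [Category.assoc, hγ, hx]
  have hσ1 : σ ≫ pullback.fst p q = 𝟙 C := pullback.lift_fst _ _ _
  have hσ2 : σ ≫ pullback.snd p q = p ≫ x := pullback.lift_snd _ _ _
  have hsq : IsPullback σ p (pullback.snd p q) x :=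
    Groth.ZetaAn.ProdCurves.isPullback_section' p q x hx σ ⟨hσ1, hσ2⟩
  have hxΔ : x ≫ Δ = s ≫ σ := by
    apply pullback.hom_ext
    · rw [Category.assoc, Category.assoc, hσ1, pullback.lift_fst, Category.comp_id]
    · rw [Category.assoc, Category.assoc, hσ2, hΔ, ← Category.assoc, hs, Category.comp_id,
        Category.id_comp]
  have hup : IsPullback x s Δ σ := by
    refine IsPullback.of_bot ?_ hxΔ hsq
    rw [hs, hΔ]
    exact IsPullback.of_vert_isIso ⟨by simp⟩
  have := Groth.ZetaAn.ProdCurves.isClosedImmersion_of_over' p s hs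
  have hk : s.ker = Δ.ker.comap σ :=
    AdicLinTop.Thickenings.ker_eq_comap_of_isPullback hup.flip
  have hIs := (Groth.Agent.S15990.result p s hs).1
  show Nonempty ((Scheme.Modules.pullback σ).obj (ClSub.idealMod Δ.ker) ≅ ClSub.idealMod s.ker)
  rw [hk]
  exact pullback_idealMod σ hI (hk ▸ hIs)

end Families

section Lists

variable {X Y : Scheme.{u}}

theorem isInvertible_tensorList {ι : Type*} (P : ι → X.Modules) (hP : ∀ i, PicF.IsInvertible (P i)) :
    ∀ l : List ι, PicF.IsInvertible (FGA.tensorList (l.map P))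
  | [] => Groth.EulerDeg.isInvertible_structureModule X
  | i :: l => isInvertible_tensorMod (hP i) (isInvertible_tensorList P hP l)

theorem pullback_tensorList (f : X ⟶ Y) {ι : Type*} (P : ι → Y.Modules) (Q : ι → X.Modules)
    (hPQ : ∀ i, Nonempty ((Scheme.Modules.pullback f).obj (P i) ≅ Q i)) :
    ∀ l : List ι, Nonempty ((Scheme.Modules.pullback f).obj (FGA.tensorList (l.map P)) ≅
      FGA.tensorList (l.map Q))
  | [] => pullback_structure_iso f
  | i :: l => ⟨(exists_pullback_tensorMod f (P i) (FGA.tensorList (l.map P))).choose ≪≫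
      PicGrp.tensorModIso (hPQ i).some (pullback_tensorList f P Q hPQ l).some⟩

end Lists

section Quot

variable (k : Type u) [Field k] (C : Scheme.{u}) [C.Over (Spec (CommRingCat.of k))]
  [IsProper (C ↘ Spec (CommRingCat.of k))]
  {T : Scheme.{u}} (q : T ⟶ Spec (CommRingCat.of k)) [LocallyOfFiniteType q]

/-- The parameters at which the quotient of two invertible families has at most `m` independent
sections form an open set. -/
theorem exists_open_quot_h0_le {Af Bf : (Pic13.prodK k C q).Modules} (hA : PicF.IsInvertible Af)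
    (hB : PicF.IsInvertible Bf) (m : ℕ) :
    ∃ U : T.Opens, ∀ (x : Spec (CommRingCat.of k) ⟶ T) (hx : x ≫ q = 𝟙 _) (A B : C.Modules),
      Nonempty (Pic13.fibreMod k C q x hx Af ≅ A) → Nonempty (Pic13.fibreMod k C q x hx Bf ≅ B) →
      ∃ N : C.Modules, PicF.IsInvertible N ∧ Nonempty (CohB1.tensorMod N A ≅ B) ∧
        (x (IsLocalRing.closedPoint k) ∈ U ↔ Module.finrank k (Coh.HH C N 0) ≤ m) := by
  obtain ⟨Af', hA', ⟨e⟩⟩ := exists_isInverseOf hA
  have hM := isInvertible_tensorMod hB hA'
  obtain ⟨U, hU⟩ := exists_open_h0_le k C q hM m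
  let e' : CohB1.tensorMod (CohB1.tensorMod Bf Af') Af ≅ Bf :=
    (exists_associator Bf Af' Af).choose ≪≫ PicGrp.tensorModIso (Iso.refl Bf)
      ((Groth.Inter.tensor_comm _ _).some ≪≫ e) ≪≫ SecTwist.unitorR Bf
  refine ⟨U, fun x hx A B hiA hiB => ⟨_, isInvertible_pullback _ hM, ⟨?_⟩, hU x hx⟩⟩
  exact PicGrp.tensorModIso (Iso.refl _) hiA.some.symm ≪≫
    (exists_pullback_tensorMod _ _ _).choose.symm ≪≫
    (Scheme.Modules.pullback _).mapIso e' ≪≫ hiB.some

end Quot

section Points

variable {k : Type u} [Field k] {C : Scheme.{u}} [C.Over (Spec (CommRingCat.of k))] [IsIntegral C]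
  [IsProper (C ↘ Spec (CommRingCat.of k))] (h : IsRegCurve C)
include h

/-- The divisor of a product of point ideals. -/
theorem exists_divEmb_tensorList {ι : Type*} (s : ι → (Spec (CommRingCat.of k) ⟶ C)) (P : ι → Pt C)
    (hP : ∀ i, (s i).ker = Scheme.IdealSheafData.vanishingIdeal ⟨{(P i).1}, (P i).2⟩) :
    ∀ l : List ι, PicF.IsInvertible (FGA.tensorList (l.map fun i => ClSub.idealMod (s i).ker)) ∧
      ∃ χ : FGA.tensorList (l.map fun i => ClSub.idealMod (s i).ker) ⟶ constK C,
      IsDivEmb h χ (-((l.map fun i => Finsupp.single (placeAt (k := k) h (P i)) (1 : ℤ)).sum) :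
        FunFld.Divisor k C.functionField) := by
  intro l
  induction l with
  | nil =>
    have hL := Groth.EulerDeg.isInvertible_structureModule C
    refine ⟨hL, ?_⟩
    have he : Gen (Coh.structureModule C) ⊤ (oneSec C ⊤) := gen_oneSec ⊤
    have hU : genericPoint C ∈ (⊤ : C.Opens) := Opens.mem_top _
    obtain ⟨φ, hmono, hφ⟩ := exists_embedding hL hU he
    refine ⟨φ, hmono, fun x z => ?_⟩
    have e0 : (-((([] : List ι).map fun i => Finsupp.single (placeAt (k := k) h (P i)) (1 : ℤ)).sum) :
        FunFld.Divisor k C.functionField) = 0 := by simp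
    show InStalk (L := Coh.structureModule C) φ x.1 z ↔ _
    rw [e0, Finsupp.coe_zero, Pi.zero_apply, WithZero.exp_zero, inStalk_iff_of_gen φ (Opens.mem_top x.1) he, hφ, kv_ksec, placeAt_le_one_iff]
    simp only [mul_one]
  | cons i l ih =>
    obtain ⟨hl, χ, hχ⟩ := ih
    obtain ⟨hi, ψ, hψ⟩ := exists_divEmb_pointIdeal (k := k) h (P i)
    rw [← hP i] at hi
    refine ⟨isInvertible_tensorMod hi hl, ?_⟩
    have key : ∀ J : C.IdealSheafData,
        J = Scheme.IdealSheafData.vanishingIdeal ⟨{(P i).1}, (P i).2⟩ →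
        ∃ ω : CohB1.tensorMod (ClSub.idealMod J)
          (FGA.tensorList (l.map fun i => ClSub.idealMod (s i).ker)) ⟶ constK C,
          IsDivEmb h ω (-(Finsupp.single (placeAt (k := k) h (P i)) (1 : ℤ)) +
            -((l.map fun i => Finsupp.single (placeAt (k := k) h (P i)) (1 : ℤ)).sum) :
              FunFld.Divisor k C.functionField) := by
      rintro J rfl
      exact exists_divEmb_tensor h (hP i ▸ hi) hl hψ hχ
    obtain ⟨ω, hω⟩ := key _ (hP i)
    refine ⟨ω, ?_⟩
    simp only [List.map_cons, List.sum_cons, neg_add]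
    exact hω

/-- A closed point is the image of a rational point cut out by its kernel. -/
theorem exists_section [IsAlgClosed k] (x : Pt C) :
    ∃ t : Spec (CommRingCat.of k) ⟶ C, t ≫ (C ↘ Spec (CommRingCat.of k)) = 𝟙 _ ∧
      t.ker = Scheme.IdealSheafData.vanishingIdeal ⟨{x.1}, x.2⟩ := by
  let p := C ↘ Spec (CommRingCat.of k)
  refine ⟨pointOfClosedPoint p x.1 x.2, pointOfClosedPoint_comp p x.1 x.2, ?_⟩
  obtain ⟨y, hy, -, hk⟩ := Groth.Agent.S17807.exists_point k C h _
    (pointOfClosedPoint_comp p x.1 x.2)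
  have : x = y := Subtype.ext ((pointOfClosedPoint_apply p x.1 x.2 _).symm.trans
    (hy (IsLocalRing.closedPoint k)))
  subst this
  exact hk

variable (hK : FunFld.IsFunctionField k C.functionField)
include hK

/-- The sections of a module determined by a product with an invertible module. -/
theorem finrank_h0_of_tensor_iso {M A B : C.Modules} (hM : PicF.IsInvertible M)
    (hA : PicF.IsInvertible A) (hB : PicF.IsInvertible B) {α : A ⟶ constK C} {β : B ⟶ constK C}
    {DA DB : FunFld.Divisor k C.functionField} (hα : IsDivEmb h α DA) (hβ : IsDivEmb h β DB)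
    (e : Nonempty (CohB1.tensorMod M A ≅ B)) :
    Module.finrank k (Coh.HH C M 0) = FunFld.ell (DB - DA) := by
  obtain ⟨φ, D, hφ, h0, -, -⟩ := exists_divEmb h hK hM
  obtain ⟨χ, hχ⟩ := exists_divEmb_tensor h hM hA hφ hα
  obtain ⟨μ, hμ, hDB⟩ := linEquiv_of_iso h hK (isInvertible_tensorMod hM hA) hB hχ hβ e.some
  rw [h0, hDB, show D + DA + FunFld.div k μ - DA = D + FunFld.div k μ by abel,
    Groth.FunFld1.IsFF.ell_add_div (isFF k C h.dim) D hμ]

/-- Powers of a point ideal. -/
theorem finrank_h0_of_tensor_iso' {M A B : C.Modules} (hM : PicF.IsInvertible M)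
    (hA : PicF.IsInvertible A) (hB : PicF.IsInvertible B) {α : A ⟶ constK C} {β : B ⟶ constK C}
    {DA DB : FunFld.Divisor k C.functionField} {μ ν : C.functionField} (hμ : μ ≠ 0) (hν : ν ≠ 0)
    (hα : IsDivEmb h α (DA + FunFld.div k μ)) (hβ : IsDivEmb h β (DB + FunFld.div k ν))
    (e : Nonempty (CohB1.tensorMod M A ≅ B)) :
    Module.finrank k (Coh.HH C M 0) = FunFld.ell (DB - DA) := by
  have hF := isFF k C h.dim
  rw [finrank_h0_of_tensor_iso h hK hM hA hB hα hβ e,
    show DB + FunFld.div k ν - (DA + FunFld.div k μ) =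
      DB - DA + (FunFld.div k ν + FunFld.div k μ⁻¹) by rw [hF.div_inv]; abel,
    ← hF.div_mul hν (inv_ne_zero hμ),
    Groth.FunFld1.IsFF.ell_add_div hF _ (mul_ne_zero hν (inv_ne_zero hμ))]

variable [IsAlgClosed k]

/-- At most `g` points in general position span an effective divisor without moving. -/
theorem exists_points_ell_one :
    ∀ n : ℕ, n ≤ FunFld.genus k C.functionField → ∃ P : Fin n → Pt C,
      FunFld.ell (((List.ofFn P).map fun x => Finsupp.single (placeAt (k := k) h x) (1 : ℤ)).sum :
        FunFld.Divisor k C.functionField) = 1 := by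
  classical
  have hF := isFF k C h.dim
  obtain ⟨W, hW⟩ := Groth.FunFld1.exists_isCanonical hK
  intro n
  induction n with
  | zero =>
    intro _
    refine ⟨Fin.elim0, ?_⟩
    rw [List.ofFn_zero, List.map_nil, List.sum_nil]
    exact Groth.FunFld1.ell_zero_eq hK
  | succ n ih =>
    intro hn
    obtain ⟨P, hP⟩ := ih (by omega)
    set D : FunFld.Divisor k C.functionField :=
      ((List.ofFn P).map fun x => Finsupp.single (placeAt (k := k) h x) (1 : ℤ)).sum with hD
    have hdeg : FunFld.Divisor.deg D = n := by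
      have : ∀ l : List (Pt C), FunFld.Divisor.deg ((l.map fun x => Finsupp.single (placeAt (k := k) h x) (1 : ℤ)).sum :
          FunFld.Divisor k C.functionField) = l.length := by
        intro l
        induction l with
        | nil => simp [Groth.FunFld1.deg_zero]
        | cons a l ih =>
          rw [List.map_cons, List.sum_cons, Groth.FunFld1.deg_add, Groth.FunFld1.deg_single,
            Groth.FunFld1.deg_eq_one_of_isAlgClosed hF, ih, List.length_cons]
          push_cast
          ring
      rw [hD, this, List.length_ofFn]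
    have hrr := Groth.FunFld1.riemann_roch hK hW D
    rw [hP, hdeg] at hrr
    have hne : FunFld.L (W - D) ≠ ⊥ := fun hb => by
      unfold FunFld.ell at hrr
      rw [hb, finrank_bot] at hrr
      omega
    obtain ⟨z, hz, hz0⟩ := hF.exists_effective_of_ne_bot hne
    haveI := infinite_place (k := k) hF
    obtain ⟨Q, hQ⟩ := Infinite.exists_notMem_finset (W - D + FunFld.div k z).support
    rw [Finsupp.notMem_support_iff] at hQ
    have hdrop : FunFld.ell (W - D - Finsupp.single Q 1) ≠ FunFld.ell (W - D) := fun he => by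
      haveI := hF.finiteDimensional_L (W - D)
      have heq := Submodule.eq_of_le_of_finrank_eq
        (Groth.FunFld1.L_mono (sub_le_self (W - D) (Finsupp.single_nonneg.mpr zero_le_one))) he
      have hmem : z ∈ FunFld.L (W - D - Finsupp.single Q 1) :=
        heq.symm ▸ (hF.mem_L_iff hz).mpr hz0
      have := (hF.mem_L_iff hz).mp hmem Q
      simp only [Finsupp.coe_zero, Pi.zero_apply, Finsupp.add_apply, Finsupp.sub_apply,
        Finsupp.single_eq_same] at this hQ
      omega
    have hle := ell_mono hF (sub_le_self (W - D) (Finsupp.single_nonneg.mpr zero_le_one :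
      (0 : FunFld.Divisor k C.functionField) ≤ Finsupp.single Q 1))
    refine ⟨Fin.cons ((placeEquiv (k := k) h).symm Q) P, ?_⟩
    rw [List.ofFn_succ, List.map_cons, List.sum_cons]
    simp only [Fin.cons_zero, Fin.cons_succ]
    rw [show placeAt (k := k) h ((placeEquiv (k := k) h).symm Q) = Q from
      (placeEquiv (k := k) h).apply_symm_apply Q, ← hD]
    have hrr' := Groth.FunFld1.riemann_roch hK hW (Finsupp.single Q 1 + D)
    rw [Groth.FunFld1.deg_add, Groth.FunFld1.deg_single, Groth.FunFld1.deg_eq_one_of_isAlgClosed hF,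
      hdeg, show W - (Finsupp.single Q 1 + D) = W - D - Finsupp.single Q 1 by abel] at hrr'
    have h1 := ell_mono hF (le_add_of_nonneg_left (a := D) (Finsupp.single_nonneg.mpr zero_le_one :
      (0 : FunFld.Divisor k C.functionField) ≤ Finsupp.single Q 1))
    rw [hP] at h1
    push_cast at hrr' hrr
    omega

end Points

end Groth.CurveBridge.FamilyH0
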