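import Groth.Prelude.Def_CurvBase
import Groth.Agent.FunFld1.RiemannRoch
import Groth.Agent.Variety2.DimScheme
import Groth.Agent.Variety2.DimAffine
import Groth.Agent.PropsBasic2.FunField
import Groth.Agent.Ega4Algebra1.RegularLocal

/-!
The function field of an integral curve over a field is a function field of one variable.
-/

set_option linter.style.haveILetI false

universe u

open CategoryTheory AlgebraicGeometry Opposite TopologicalSpace

namespace Groth.CurveBridge

/-- A finitely generated domain of dimension one: its fraction field is a function field of one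
variable. -/
theorem isFF_of_finiteType (k A K : Type u) [Field k] [CommRing A] [IsDomain A] [Field K]
    [Algebra k A] [Algebra.FiniteType k A] [Algebra A K] [IsFractionRing A K] [Algebra k K]
    [IsScalarTower k A K] (hdim : ringKrullDim A = 1) : FunFld1.IsFF k K := by
  obtain ⟨n, hn, hd, -⟩ := Groth.Variety2.Dim.exists_dim k A
  have hn1 : n = 1 := by
    rw [hdim] at hd
    exact_mod_cast hd.symm
  have htr : Algebra.trdeg k K = 1 := by
    rw [← ((FractionRing.algEquiv A K).restrictScalars k).trdeg_eq, hn, hn1, Nat.cast_one]
  obtain ⟨s, hs⟩ := exists_isTranscendenceBasis k K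
  have hcard : Cardinal.mk s = 1 := by rw [← htr]; exact hs.cardinalMk_eq_trdeg
  obtain ⟨hsub, ⟨x⟩⟩ := Cardinal.eq_one_iff_unique.mp hcard
  refine ⟨x, hs.1.transcendental x, ?_⟩
  have hrange : Set.range ((↑) : s → K) = {(x : K)} :=
    Set.eq_singleton_iff_unique_mem.mpr ⟨⟨x, rfl⟩, by rintro _ ⟨y, rfl⟩; rw [Subsingleton.elim y x]⟩
  set F := IntermediateField.adjoin k ({(x : K)} : Set K)
  have halg : Algebra.IsAlgebraic F K := by
    have := hs.isAlgebraic_field
    rwa [hrange] at this
  obtain ⟨t, ht⟩ := Algebra.FiniteType.out (R := k) (A := A)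
  have htop : IntermediateField.adjoin F (algebraMap A K '' (t : Set A)) = ⊤ := by
    refine eq_top_iff.mpr fun z _ => ?_
    obtain ⟨a, b, hb, rfl⟩ := IsFractionRing.div_surjective (A := A) z
    have key : ∀ a : A, algebraMap A K a ∈ IntermediateField.adjoin F (algebraMap A K '' (t : Set A)) := by
      intro a
      have ha : a ∈ Algebra.adjoin k (t : Set A) := ht ▸ Algebra.mem_top
      induction ha using Algebra.adjoin_induction with
      | mem w hw => exact IntermediateField.subset_adjoin _ _ ⟨w, hw, rfl⟩
      | algebraMap c =>
        rw [← IsScalarTower.algebraMap_apply k A K, IsScalarTower.algebraMap_apply k F K]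
        exact IntermediateField.algebraMap_mem _ _
      | add u v _ _ hu hv => rw [map_add]; exact add_mem hu hv
      | mul u v _ _ hu hv => rw [map_mul]; exact mul_mem hu hv
    exact div_mem (key a) (key b)
  have hfin : FiniteDimensional F (IntermediateField.adjoin F (algebraMap A K '' (t : Set A))) := by
    haveI := (t.finite_toSet.image (algebraMap A K)).to_subtype
    exact IntermediateField.finiteDimensional_adjoin fun y _ => (halg.isAlgebraic y).isIntegral
  rw [htop] at hfin
  exact Module.Finite.equiv (IntermediateField.topEquiv : (⊤ : IntermediateField F K) ≃ₐ[F] K).toLinearEquiv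

/-- A one-dimensional regular local ring is a discrete valuation ring. -/
theorem isDVR_of_regular (R : Type u) [CommRing R] [IsDomain R] [IsRegularLocalRing R]
    (hd : ringKrullDim R = 1) : IsDiscreteValuationRing R := by
  have hnf : ¬ IsField R := fun h => by
    have := h.toField
    rw [ringKrullDim_eq_zero_of_isField h] at hd
    exact zero_ne_one hd
  have h1 : (IsLocalRing.maximalIdeal R).spanFinrank = 1 := by
    have := (isRegularLocalRing_iff R).mp inferInstance
    rw [hd] at this
    exact_mod_cast this
  have hp : (IsLocalRing.maximalIdeal R).IsPrincipal := by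
    have hfg : (IsLocalRing.maximalIdeal R).FG := IsNoetherian.noetherian _
    have hn := Submodule.FG.generators_ncard hfg
    rw [h1] at hn
    obtain ⟨a, ha⟩ := Set.ncard_eq_one.mp hn
    exact ⟨a, by rw [← Submodule.span_generators (IsLocalRing.maximalIdeal R), ha]⟩
  exact ((IsDiscreteValuationRing.TFAE R hnf).out 4 0 rfl rfl).mp hp

section Curve

variable (k : Type u) [Field k] (X : Scheme.{u}) [X.Over (Spec (CommRingCat.of k))]

/-- The constants in the function field. -/
noncomputable scoped instance algFF [IrreducibleSpace X] : Algebra k X.functionField :=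
  (Curv2.stalkMap k X (genericPoint X)).toAlgebra

theorem algebraMap_functionField [IrreducibleSpace X] (x : X) (c : k) :
    algebraMap (X.presheaf.stalk x) X.functionField (Curv2.stalkMap k X x c) =
      algebraMap k X.functionField c := by
  change (X.presheaf.stalkSpecializes _).hom (X.presheaf.germ ⊤ x trivial _) = _
  rw [TopCat.Presheaf.germ_stalkSpecializes_apply]
  rfl

theorem isFF [IsIntegral X] [LocallyOfFiniteType (X ↘ Spec (CommRingCat.of k))]
    (hdim : topologicalKrullDim X = 1) : FunFld1.IsFF k X.functionField := by
  obtain ⟨U, hU, hηU, -⟩ := exists_isAffineOpen_mem_and_subset (x := genericPoint X) (U := ⊤) trivial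
  haveI : Nonempty U.toScheme := ⟨⟨_, hηU⟩⟩
  haveI : IsDomain Γ(X, U) := inferInstance
  let φ : CommRingCat.of k ⟶ Γ(X, U) :=
    (Scheme.ΓSpecIso (CommRingCat.of k)).inv ≫ (X ↘ Spec (CommRingCat.of k)).appLE ⊤ U le_top
  letI : Algebra k Γ(X, U) := φ.hom.toAlgebra
  haveI : Algebra.FiniteType k Γ(X, U) := by
    have h := LocallyOfFiniteType.finiteType_appLE (X ↘ Spec (CommRingCat.of k))
      (isAffineOpen_top _) hU (e := le_top)
    exact h.comp (RingHom.FiniteType.of_surjective _
      (ConcreteCategory.bijective_of_isIso (Scheme.ΓSpecIso (CommRingCat.of k)).inv).2)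
  haveI := functionField_isFractionRing_of_isAffineOpen X U hU
  haveI : IsScalarTower k Γ(X, U) X.functionField := IsScalarTower.of_algebraMap_eq fun c => by
    change X.presheaf.germ ⊤ (genericPoint X) trivial _ =
      X.presheaf.germ U (genericPoint X) _ ((X ↘ Spec (CommRingCat.of k)).appLE ⊤ U le_top _)
    rw [Scheme.Hom.appLE]
    exact (TopCat.Presheaf.germ_res_apply X.presheaf _ _ _ _).symm
  refine isFF_of_finiteType k Γ(X, U) X.functionField ?_
  rw [← PrimeSpectrum.topologicalKrullDim_eq_ringKrullDim]
  have h1 := Groth.Variety2.Dim.dim_opens (X ↘ Spec (CommRingCat.of k)) U ⟨_, hηU⟩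
  rw [hdim] at h1
  rw [← h1]
  exact (hU.isoSpec.schemeIsoToHomeo.isHomeomorph.topologicalKrullDim_eq _).symm

/-- The closed points of an integral curve are the points other than the generic one. -/
theorem isClosed_singleton_iff [IsIntegral X] (hdim : topologicalKrullDim X = 1) (x : X) :
    IsClosed ({x} : Set X) ↔ x ≠ genericPoint X := by
  have hspec := Groth.PropsBasic2.generic_specializes (X := X) x
  constructor
  · rintro hx rfl
    have hall : ∀ y : X, y = genericPoint X := fun y => by
      have := specializes_iff_mem_closure.mp (Groth.PropsBasic2.generic_specializes y)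
      rwa [hx.closure_eq] at this
    have h0 : topologicalKrullDim X = 0 := by
      rw [Groth.Variety2.Dim.dim_eq_height_genericPoint]
      have : Order.height (genericPoint X) = 0 := Order.height_eq_zero.mpr fun y _ => (hall y).symm.le
      rw [this]; rfl
    rw [hdim] at h0
    exact one_ne_zero h0
  · intro hne
    refine isClosed_of_closure_subset fun y hy => ?_
    have hy' : x ⤳ y := specializes_iff_mem_closure.mpr hy
    by_contra hne'
    have h1 : (2 : WithBot ℕ∞) ≤ topologicalKrullDim X := by
      rw [Groth.Variety2.Dim.dim_eq_height_genericPoint]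
      have hlt1 : y < x := lt_of_le_not_ge hy' fun h => hne' (hy'.antisymm h).eq.symm
      have hlt2 : x < genericPoint X := lt_of_le_not_ge hspec fun h => hne ((show x ⤳ genericPoint X from h).antisymm hspec).eq
      have := Order.length_le_height_last
        (p := ((RelSeries.singleton _ y).snoc x hlt1).snoc (genericPoint X) (by simpa using hlt2))
      simp at this
      exact WithBot.coe_le_coe.mpr this
    rw [hdim] at h1
    norm_cast at h1

theorem isDVR_stalk [IsIntegral X] [LocallyOfFiniteType (X ↘ Spec (CommRingCat.of k))]
    (hdim : topologicalKrullDim X = 1) {x : X} (hx : IsClosed ({x} : Set X))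
    (hreg : IsRegularLocalRing (X.presheaf.stalk x)) :
    IsDiscreteValuationRing (X.presheaf.stalk x) := by
  refine isDVR_of_regular _ ?_
  have h := Groth.Variety2.Dim.ringKrullDim_stalk_add_height (X ↘ Spec (CommRingCat.of k)) x
  rw [hdim, show Order.height x = 0 from Order.height_eq_zero.mpr fun y hy => ?_] at h
  · simpa using h
  · have : y ∈ closure ({x} : Set X) := specializes_iff_mem_closure.mp hy
    rw [hx.closure_eq] at this
    exact (this : y = x).symm.le

end Curve

end Groth.CurveBridge
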