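import Groth.Agent.CurveBridge.HypImage
import Groth.Agent.Calg8.PointForms

/-!
Forms vanishing on a curve in projective space.
-/

set_option linter.style.haveILetI false
set_option linter.unusedSectionVars false

universe u

open CategoryTheory AlgebraicGeometry Opposite TopologicalSpace WithZero
open Groth.PicAux Groth.Chow Groth.FunFld1

namespace Groth.CurveBridge.FormsVanish

variable {k : Type u} [Field k] {X : Scheme.{u}} [X.Over (Spec (CommRingCat.of k))] [IsIntegral X]
  {n : ℕ} {r : X ⟶ CohB1.ProjSpace n k} {L : X.Modules} {s : Fin (n + 1) → ProjUP.Γm L}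
  (hU : ⨆ i, ToPn.U L s i = ⊤)
  (hr : ∀ i, (ToPn.U L s i).ι ≫ r = ToPn.rU (X ↘ Spec (CommRingCat.of k)) L s i)
  {v : Fin (n + 1) → X.functionField}
  (hc : ∀ j l, ∀ hη : genericPoint X ∈ ToPn.U L s j,
    v j ≠ 0 ∧ X.presheaf.germ (ToPn.U L s j) (genericPoint X) hη (ToPn.c L s j l) = v l / v j)
include hU hr hc

/-- A form vanishing on the coordinates vanishes on the image. -/
theorem hypIdeal_le_ker [QuasiCompact r] {m : ℕ} (G : LefPen.Form n k m)
    (hG : MvPolynomial.aeval v (G : MvPolynomial (Fin (n + 1)) k) = 0) :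
    LefPen.hypIdeal G ≤ r.ker := by
  rw [Scheme.Hom.ker, Scheme.IdealSheafData.le_ofIdeals_iff]
  intro U t ht
  have ht' : t ∈ LefPen.hypFamily G U := Scheme.IdealSheafData.ideal_ofIdeals_le _ U ht
  rw [RingHom.mem_ker]
  by_cases hUη : genericPoint X ∈ r ⁻¹ᵁ U.1
  swap
  · haveI := HypImage.subsingleton_of_notMem hUη
    exact Subsingleton.elim _ _
  obtain ⟨j, hj⟩ := Opens.mem_iSup.mp (hU.ge (Set.mem_univ (genericPoint X)))
  have hjη : genericPoint X ∈ r ⁻¹ᵁ LefPen.chart n k j := (ToPn.preimage_D hr hU j).ge hj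
  have hv := (hc j j hj).1
  have hzero : r.app (LefPen.chart n k j) (LefPen.dehom G j) = 0 := by
    refine germ_injective_of_isIntegral X (genericPoint X) hjη ?_
    rw [map_zero]
    have hp : G.1 ∈ CohB1.polyGrading n k (m • 1) := by rw [smul_eq_mul, mul_one]; exact G.2
    have he := ToPn.appLE_awayToSection hr j (ToPn.preimage_D hr hU j).ge
      (HomogeneousLocalization.Away.mk _ (ToPn.X_mem j) m G.1 hp)
    have h1 := congrArg (X.presheaf.germ (ToPn.U L s j) (genericPoint X) hj) he
    refine Eq.trans ?_ (h1.trans ?_)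
    · exact (TopCat.Presheaf.germ_res_apply X.presheaf _ (genericPoint X) hj _).symm
    rw [ToPn.α, ToPn.chart_mk]
    refine (MvPolynomial.eval₂_comp_left (X.presheaf.germ (ToPn.U L s j) (genericPoint X) hj).hom _ _ G.1).trans ?_
    have hf : (X.presheaf.germ (ToPn.U L s j) (genericPoint X) hj).hom.comp
        (ToPn.baseMap (X ↘ Spec (CommRingCat.of k)) L s j) = algebraMap k X.functionField :=
      RingHom.ext fun a => TopCat.Presheaf.germ_res_apply X.presheaf _ (genericPoint X) hj _
    have hb : (X.presheaf.germ (ToPn.U L s j) (genericPoint X) hj).hom ∘ ToPn.c L s j =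
        fun l => (v j)⁻¹ * v l := funext fun l => (hc j l hj).2.trans (by rw [div_eq_mul_inv, mul_comm])
    rw [hf, hb, ToPn.eval₂_scale _ v (v j)⁻¹ G.2]
    rw [show MvPolynomial.eval₂ (algebraMap k X.functionField) v G.1 = 0 from hG, mul_zero]
  refine germ_injective_of_isIntegral X (genericPoint X) hUη ?_
  rw [map_zero]
  obtain ⟨a, ha⟩ := Ideal.mem_span_singleton.mp (Ideal.mem_comap.mp (Submodule.mem_iInf _ |>.mp ht' j))
  have hV : genericPoint X ∈ r ⁻¹ᵁ (U.1 ⊓ LefPen.chart n k j) := ⟨hUη, hjη⟩
  have nat : ∀ (W : (CohB1.ProjSpace n k).Opens) (hle : U.1 ⊓ LefPen.chart n k j ≤ W)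
      (w : Γ(CohB1.ProjSpace n k, W)),
      X.presheaf.germ (r ⁻¹ᵁ (U.1 ⊓ LefPen.chart n k j)) (genericPoint X) hV
        (r.app _ ((CohB1.ProjSpace n k).presheaf.map (homOfLE hle).op w)) =
      X.presheaf.germ (r ⁻¹ᵁ W) (genericPoint X) (hle hV) (r.app W w) := fun W hle w => by
    rw [← CategoryTheory.comp_apply ((CohB1.ProjSpace n k).presheaf.map _) (r.app _),
      Scheme.Hom.naturality]
    exact TopCat.Presheaf.germ_res_apply X.presheaf _ _ hV _
  have h1 := congrArg (fun w => X.presheaf.germ (r ⁻¹ᵁ (U.1 ⊓ LefPen.chart n k j)) (genericPoint X) hV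
    (r.app _ w)) ha
  simp only [map_mul] at h1
  rw [nat U.1 inf_le_left t, nat (LefPen.chart n k j) inf_le_right, hzero, map_zero, zero_mul] at h1
  exact h1

end Groth.CurveBridge.FormsVanish

namespace Groth.CurveBridge.FormsVanish

variable {k : Type u} [Field k] {K : Type*} [Field K] [Algebra k K] {n : ℕ}

/-- Forms of degree `d` in members of `L(D)` lie in `L(dD)`. -/
theorem aeval_mem_L {D : FunFld.Divisor k K} {v : Fin (n + 1) → K} (hv : ∀ l, v l ∈ FunFld.L D)
    {d : ℕ} {p : MvPolynomial (Fin (n + 1)) k} (hp : p ∈ CohB1.polyGrading n k d) :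
    MvPolynomial.aeval v p ∈ FunFld.L (d • D) := by
  classical
  rw [p.as_sum, map_sum]
  refine Submodule.sum_mem _ fun e he P => ?_
  have hdeg : ∑ i, e i = d := by
    have h := hp (MvPolynomial.mem_support_iff.mp he)
    simpa [Finsupp.weight_apply, Finsupp.sum_fintype] using h
  rw [MvPolynomial.aeval_monomial, map_mul, Finsupp.prod_fintype _ _ (fun i => pow_zero _), map_prod]
  refine (mul_le_mul' (P.2.1 _) (Finset.prod_le_prod' fun i _ => ?_)).trans_eq ?_
    (b := 1 * ∏ i, exp ((e i : ℤ) * D P))
  · rw [map_pow, show ((e i : ℤ) * D P) = (e i) • D P by simp, exp_nsmul]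
    exact pow_le_pow_left₀ zero_le (hv i P) _
  · have hexp : ∀ (s : Finset (Fin (n + 1))) (f : Fin (n + 1) → ℤ), ∏ i ∈ s, exp (f i) = exp (∑ i ∈ s, f i) :=
      fun s f => by
        induction s using Finset.induction with
        | empty => simp
        | insert i s hi ih => rw [Finset.prod_insert hi, Finset.sum_insert hi, ih, exp_add]
    rw [one_mul, hexp, ← Finset.sum_mul, ← Nat.cast_sum, hdeg, Finsupp.smul_apply, nsmul_eq_mul]

/-- The forms of degree `d` vanishing on the coordinates. -/
noncomputable def vanishing (v : Fin (n + 1) → K) (d : ℕ) : Submodule k (LefPen.Form n k d) :=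
  LinearMap.ker ((MvPolynomial.aeval v).toLinearMap.comp (CohB1.polyGrading n k d).subtype)

/-- At most `ℓ(dD)` conditions. -/
theorem choose_le_finrank_vanishing_add (hF : IsFF k K) {D : FunFld.Divisor k K} {v : Fin (n + 1) → K}
    (hv : ∀ l, v l ∈ FunFld.L D) (d : ℕ) :
    (n + d).choose d ≤ Module.finrank k (vanishing (k := k) v d) + FunFld.ell (d • D) := by
  haveI := hF.finiteDimensional_L (d • D)
  have : FiniteDimensional k (LefPen.Form n k d) :=
    Module.Finite.of_basis (Groth.SGA7.Forms.monBasis n k d)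
  let φ : LefPen.Form n k d →ₗ[k] FunFld.L (d • D) :=
    ((MvPolynomial.aeval v).toLinearMap.comp (CohB1.polyGrading n k d).subtype).codRestrict _
      fun p => aeval_mem_L hv p.2
  have h1 := LinearMap.finrank_range_add_finrank_ker φ
  have h2 : LinearMap.ker φ = vanishing (k := k) v d := LinearMap.ker_codRestrict _ _ _
  have h3 := Submodule.finrank_le (LinearMap.range φ)
  have h4 : Module.finrank k (LefPen.Form n k d) = (n + d).choose d := Groth.SGA7.Forms.finrank_form n k d
  rw [h2] at h1
  unfold FunFld.ell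
  omega

/-- A space of forms larger than the space of cofactors contains a form which is not a multiple. -/
theorem exists_not_mem_span {a b : ℕ} (l : LefPen.Form n k a) (V : Submodule k (LefPen.Form n k (a + b)))
    (hV : (n + b).choose b < Module.finrank k V) :
    ∃ q ∈ V, (q : MvPolynomial (Fin (n + 1)) k) ∉ Ideal.span {(l : MvPolynomial (Fin (n + 1)) k)} := by
  classical
  by_contra hno
  push Not at hno
  have : FiniteDimensional k (LefPen.Form n k b) :=
    Module.Finite.of_basis (Groth.SGA7.Forms.monBasis n k b)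
  let μ : LefPen.Form n k b →ₗ[k] LefPen.Form n k (a + b) :=
    ((LinearMap.mulLeft k (l : MvPolynomial (Fin (n + 1)) k)).comp (CohB1.polyGrading n k b).subtype).codRestrict _
      fun p => MvPolynomial.IsHomogeneous.mul l.2 p.2
  have hle : V ≤ LinearMap.range μ := fun q hq => by
    obtain ⟨c, hc⟩ := Ideal.mem_span_singleton.mp (hno q hq)
    refine ⟨⟨MvPolynomial.homogeneousComponent b c, MvPolynomial.homogeneousComponent_mem _ _⟩, Subtype.ext ?_⟩
    show (l : MvPolynomial (Fin (n + 1)) k) * MvPolynomial.homogeneousComponent b c = q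
    have h1 := congrArg (MvPolynomial.homogeneousComponent (a + b)) hc
    rw [MvPolynomial.homogeneousComponent_of_mem q.2, if_pos rfl] at h1
    rw [h1]
    conv_rhs => rw [← MvPolynomial.sum_homogeneousComponent c, Finset.mul_sum, map_sum]
    simp_rw [MvPolynomial.homogeneousComponent_of_mem
      (MvPolynomial.IsHomogeneous.mul l.2 (MvPolynomial.homogeneousComponent_mem _ c))]
    rw [Finset.sum_eq_single b]
    · rw [if_pos rfl]
    · intro i _ hi; rw [if_neg]; omega
    · intro hb
      rw [Finset.mem_range, not_lt] at hb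
      rw [MvPolynomial.homogeneousComponent_eq_zero b c (by omega), mul_zero, ite_self]
  have h1 := (Submodule.finrank_mono hle).trans (LinearMap.finrank_range_le μ)
  rw [show Module.finrank k (LefPen.Form n k b) = (n + b).choose b from Groth.SGA7.Forms.finrank_form n k b] at h1
  omega

end Groth.CurveBridge.FormsVanish
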