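import Groth.Agent.Curves1.FrobTwist.Main
import Mathlib.FieldTheory.SeparableClosure

/-!
Factorisation of a finite morphism of curves through a Frobenius twist with separable quotient.
-/

set_option autoImplicit false
set_option linter.style.haveILetI false
set_option linter.unusedSectionVars false

universe u

open CategoryTheory CategoryTheory.Limits AlgebraicGeometry
open Groth.Curves1.FrobTwist

namespace Groth.CurveBridge.FrobFactor

/-- A map into a scheme from the spectrum of a field gives function field values at a generic point. -/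
theorem exists_hom_generic {Z : Scheme.{u}} [IrreducibleSpace Z] {L : CommRingCat.{u}} [IsLocalRing L] (ψ : Spec L ⟶ Z)
    (hψ : ψ (IsLocalRing.closedPoint L) = genericPoint Z) :
    ∃ φ : Z.functionField ⟶ L, Spec.map φ ≫ Z.fromSpecStalk (genericPoint Z) = ψ := by
  refine ⟨Z.presheaf.stalkSpecializes (specializes_of_eq hψ) ≫ Scheme.stalkClosedPointTo ψ, ?_⟩
  rw [Spec.map_comp, Category.assoc, Scheme.SpecMap_stalkSpecializes_fromSpecStalk,
    Scheme.Spec_stalkClosedPointTo_fromSpecStalk]

/-- The relative Frobenius of a smooth curve and the subfields containing all `p^r`-th powers. -/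
theorem exists_relFrobenius {k : Type u} [Field k] (p : ℕ) [Fact p.Prime] [ExpChar k p] (r : ℕ) {X : Scheme.{u}}
    (sX : X ⟶ Spec (CommRingCat.of k)) [IsProper sX] [Smooth sX] [IsIntegral X]
    (hdX : topologicalKrullDim X = 1) :
    ∃ (Z : Scheme.{u}) (sZ : Z ⟶ Spec (CommRingCat.of k)) (F : X ⟶ Z) (_ : IsIntegral Z)
      (eF : F (genericPoint X) = genericPoint Z),
      IsProper sZ ∧ Smooth sZ ∧ topologicalKrullDim Z = 1 ∧ Pi1.IsNormalScheme Z ∧ F ≫ sZ = sX ∧ Surjective F ∧
      (∃ q : Z ⟶ X, IsPullback q sZ sX (Spec.map (CommRingCat.ofHom (iterateFrobenius k p r))) ∧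
        ∀ x : X.functionField, x ^ p ^ r ∈ (fieldMap F eF).range) ∧
      ∀ S : Subfield X.functionField, (∀ x : X.functionField, x ^ p ^ r ∈ S) → (∀ c : k, baseMap sX c ∈ S) →
        ∀ z, fieldMap F eF z ∈ S := by
  have hp : p.Prime := Fact.out
  haveI : CharP k p := charP_of_expChar_prime' p hp
  haveI : CharP X.functionField p := charP_of_injective_ringHom (baseMap sX).injective p
  haveI : ExpChar X.functionField p := ExpChar.prime hp
  let σ := Spec.map (CommRingCat.ofHom (iterateFrobenius k p r))
  have hnX : Pi1.IsNormalScheme X := Groth.NeronArea.isNormalScheme_of_smooth sX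
    (Groth.Calg4.NormChar.isNormalScheme_specField _ (Field.toIsField k))
  haveI : IsLocallyNoetherian X := LocallyOfFiniteType.isLocallyNoetherian sX
  have hcomm : (iterateFrobenius X.functionField p r).comp (baseMap sX) =
      (baseMap sX).comp (iterateFrobenius k p r) := RingHom.ext fun c =>
    (iterateFrobenius_def p r _).trans ((map_pow _ _ _).symm.trans (congrArg _ (iterateFrobenius_def p r c).symm))
  obtain ⟨a, ha, hagen⟩ := exists_hom_of_spec hnX hdX.le (sX ≫ σ) sX
    (Spec.map (CommRingCat.ofHom (iterateFrobenius X.functionField p r)) ≫ X.fromSpecStalk (genericPoint X)) (by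
      rw [Category.assoc, ← specMap_baseMap sX, ← Category.assoc, ← specMap_baseMap sX]
      exact (specMap_ofHom_comp (R := CommRingCat.of k) _ _).trans
        ((congrArg (fun φ => Spec.map (CommRingCat.ofHom φ)) hcomm).trans
          (specMap_ofHom_comp (R := CommRingCat.of k) (S := CommRingCat.of k) _ _).symm))
  let Z := pullback sX σ
  let sZ : Z ⟶ Spec (CommRingCat.of k) := pullback.snd sX σ
  haveI : Smooth sZ := MorphismProperty.pullback_snd _ _ inferInstance
  haveI : IsProper sZ := MorphismProperty.pullback_snd _ _ inferInstance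
  have hhom : IsHomeomorph (pullback.fst sX σ) := isHomeomorph_fst_frobenius p r sX
  have hnZ : Pi1.IsNormalScheme Z := Groth.NeronArea.isNormalScheme_of_smooth sZ
    (Groth.Calg4.NormChar.isNormalScheme_specField _ (Field.toIsField k))
  haveI : IsReduced Z := Groth.NeronArea.isReduced_of_normal hnZ
  haveI : IrreducibleSpace Z := hhom.homeomorph.symm.surjective.irreducibleSpace
    hhom.homeomorph.symm.continuous
  haveI : IsIntegral Z := isIntegral_of_irreducibleSpace_of_isReduced Z
  have hdZ : topologicalKrullDim Z = 1 := hhom.topologicalKrullDim_eq.trans hdX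
  have hη : (pullback.fst sX σ) (genericPoint Z) = genericPoint X := by
    have h := (genericPoint_spec Z).image (pullback.fst sX σ).continuous
    rw [Set.image_univ, hhom.surjective.range_eq, closure_univ] at h
    exact h.eq (genericPoint_spec X)
  let F : X ⟶ Z := pullback.lift a sX ha
  have hFfst : F ≫ pullback.fst sX σ = a := pullback.lift_fst _ _ _
  have hFs : F ≫ sZ = sX := pullback.lift_snd _ _ _
  have haη : a (genericPoint X) = genericPoint X := by
    have h := congr($(hagen).base (IsLocalRing.closedPoint X.functionField))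
    simp only [Scheme.Hom.comp_base, TopCat.comp_app] at h
    rw [Scheme.fromSpecStalk_closedPoint] at h
    refine h.trans ?_
    exact (congrArg _ (Subsingleton.elim (α := PrimeSpectrum X.functionField) _ _)).trans
      Scheme.fromSpecStalk_closedPoint
  have eF : F (genericPoint X) = genericPoint Z := hhom.injective (by
    rw [hη, ← Scheme.Hom.comp_apply, hFfst, haη])
  haveI : IsProper (F ≫ sZ) := hFs ▸ inferInstance
  haveI : IsProper F := IsProper.of_comp F sZ
  haveI : Surjective F := ⟨fun z => by
    refine closure_minimal (t := Set.range F) (Set.singleton_subset_iff.2 ⟨genericPoint X, eF⟩)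
      F.isClosedMap.isClosed_range ?_
    exact ((genericPoint_spec Z).specializes trivial).mem_closure⟩
  refine ⟨Z, sZ, F, inferInstance, eF, inferInstance, inferInstance, hdZ, hnZ, hFs, inferInstance,
    ⟨pullback.fst sX σ, IsPullback.of_hasPullback _ _, fun x => ?_⟩, fun S hS hk => ?_⟩
  · refine ⟨fieldMap (pullback.fst sX σ) hη x, ?_⟩
    have e' : (F ≫ pullback.fst sX σ) (genericPoint X) = genericPoint X := by rw [hFfst]; exact haη
    have h1 : fieldMap (F ≫ pullback.fst sX σ) e' x = fieldMap F eF (fieldMap (pullback.fst sX σ) hη x) :=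
      DFunLike.congr_fun (fieldMap_comp F (pullback.fst sX σ) eF hη e') x
    have h2 : fieldMap (F ≫ pullback.fst sX σ) e' = iterateFrobenius X.functionField p r :=
      fieldMap_eq_of e' (hagen.symm.trans (congrArg (_ ≫ ·) hFfst.symm))
    exact h1.symm.trans ((DFunLike.congr_fun h2 x).trans (iterateFrobenius_def p r x))
  · let χ : X.functionField →+* S := (iterateFrobenius X.functionField p r).codRestrict S fun x => by
      rw [iterateFrobenius_def]; exact hS x
    let β : k →+* S := (baseMap sX).codRestrict S hk
    have hχ : S.subtype.comp χ = iterateFrobenius X.functionField p r := RingHom.ext fun _ => rfl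
    have hβ : S.subtype.comp β = baseMap sX := RingHom.ext fun _ => rfl
    have hsq : χ.comp (baseMap sX) = β.comp (iterateFrobenius k p r) :=
      RingHom.ext fun c => Subtype.ext (DFunLike.congr_fun hcomm c)
    let ψ : Spec (CommRingCat.of S) ⟶ Z := pullback.lift
      (Spec.map (CommRingCat.ofHom χ) ≫ X.fromSpecStalk (genericPoint X)) (Spec.map (CommRingCat.ofHom β)) (by
        rw [Category.assoc, ← specMap_baseMap sX]
        exact (specMap_ofHom_comp (R := CommRingCat.of k) (T := CommRingCat.of S) _ _).trans
          ((congrArg (fun φ => Spec.map (CommRingCat.ofHom φ)) hsq).trans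
            (specMap_ofHom_comp (R := CommRingCat.of k) (S := CommRingCat.of k) (T := CommRingCat.of S) _ _).symm))
    have hcomp : Spec.map (CommRingCat.ofHom S.subtype) ≫ ψ = X.fromSpecStalk (genericPoint X) ≫ F := by
      refine pullback.hom_ext ?_ ?_
      · rw [Category.assoc, Category.assoc, pullback.lift_fst, hFfst, hagen, ← Category.assoc]
        exact congrArg (· ≫ X.fromSpecStalk (genericPoint X))
          ((specMap_ofHom_comp (S := CommRingCat.of S) χ S.subtype).trans
            (congrArg (fun φ => Spec.map (CommRingCat.ofHom φ)) hχ))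
      · rw [Category.assoc, Category.assoc, pullback.lift_snd, show F ≫ pullback.snd sX σ = sX from hFs,
          ← specMap_baseMap sX]
        exact (specMap_ofHom_comp (R := CommRingCat.of k) (S := CommRingCat.of S) β S.subtype).trans
          (congrArg (fun φ => Spec.map (CommRingCat.ofHom φ)) hβ)
    have hψ : ψ (IsLocalRing.closedPoint S) = genericPoint Z := by
      have h := congr($(hcomp).base (IsLocalRing.closedPoint X.functionField))
      simp only [Scheme.Hom.comp_base, TopCat.comp_app] at h
      rw [Scheme.fromSpecStalk_closedPoint, eF,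
        show (Spec.map (CommRingCat.ofHom S.subtype)).base (IsLocalRing.closedPoint X.functionField) =
          IsLocalRing.closedPoint S from Subsingleton.elim (α := PrimeSpectrum S) _ _] at h
      exact h
    obtain ⟨φ, hφ⟩ := exists_hom_generic (L := CommRingCat.of S) ψ hψ
    have hf : fieldMap F eF = S.subtype.comp φ.hom := fieldMap_eq_of eF (by
      rw [← hcomp, ← hφ, ← Category.assoc, ← Spec.map_comp]
      rfl)
    intro z
    rw [hf]
    exact (φ.hom z).2

/-- A finite morphism of smooth curves factors through a twist with separable second map. -/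
theorem exists_separable_factor {k : Type u} [Field k] (p : ℕ) [Fact p.Prime] [ExpChar k p] {X Y : Scheme.{u}}
    (sX : X ⟶ Spec (CommRingCat.of k)) (sY : Y ⟶ Spec (CommRingCat.of k)) [IsProper sX] [IsProper sY]
    [Smooth sX] [IsIntegral X] [IsIntegral Y] (hdX : topologicalKrullDim X = 1)
    (f : X ⟶ Y) [IsFinite f] (hf : f ≫ sY = sX) (e : f (genericPoint X) = genericPoint Y) :
    ∃ (r : ℕ) (Z : Scheme.{u}) (sZ : Z ⟶ Spec (CommRingCat.of k)) (F : X ⟶ Z) (g : Z ⟶ Y) (q : Z ⟶ X)
      (_ : IsIntegral Z) (eg : g (genericPoint Z) = genericPoint Y),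
      IsProper sZ ∧ Smooth sZ ∧ topologicalKrullDim Z = 1 ∧ Surjective F ∧ F ≫ g = f ∧ g ≫ sY = sZ ∧
      IsPullback q sZ sX (Spec.map (CommRingCat.ofHom (iterateFrobenius k p r))) ∧
      (letI := (fieldMap g eg).toAlgebra
       Algebra.IsSeparable Y.functionField Z.functionField) := by
  have hp : p.Prime := Fact.out
  haveI : CharP k p := charP_of_expChar_prime' p hp
  haveI : CharP X.functionField p := charP_of_injective_ringHom (baseMap sX).injective p
  haveI : CharP Y.functionField p := charP_of_injective_ringHom (baseMap sY).injective p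
  haveI : ExpChar Y.functionField p := ExpChar.prime hp
  letI : Algebra Y.functionField X.functionField := (fieldMap f e).toAlgebra
  haveI : Module.Finite Y.functionField X.functionField := finite_fieldMap f e
  letI : Algebra k X.functionField := (baseMap sX).toAlgebra
  let S := separableClosure Y.functionField X.functionField
  haveI : ExpChar S p := expChar_of_injective_algebraMap (algebraMap Y.functionField S).injective p
  haveI : IsPurelyInseparable S X.functionField := inferInstance
  obtain ⟨r, hr⟩ := IsPurelyInseparable.finrank_eq_pow S X.functionField p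
  obtain ⟨Z, sZ, F, hZ, eF, hZp, hZs, hdZ, hnZ, hFs, hFsurj, ⟨q, hq, hpow⟩, hgen⟩ :=
    exists_relFrobenius p r sX hdX
  haveI := hZ
  haveI := hFsurj
  haveI := hZp
  have hbase : ∀ c, baseMap sX c ∈ S.toSubfield := fun c => by
    rw [← fieldMap_baseMap sX sY f hf e]
    exact S.algebraMap_mem (baseMap sY c)
  have hpowS : ∀ x : X.functionField, x ^ p ^ r ∈ S.toSubfield := fun x => by
    obtain ⟨s, hs⟩ := pow_finrank_mem (E := S) p r hr x
    rw [← hs]
    exact s.2
  let E : IntermediateField k X.functionField := S.toSubfield.toIntermediateField hbase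
  let M : IntermediateField k X.functionField := (fieldMap F eF).fieldRange.toIntermediateField
    fun c => ⟨baseMap sZ c, DFunLike.congr_fun (fieldMap_baseMap sX sZ F hFs eF) c⟩
  have hME : M ≤ E := by
    rintro _ ⟨z, rfl⟩
    exact hgen S.toSubfield hpowS hbase z
  obtain ⟨t, ht⟩ := exists_separating sX hdX
  have hE : Module.finrank E X.functionField = p ^ r := hr
  have hEM : M = E := eq_of_separating p r hME (fun x => hpow x) hE t
  have hrange : (fieldMap f e).range ≤ (fieldMap F eF).range := by
    rintro _ ⟨y, rfl⟩
    have : fieldMap f e y ∈ M := hEM ▸ S.algebraMap_mem y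
    exact this
  haveI : IsLocallyNoetherian Z := LocallyOfFiniteType.isLocallyNoetherian sZ
  obtain ⟨g, hg, hFg⟩ := exists_hom_of_fieldMap hnZ hdZ.le sZ sY F f (hFs.trans hf.symm) eF e hrange
  have eg : g (genericPoint Z) = genericPoint Y := by
    rw [← eF, ← Scheme.Hom.comp_apply, hFg, e]
  refine ⟨r, Z, sZ, F, g, q, hZ, eg, hZp, hZs, hdZ, hFsurj, hFg, hg, hq, ?_⟩
  letI := (fieldMap g eg).toAlgebra
  have hc : (fieldMap F eF).comp (fieldMap g eg) = fieldMap f e := by
    subst hFg
    exact (fieldMap_comp F g eF eg e).symm
  let φ : Z.functionField →ₐ[Y.functionField] X.functionField :=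
    { fieldMap F eF with commutes' := fun y => DFunLike.congr_fun hc y }
  refine ⟨fun z => ?_⟩
  have : φ z ∈ S := hgen S.toSubfield hpowS hbase z
  have hsep := mem_separableClosure_iff.1 this
  rwa [IsSeparable, minpoly.algHom_eq φ φ.toRingHom.injective] at hsep

end Groth.CurveBridge.FrobFactor
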