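import Groth.Agent.CurveBridge.FamilyH0
import Groth.Agent.FBaseGeom.Prod

/-!
# Lowering a semicontinuous invariant by general points, and general divisors of pairs
-/

set_option linter.style.haveILetI false

universe u

open CategoryTheory CategoryTheory.Limits AlgebraicGeometry TopologicalSpace

namespace Groth.CurveBridge.GeneralTwist

/-- A closed set without closed points outside another closed set lies in it. -/
theorem subset_of_closedPoints {T : Type*} [TopologicalSpace T] [JacobsonSpace T] {A B : Set T}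
    (hA : IsClosed A) (hB : IsClosed B) (h : ∀ t ∈ closedPoints T, t ∈ A → t ∈ B) : A ⊆ B := by
  intro a ha
  by_contra hn
  obtain ⟨t, ⟨htA, htB⟩, ht⟩ := nonempty_inter_closedPoints (Z := A ∩ Bᶜ) ⟨a, ha, hn⟩
    (hA.isLocallyClosed.inter hB.isOpen_compl.isLocallyClosed)
  exact htB (h t ht htA)

/-- An upper semicontinuous invariant which can be lowered at finitely many points at a time
disappears after as many steps as its maximum plus the dimension. -/
theorem exists_iterate {T : Type*} [TopologicalSpace T] [JacobsonSpace T] [NoetherianSpace T]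
    {ι : Type*} {d : ℕ} (hd : topologicalKrullDim T ≤ (d : WithBot ℕ∞)) (f : List ι → T → ℕ) (M : ℕ)
    (S : List ι → ℕ → Set T) (hS : ∀ E m, IsClosed (S E m))
    (hmem : ∀ E m, ∀ t ∈ closedPoints T, t ∈ S E m ↔ m < f E t)
    (hM : ∀ t ∈ closedPoints T, f [] t ≤ M)
    (hmono : ∀ E R, ∀ t ∈ closedPoints T, f (R :: E) t ≤ f E t)
    (hdrop : ∀ E, ∀ F : Finset T, (∀ t ∈ F, t ∈ closedPoints T) →
      ∃ R, ∀ t ∈ F, 0 < f E t → f (R :: E) t < f E t) :
    ∃ E : List ι, E.length = M + d ∧ ∀ t ∈ closedPoints T, f E t = 0 := by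
  classical
  have hfin : ∀ Z : IrreducibleCloseds T, Order.height Z ≤ (d : ℕ∞) := fun Z =>
    WithBot.coe_le_coe.mp ((Order.height_le_krullDim Z).trans hd)
  have key : ∀ n, ∃ E : List ι, E.length = n ∧ ∀ (Z : IrreducibleCloseds T) (m : ℕ),
      (Z : Set T) ⊆ S E m → m + 1 + (Order.height Z).toNat + n ≤ M + d := by
    intro n
    induction n with
    | zero =>
      refine ⟨[], rfl, fun Z m hZ => ?_⟩
      obtain ⟨t, htZ, ht⟩ := nonempty_inter_closedPoints Z.isIrreducible'.nonempty
        Z.isClosed'.isLocallyClosed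
      have h1 := (hmem [] m t ht).mp (hZ htZ)
      have h2 := hM t ht
      have h3 : (Order.height Z).toNat ≤ d := ENat.toNat_le_of_le_natCast (hfin Z)
      omega
    | succ n ih =>
      obtain ⟨E, hlen, hE⟩ := ih
      have hcomp : ∀ m, ∃ W : Finset (Set T), (∀ w ∈ W, IsClosed w ∧ IsIrreducible w) ∧
          S E m = ⋃₀ ↑W := by
        intro m
        obtain ⟨W, hWf, hWc, hWi, hW⟩ :=
          NoetherianSpace.exists_finite_set_isClosed_irreducible (hS E m)
        exact ⟨hWf.toFinset, fun w hw => ⟨hWc w (hWf.mem_toFinset.mp hw),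
          hWi w (hWf.mem_toFinset.mp hw)⟩, by rw [hWf.coe_toFinset]; exact hW⟩
      choose W hWprop hW using hcomp
      let bad : Finset (Σ _ : ℕ, Set T) :=
        ((Finset.range (M + d)).sigma W).filter fun p => ¬ p.2 ⊆ S E (p.1 + 1)
      have hpick : ∀ p ∈ bad, ∃ t ∈ closedPoints T, t ∈ p.2 ∧ f E t = p.1 + 1 := by
        intro p hp
        obtain ⟨hp1, hp2⟩ := Finset.mem_filter.mp hp
        obtain ⟨-, hp3⟩ := Finset.mem_sigma.mp hp1
        obtain ⟨a, ha, han⟩ := Set.not_subset.mp hp2
        obtain ⟨t, ⟨ht1, ht2⟩, ht⟩ := nonempty_inter_closedPoints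
          (Z := p.2 ∩ (S E (p.1 + 1))ᶜ) ⟨a, ha, han⟩
          ((hWprop _ _ hp3).1.isLocallyClosed.inter (hS _ _).isOpen_compl.isLocallyClosed)
        have hin : t ∈ S E p.1 := by rw [hW p.1]; exact ⟨p.2, hp3, ht1⟩
        have h1 := (hmem E _ t ht).mp hin
        have h2 : ¬ p.1 + 1 < f E t := fun h => ht2 ((hmem E _ t ht).mpr h)
        exact ⟨t, ht, ht1, by omega⟩
      choose pick hpick1 hpick2 hpick3 using hpick
      let F := bad.attach.image fun p => pick p.1 p.2
      have hFc : ∀ t ∈ F, t ∈ closedPoints T := fun t ht => by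
        obtain ⟨p, -, rfl⟩ := Finset.mem_image.mp ht
        exact hpick1 _ _
      obtain ⟨R, hR⟩ := hdrop E F hFc
      refine ⟨R :: E, by rw [List.length_cons, hlen], fun Z m hZ => ?_⟩
      have hsub : S (R :: E) m ⊆ S E m := subset_of_closedPoints (hS _ _) (hS _ _) fun t ht h =>
        (hmem E m t ht).mpr (lt_of_lt_of_le ((hmem _ m t ht).mp h) (hmono E R t ht))
      have h0 := hE Z m (hZ.trans hsub)
      obtain ⟨w, hw, hZw⟩ := isIrreducible_iff_sUnion_isClosed.mp Z.isIrreducible' (W m)
        (fun z hz => (hWprop m z hz).1) (by rw [← hW m]; exact hZ.trans hsub)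
      let Wz : IrreducibleCloseds T := ⟨w, (hWprop m w hw).2, (hWprop m w hw).1⟩
      have hwS : (Wz : Set T) ⊆ S E m := by rw [hW m]; exact Set.subset_sUnion_of_mem hw
      have hZW : Z ≤ Wz := hZw
      have hne : Order.height Wz ≠ ⊤ := ne_top_of_le_ne_top (ENat.natCast_ne_top d) (hfin Wz)
      by_cases hup : w ⊆ S E (m + 1)
      · have h1 := hE Wz (m + 1) hup
        have h2 := ENat.toNat_le_toNat (Order.height_mono hZW) hne
        omega
      · have hb : (⟨m, w⟩ : Σ _ : ℕ, Set T) ∈ bad :=
          Finset.mem_filter.mpr ⟨Finset.mem_sigma.mpr ⟨Finset.mem_range.mpr (show m < M + d by omega), hw⟩, hup⟩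
        have h1 := hE Wz m hwS
        have htW := hpick2 _ hb
        have hft : f E (pick _ hb) = m + 1 := hpick3 _ hb
        have htc := hpick1 _ hb
        have hout : pick _ hb ∉ S (R :: E) m := fun h => by
          have := (hmem _ m _ htc).mp h
          have := hR (pick _ hb) (Finset.mem_image.mpr ⟨⟨_, hb⟩, Finset.mem_attach _ _, rfl⟩)
            (by omega)
          omega
        have hlt : Z < Wz := lt_of_le_of_ne hZW fun e => hout (hZ (e ▸ htW))
        have h2 : Order.height Z < Order.height Wz :=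
          Order.height_strictMono hlt (lt_of_le_of_lt (hfin Z) (ENat.natCast_lt_top d))
        have h3 : (Order.height Z).toNat < (Order.height Wz).toNat := by
          rw [← ENat.natCast_lt_natCast, ENat.natCast_toNat hne,
            ENat.natCast_toNat (ne_top_of_lt h2)]
          exact h2
        omega
  obtain ⟨E, hlen, hE⟩ := key (M + d)
  refine ⟨E, hlen, fun t ht => Nat.eq_zero_of_not_pos fun hpos => ?_⟩
  have := hE ⟨{t}, isIrreducible_singleton, ht⟩ 0
    (Set.singleton_subset_iff.mpr ((hmem E 0 t ht).mpr hpos))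
  omega

section Curve

variable {k : Type u} [Field k] [IsAlgClosed k] {C : Scheme.{u}}
  [C.Over (Spec (CommRingCat.of k))] [IsIntegral C] [IsProper (C ↘ Spec (CommRingCat.of k))]
  [SmoothOfRelativeDimension 1 (C ↘ Spec (CommRingCat.of k))]
  (h : IsRegCurve C) (hK : FunFld.IsFunctionField k C.functionField)
include h hK

/-- After subtracting enough general points no pair of points saves a divisor. -/
theorem exists_divisor_kill_pairs (B : FunFld.Divisor k C.functionField) (M : ℕ)
    (hM : ∀ P Q, FunFld.ell (B + Finsupp.single P 1 + Finsupp.single Q 1) ≤ M) :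
    ∃ E : FunFld.Divisor k C.functionField, E.deg = M + 2 ∧
      ∀ P Q, FunFld.ell (B - E + Finsupp.single P 1 + Finsupp.single Q 1) = 0 := by
  classical
  have hF := isFF k C h.dim
  let p := C ↘ Spec (CommRingCat.of k)
  let T := pullback p p
  let q : T ⟶ Spec (CommRingCat.of k) := pullback.fst p p ≫ p
  obtain ⟨I₁, hI₁, hx₁⟩ := FamilyH0.exists_pointFamily k C q (pullback.fst p p) rfl
  obtain ⟨I₂, hI₂, hx₂⟩ := FamilyH0.exists_pointFamily k C q (pullback.snd p p) pullback.condition.symm
  let sumE : List (FunFld.Place k C.functionField) → FunFld.Divisor k C.functionField :=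
    fun E => (E.map fun R => Finsupp.single R (1 : ℤ)).sum
  choose N φ hN hφ using fun E : List (FunFld.Place k C.functionField) =>
    RationalTwist.exists_line h hK (B - sumE E)
  choose U hU using fun (E : List (FunFld.Place k C.functionField)) (m : ℕ) =>
    FamilyH0.exists_open_quot_h0_le k C q (Groth.PicAux.isInvertible_tensorMod hI₁ hI₂)
      (Groth.PicAux.isInvertible_pullback (pullback.fst p q : Pic13.prodK k C q ⟶ C) (hN E)) m
  have hpt : ∀ (x : Spec (CommRingCat.of k) ⟶ T) (hx : x ≫ q = 𝟙 _) (P Q : Pt C),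
      (x ≫ pullback.fst p p).ker = Scheme.IdealSheafData.vanishingIdeal ⟨{P.1}, P.2⟩ →
      (x ≫ pullback.snd p p).ker = Scheme.IdealSheafData.vanishingIdeal ⟨{Q.1}, Q.2⟩ →
      ∀ E m, x (IsLocalRing.closedPoint k) ∈ U E m ↔ FunFld.ell (B - sumE E +
        Finsupp.single (placeAt (k := k) h P) 1 + Finsupp.single (placeAt (k := k) h Q) 1) ≤ m := by
    intro x hx P Q hP hQ E m
    have hIP := exists_divEmb_pointIdeal (k := k) h P
    have hIQ := exists_divEmb_pointIdeal (k := k) h Q
    rw [← hP] at hIP
    rw [← hQ] at hIQ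
    obtain ⟨hiP, α₁, hα₁⟩ := hIP
    obtain ⟨hiQ, α₂, hα₂⟩ := hIQ
    obtain ⟨α, hα⟩ := exists_divEmb_tensor h hiP hiQ hα₁ hα₂
    obtain ⟨L, hL, hLe, hiff⟩ := hU E m x hx _ _
      ⟨(Groth.PicAux.exists_pullback_tensorMod _ _ _).choose ≪≫
        PicGrp.tensorModIso (hx₁ x hx).some (hx₂ x hx).some⟩
      (Groth.ZetaAn.ProdCurves.pullback_id_iso _ _ (pullback.lift_fst _ _ _) _)
    rw [hiff, FamilyH0.finrank_h0_of_tensor_iso h hK hL
      (Groth.PicAux.isInvertible_tensorMod hiP hiQ) (hN E) hα (hφ E) hLe]
    rw [show B - sumE E - (-(Finsupp.single (placeAt (k := k) h P) 1) +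
        -(Finsupp.single (placeAt (k := k) h Q) 1)) = B - sumE E +
        Finsupp.single (placeAt (k := k) h P) 1 + Finsupp.single (placeAt (k := k) h Q) 1 by abel]
  haveI : LocallyOfFiniteType q := inferInstance
  haveI : IsProper q := inferInstance
  haveI : IsLocallyNoetherian T := LocallyOfFiniteType.isLocallyNoetherian q
  haveI : CompactSpace T := QuasiCompact.compactSpace_of_compactSpace q
  haveI : IsNoetherian T := {}
  haveI : JacobsonSpace T := LocallyOfFiniteType.jacobsonSpace q
  have hd : topologicalKrullDim T ≤ ((2 : ℕ) : WithBot ℕ∞) := by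
    rw [Groth.FBaseGeom.dim_prod, h.dim]
    rfl
  have hcoord : ∀ t : T, ∃ P Q : Pt C, t ∈ closedPoints T →
      ∃ (x : Spec (CommRingCat.of k) ⟶ T), x ≫ q = 𝟙 _ ∧ x (IsLocalRing.closedPoint k) = t ∧
      (x ≫ pullback.fst p p).ker = Scheme.IdealSheafData.vanishingIdeal ⟨{P.1}, P.2⟩ ∧
      (x ≫ pullback.snd p p).ker = Scheme.IdealSheafData.vanishingIdeal ⟨{Q.1}, Q.2⟩ := by
    intro t
    by_cases ht : t ∈ closedPoints T
    · let x := pointOfClosedPoint q t ht
      have hx : x ≫ q = 𝟙 _ := pointOfClosedPoint_comp q t ht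
      obtain ⟨P, -, -, hP⟩ := Groth.Agent.S17807.exists_point k C h (x ≫ pullback.fst p p)
        (by rw [Category.assoc]; exact hx)
      obtain ⟨Q, -, -, hQ⟩ := Groth.Agent.S17807.exists_point k C h (x ≫ pullback.snd p p)
        (by rw [Category.assoc, ← pullback.condition]; exact hx)
      exact ⟨P, Q, fun _ => ⟨x, hx, pointOfClosedPoint_apply q t ht _, hP, hQ⟩⟩
    · obtain ⟨P₀⟩ := hF.nonempty_place
      obtain ⟨P, -⟩ := placeAt_surjective (k := k) h P₀
      exact ⟨P, P, fun h' => absurd h' ht⟩
  choose P Q hcoord using hcoord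
  let f : List (FunFld.Place k C.functionField) → T → ℕ := fun E t => FunFld.ell (B - sumE E +
    Finsupp.single (placeAt (k := k) h (P t)) 1 + Finsupp.single (placeAt (k := k) h (Q t)) 1)
  have hmem : ∀ E m, ∀ t ∈ closedPoints T, t ∈ ((U E m : Set T))ᶜ ↔ m < f E t := by
    intro E m t ht
    obtain ⟨x, hx, hxt, hP, hQ⟩ := hcoord t ht
    rw [Set.mem_compl_iff, SetLike.mem_coe, ← hxt, hpt x hx _ _ hP hQ E m, hxt, not_le]
  obtain ⟨E, hlen, hE⟩ := exists_iterate hd f M (fun E m => (U E m : Set T)ᶜ)
    (fun E m => (U E m).isOpen.isClosed_compl) hmem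
    (fun t _ => by simpa [f, sumE] using hM (placeAt (k := k) h (P t)) (placeAt (k := k) h (Q t)))
    (fun E R t _ => ell_mono hF (by
      simp only [sumE, List.map_cons, List.sum_cons]
      have : (0 : FunFld.Divisor k C.functionField) ≤ Finsupp.single R 1 :=
        Finsupp.single_nonneg.mpr zero_le_one
      intro S
      simp only [Finsupp.add_apply, Finsupp.sub_apply]
      have := this S
      simp only [Finsupp.coe_zero, Pi.zero_apply] at this
      omega))
    (fun E F _ => by
      let D : T → FunFld.Divisor k C.functionField := fun t => B - sumE E +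
        Finsupp.single (placeAt (k := k) h (P t)) 1 + Finsupp.single (placeAt (k := k) h (Q t)) 1
      have hz : ∀ t, ∃ z : C.functionField, 0 < f E t → z ≠ 0 ∧ 0 ≤ D t + FunFld.div k z := by
        intro t
        by_cases hpos : 0 < f E t
        · obtain ⟨z, hz⟩ := hF.exists_effective_of_ne_bot (D := D t) fun hb => by
            change 0 < Module.finrank k (FunFld.L (D t)) at hpos
            rw [hb, finrank_bot] at hpos
            exact lt_irrefl _ hpos
          exact ⟨z, fun _ => hz⟩
        · exact ⟨0, fun h' => absurd h' hpos⟩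
      choose z hz using hz
      haveI := infinite_place (k := k) hF
      obtain ⟨R, hR⟩ := Infinite.exists_notMem_finset
        (F.biUnion fun t => (D t + FunFld.div k (z t)).support)
      refine ⟨R, fun t ht hpos => ?_⟩
      have hQ : R ∉ (D t + FunFld.div k (z t)).support :=
        fun hc => hR (Finset.mem_biUnion.mpr ⟨t, ht, hc⟩)
      rw [Finsupp.notMem_support_iff] at hQ
      obtain ⟨hz1, hz2⟩ := hz t hpos
      have hle : D t - Finsupp.single R 1 ≤ D t :=
        sub_le_self _ (Finsupp.single_nonneg.mpr zero_le_one)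
      have hne : FunFld.ell (D t - Finsupp.single R 1) ≠ FunFld.ell (D t) := fun he => by
        haveI := hF.finiteDimensional_L (D t)
        have heq := Submodule.eq_of_le_of_finrank_eq (Groth.FunFld1.L_mono hle) he
        have hmem : z t ∈ FunFld.L (D t - Finsupp.single R 1) :=
          heq.symm ▸ (hF.mem_L_iff hz1).mpr hz2
        have := (hF.mem_L_iff hz1).mp hmem R
        simp only [Finsupp.coe_zero, Pi.zero_apply, Finsupp.add_apply, Finsupp.sub_apply,
          Finsupp.single_eq_same] at this hQ
        omega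
      have hfR : f (R :: E) t = FunFld.ell (D t - Finsupp.single R 1) := by
        simp only [f, D, sumE, List.map_cons, List.sum_cons]
        congr 1
        abel
      rw [hfR]
      exact lt_of_le_of_ne (ell_mono hF hle) hne)
  refine ⟨sumE E, ?_, fun P' Q' => ?_⟩
  · have : ∀ l : List (FunFld.Place k C.functionField),
        FunFld.Divisor.deg (sumE l) = l.length := by
      intro l
      induction l with
      | nil => simp [sumE, Groth.FunFld1.deg_zero]
      | cons a l ih =>
        simp only [sumE, List.map_cons, List.sum_cons] at ih ⊢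
        rw [Groth.FunFld1.deg_add, Groth.FunFld1.deg_single,
          Groth.FunFld1.deg_eq_one_of_isAlgClosed hF, ih, List.length_cons]
        push_cast
        ring
    rw [this, hlen]
    push_cast
    rfl
  · obtain ⟨a, rfl⟩ := placeAt_surjective (k := k) h P'
    obtain ⟨b, rfl⟩ := placeAt_surjective (k := k) h Q'
    obtain ⟨s₁, hs₁, hk₁⟩ := FamilyH0.exists_section (k := k) h a
    obtain ⟨s₂, hs₂, hk₂⟩ := FamilyH0.exists_section (k := k) h b
    let x : Spec (CommRingCat.of k) ⟶ T := pullback.lift s₁ s₂ (hs₁.trans hs₂.symm)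
    have hx : x ≫ q = 𝟙 _ := by rw [← Category.assoc, pullback.lift_fst, hs₁]
    have htc : x (IsLocalRing.closedPoint k) ∈ closedPoints T := by
      haveI := Groth.ZetaAn.ProdCurves.isClosedImmersion_of_over' q x hx
      have hr : Set.range x = {x (IsLocalRing.closedPoint k)} := by
        ext z
        simp only [Set.mem_range, Set.mem_singleton_iff]
        exact ⟨fun ⟨y, hy⟩ => hy ▸ congrArg x (Subsingleton.elim y _), fun e => ⟨_, e.symm⟩⟩
      show IsClosed _
      rw [← hr]
      exact x.isClosedEmbedding.isClosed_range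
    obtain ⟨x', hx', hxt, hP, hQ⟩ := hcoord _ htc
    have hiff := hpt x hx a b (by rw [pullback.lift_fst]; exact hk₁)
      (by rw [pullback.lift_snd]; exact hk₂) E 0
    rw [← hxt, hpt x' hx' _ _ hP hQ E 0] at hiff
    exact Nat.le_zero.mp (hiff.mp (hE _ htc).le)

end Curve

end Groth.CurveBridge.GeneralTwist
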