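import Groth.Agent.CurveBridge.ImmField
import Groth.Prelude.Def_LefPen

/-!
When the image of an integral scheme in projective space is a hypersurface.
-/

set_option linter.style.haveILetI false
set_option linter.unusedSectionVars false

universe u

open CategoryTheory AlgebraicGeometry Opposite TopologicalSpace
open Groth.PicAux Groth.Chow

namespace Groth.CurveBridge.HypImage

variable {k : Type u} [Field k] {X : Scheme.{u}} [X.Over (Spec (CommRingCat.of k))] [IsIntegral X]
  {n : ℕ}

theorem subsingleton_of_notMem {U : X.Opens} (h : genericPoint X ∉ U) : Subsingleton Γ(X, U) := by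
  have : U = ⊥ := by
    refine Opens.ext (Set.eq_empty_iff_forall_notMem.mpr fun x hx => h ?_)
    exact (genericPoint_specializes x).mem_open U.2 hx
  rw [this]
  infer_instance

variable {r : X ⟶ CohB1.ProjSpace n k} {L : X.Modules} {s : Fin (n + 1) → ProjUP.Γm L}
  (hU : ⨆ i, ToPn.U L s i = ⊤)
  (hr : ∀ i, (ToPn.U L s i).ι ≫ r = ToPn.rU (X ↘ Spec (CommRingCat.of k)) L s i)
  {v : Fin (n + 1) → X.functionField} (hv : ∀ j, v j ≠ 0)
  (hc : ∀ j l, ∀ hη : genericPoint X ∈ ToPn.U L s j,
    X.presheaf.germ (ToPn.U L s j) (genericPoint X) hη (ToPn.c L s j l) = v l / v j)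
  (hη : ∀ j, genericPoint X ∈ ToPn.U L s j)
include hU hr hv hc hη

theorem germ_app_mk (j : Fin (n + 1)) (d : ℕ) (p : MvPolynomial (Fin (n + 1)) k)
    (hp : p ∈ CohB1.polyGrading n k (d • 1)) (hj : genericPoint X ∈ r ⁻¹ᵁ LefPen.chart n k j) :
    X.presheaf.germ (r ⁻¹ᵁ LefPen.chart n k j) (genericPoint X) hj
      (r.app (LefPen.chart n k j) (Proj.awayToSection (CohB1.polyGrading n k) (MvPolynomial.X j)
        (HomogeneousLocalization.Away.mk _ (ToPn.X_mem j) d p hp))) * v j ^ d =
      MvPolynomial.aeval v p := by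
  have he := ToPn.appLE_awayToSection hr j (ToPn.preimage_D hr hU j).ge
    (HomogeneousLocalization.Away.mk _ (ToPn.X_mem j) d p hp)
  have h1 := congrArg (X.presheaf.germ (ToPn.U L s j) (genericPoint X) (hη j)) he
  have h2 : ∀ w, X.presheaf.germ (r ⁻¹ᵁ LefPen.chart n k j) (genericPoint X) hj
      (r.app (LefPen.chart n k j) w) = X.presheaf.germ (ToPn.U L s j) (genericPoint X) (hη j)
        (r.appLE (LefPen.chart n k j) (ToPn.U L s j) (ToPn.preimage_D hr hU j).ge w) := fun w =>
    (TopCat.Presheaf.germ_res_apply X.presheaf _ (genericPoint X) (hη j) _).symm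
  rw [h2]
  refine (congrArg (· * v j ^ d) h1).trans ?_
  rw [ToPn.α, ToPn.chart_mk]
  refine (congrArg (· * v j ^ d)
    (MvPolynomial.eval₂_comp_left (X.presheaf.germ (ToPn.U L s j) (genericPoint X) (hη j)).hom _ _ p)).trans ?_
  have hf : (X.presheaf.germ (ToPn.U L s j) (genericPoint X) (hη j)).hom.comp
      (ToPn.baseMap (X ↘ Spec (CommRingCat.of k)) L s j) = algebraMap k X.functionField :=
    RingHom.ext fun a => TopCat.Presheaf.germ_res_apply X.presheaf _ (genericPoint X) (hη j) _
  have hb : (X.presheaf.germ (ToPn.U L s j) (genericPoint X) (hη j)).hom ∘ ToPn.c L s j =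
      fun l => (v j)⁻¹ * v l := funext fun l => (hc j l (hη j)).trans (by rw [div_eq_mul_inv, mul_comm])
  rw [hf, hb]
  have hp' : p ∈ CohB1.polyGrading n k d := by simpa using hp
  rw [ToPn.eval₂_scale _ v (v j)⁻¹ hp', mul_comm, ← mul_assoc, ← mul_pow, mul_inv_cancel₀ (hv j),
    one_pow, one_mul]
  rfl

/-- If the forms vanishing at the generic point are the multiples of `G`, the image is `V₊(G)`. -/
theorem ker_eq_hypIdeal [QuasiCompact r] {m : ℕ} (G : LefPen.Form n k m)
    (hG : MvPolynomial.aeval v (G : MvPolynomial (Fin (n + 1)) k) = 0)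
    (hdiv : ∀ (d : ℕ) (p : MvPolynomial (Fin (n + 1)) k), p ∈ CohB1.polyGrading n k d →
      MvPolynomial.aeval v p = 0 → (G : MvPolynomial (Fin (n + 1)) k) ∣ p) :
    LefPen.hypIdeal G = r.ker := by
  have hjη : ∀ j, genericPoint X ∈ r ⁻¹ᵁ LefPen.chart n k j := fun j =>
    (ToPn.preimage_D hr hU j).ge (hη j)
  have hzero : ∀ j, r.app (LefPen.chart n k j) (LefPen.dehom G j) = 0 := fun j => by
    refine germ_injective_of_isIntegral X (genericPoint X) (hjη j) ?_
    rw [map_zero]
    have := germ_app_mk hU hr hv hc hη j m G.1 (by rw [smul_eq_mul, mul_one]; exact G.2) (hjη j)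
    rw [hG] at this
    exact (mul_eq_zero.mp this).resolve_right (pow_ne_zero _ (hv j))
  apply le_antisymm
  · rw [Scheme.Hom.ker, Scheme.IdealSheafData.le_ofIdeals_iff]
    intro U t ht
    have ht' : t ∈ LefPen.hypFamily G U := Scheme.IdealSheafData.ideal_ofIdeals_le _ U ht
    rw [RingHom.mem_ker]
    by_cases hUη : genericPoint X ∈ r ⁻¹ᵁ U.1
    · refine germ_injective_of_isIntegral X (genericPoint X) hUη ?_
      rw [map_zero]
      obtain ⟨a, ha⟩ := Ideal.mem_span_singleton.mp (Ideal.mem_comap.mp (Submodule.mem_iInf _ |>.mp ht' 0))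
      have hV : genericPoint X ∈ r ⁻¹ᵁ (U.1 ⊓ LefPen.chart n k 0) := ⟨hUη, hjη 0⟩
      have nat : ∀ (W : (CohB1.ProjSpace n k).Opens) (hle : U.1 ⊓ LefPen.chart n k 0 ≤ W)
          (w : Γ(CohB1.ProjSpace n k, W)),
          X.presheaf.germ (r ⁻¹ᵁ (U.1 ⊓ LefPen.chart n k 0)) (genericPoint X) hV
            (r.app _ ((CohB1.ProjSpace n k).presheaf.map (homOfLE hle).op w)) =
          X.presheaf.germ (r ⁻¹ᵁ W) (genericPoint X) (hle hV) (r.app W w) := fun W hle w => by
        rw [← CategoryTheory.comp_apply ((CohB1.ProjSpace n k).presheaf.map _) (r.app _),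
          Scheme.Hom.naturality]
        exact TopCat.Presheaf.germ_res_apply X.presheaf _ _ hV _
      have h1 := congrArg (fun w => X.presheaf.germ (r ⁻¹ᵁ (U.1 ⊓ LefPen.chart n k 0)) (genericPoint X) hV
        (r.app _ w)) ha
      simp only [map_mul] at h1
      rw [nat U.1 inf_le_left t, nat (LefPen.chart n k 0) inf_le_right, hzero 0, map_zero, zero_mul] at h1
      exact h1
    · haveI := subsingleton_of_notMem hUη
      exact Subsingleton.elim _ _
  · rw [LefPen.hypIdeal, Scheme.IdealSheafData.le_ofIdeals_iff]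
    intro U t ht
    refine Submodule.mem_iInf _ |>.mpr fun j => Ideal.mem_comap.mpr ?_
    haveI : (CohB1.ProjSpace n k).IsSeparated := ⟨by
      rw [show Limits.terminal.from (CohB1.ProjSpace n k) = CohB1.ProjSpace.toSpec n k ≫
        Limits.terminal.from _ from Limits.terminal.hom_ext _ _]
      infer_instance⟩
    have hD : IsAffineOpen (X := CohB1.ProjSpace n k) (LefPen.chart n k j) :=
      Proj.isAffineOpen_basicOpen (CohB1.polyGrading n k) _ (ToPn.X_mem j) one_pos
    have hUD : IsAffineOpen (U.1 ⊓ LefPen.chart n k j) := U.2.inf hD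
    have h1 : (CohB1.ProjSpace n k).presheaf.map (homOfLE (inf_le_left : U.1 ⊓ LefPen.chart n k j ≤ U.1)).op t
        ∈ r.ker.ideal ⟨_, hUD⟩ := by
      rw [← r.ker.map_ideal (U := ⟨_, hUD⟩) (V := U) (inf_le_left (a := U.1) (b := LefPen.chart n k j))]
      exact Ideal.mem_map_of_mem _ ht
    rw [← r.ker.map_ideal (U := ⟨_, hUD⟩) (V := ⟨_, hD⟩) (inf_le_right (a := U.1) (b := LefPen.chart n k j))] at h1
    suffices hle : r.ker.ideal ⟨_, hD⟩ ≤ Ideal.span {LefPen.dehom G j} by
      have h2 := Ideal.map_mono hle h1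
      rwa [Ideal.map_span, Set.image_singleton] at h2
    intro z hz
    rw [Scheme.Hom.ker_apply, RingHom.mem_ker] at hz
    obtain ⟨w, rfl⟩ : ∃ w, Proj.awayToSection (CohB1.polyGrading n k) (MvPolynomial.X j) w = z :=
      (ConcreteCategory.bijective_of_isIso
        (Proj.basicOpenIsoAway (CohB1.polyGrading n k) (MvPolynomial.X j) (ToPn.X_mem j) one_pos).hom).2 z
    obtain ⟨d, p, hp, rfl⟩ := HomogeneousLocalization.Away.mk_surjective _ (ToPn.X_mem j) w
    have hzero' : MvPolynomial.aeval v p = 0 := by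
      rw [← germ_app_mk hU hr hv hc hη j d p hp (hjη j)]
      erw [hz]
      rw [map_zero, zero_mul]
    have hp' : p ∈ CohB1.polyGrading n k d := by simpa using hp
    obtain ⟨q, hq⟩ := hdiv d p hp' hzero'
    -- the part of `q` of degree `d` after multiplying by `X_j ^ m`
    have hh : MvPolynomial.IsHomogeneous (p * MvPolynomial.X j ^ m) (d + m) :=
      MvPolynomial.IsHomogeneous.mul hp' (by simpa using (MvPolynomial.isHomogeneous_X k j).pow m)
    set q' := MvPolynomial.homogeneousComponent d (q * MvPolynomial.X j ^ m) with hq'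
    have hq'h : q' ∈ CohB1.polyGrading n k d := MvPolynomial.homogeneousComponent_mem _ _
    have hfac : (G : MvPolynomial (Fin (n + 1)) k) * q' = p * MvPolynomial.X j ^ m := by
      classical
      set Q := q * MvPolynomial.X j ^ m
      have e1 : p * MvPolynomial.X j ^ m = (G : MvPolynomial (Fin (n + 1)) k) * Q := by
        rw [hq, mul_assoc]
      have e2 := congrArg (MvPolynomial.homogeneousComponent (d + m)) e1
      rw [MvPolynomial.homogeneousComponent_of_mem hh, if_pos rfl, ← MvPolynomial.sum_homogeneousComponent Q,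
        Finset.mul_sum, map_sum] at e2
      have hcomp : ∀ e, (G : MvPolynomial (Fin (n + 1)) k) * MvPolynomial.homogeneousComponent e Q ∈
          MvPolynomial.homogeneousSubmodule (Fin (n + 1)) k (m + e) := fun e =>
        MvPolynomial.IsHomogeneous.mul G.2 (MvPolynomial.homogeneousComponent_isHomogeneous e Q)
      rw [e2, Finset.sum_eq_single d]
      · rw [MvPolynomial.homogeneousComponent_of_mem (hcomp d), if_pos (add_comm d m)]
      · intro e _ he
        rw [MvPolynomial.homogeneousComponent_of_mem (hcomp e), if_neg (by omega)]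
      · intro hnot
        rw [MvPolynomial.homogeneousComponent_eq_zero d Q (by
          simp only [Finset.mem_range] at hnot; omega), mul_zero, map_zero]
    rw [Ideal.mem_span_singleton]
    refine ⟨Proj.awayToSection (CohB1.polyGrading n k) (MvPolynomial.X j)
      (HomogeneousLocalization.Away.mk _ (ToPn.X_mem j) d q' (by simpa using hq'h)), ?_⟩
    rw [LefPen.dehom]
    refine (congrArg _ ?_).trans (map_mul _ _ _)
    apply HomogeneousLocalization.val_injective
    rw [HomogeneousLocalization.val_mul, HomogeneousLocalization.Away.val_mk,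
      HomogeneousLocalization.Away.val_mk, HomogeneousLocalization.Away.val_mk, Localization.mk_mul,
      Localization.mk_eq_mk_iff, Localization.r_iff_exists]
    refine ⟨1, ?_⟩
    simp only [OneMemClass.coe_one, one_mul, Submonoid.coe_mul]
    rw [hfac]
    ring

end Groth.CurveBridge.HypImage
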