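import Groth.Agent.CurveBridge.BarImm

/-!
Closed immersions by a basis of a Riemann–Roch space, over any field.
-/

set_option linter.style.haveILetI false
set_option linter.unusedSectionVars false

universe u

open CategoryTheory AlgebraicGeometry Opposite TopologicalSpace WithZero
open Groth.PicAux Groth.Chow Groth.FunFld1 Groth.PropsBasic.Ample

namespace Groth.CurveBridge

variable (k : Type u) [Field k] (X : Scheme.{u}) [X.Over (Spec (CommRingCat.of k))] [IsIntegral X]
  [IsProper (X ↘ Spec (CommRingCat.of k))] [Smooth (X ↘ Spec (CommRingCat.of k))]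
  (hdim : topologicalKrullDim X = 1)
  (h0 : Module.finrank k (Coh.HH X (Coh.structureModule X) 0) = 1)
include hdim h0

theorem exists_embedding_of_basis {n : ℕ} {D : FunFld.Divisor k X.functionField}
    (z : Fin (n + 1) → X.functionField) (hz : ∀ l, z l ∈ FunFld.L D) (hli : LinearIndependent k z)
    (hn : FunFld.ell D = n + 1)
    (hb : ∀ P, FunFld.ell (D - Finsupp.single P 1) < FunFld.ell D)
    (hsep : ∀ [IsIntegral (Xb k X)] (E : FunFld.Divisor (AlgebraicClosure k) (Xb k X).functionField),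
      E.deg = D.deg → FunFld.ell E = n + 1 →
        ∀ P Q, FunFld.ell (E - Finsupp.single P 1 - Finsupp.single Q 1) + 2 = FunFld.ell E) :
    ∃ (L : X.Modules) (φ : L ⟶ constK X) (s : Fin (n + 1) → ProjUP.Γm L)
      (r : X ⟶ CohB1.ProjSpace n k),
      (∀ l, zv φ (s l) = z l) ∧ (⨆ i, ToPn.U L s i = ⊤) ∧
      (∀ i, (ToPn.U L s i).ι ≫ r = ToPn.rU (X ↘ Spec (CommRingCat.of k)) L s i) ∧
      r ≫ CohB1.ProjSpace.toSpec n k = X ↘ Spec (CommRingCat.of k) ∧ IsClosedImmersion r := by
  classical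
  have h : IsRegCurve X := isRegCurve_of_smooth k X hdim
  haveI := isIntegral_bar k X h0
  have hbR : IsRegCurve (Xb k X) := isRegCurve_bar k X hdim
  have hK := isFunctionField_field k X hdim h0
  have hKb := isFunctionField (k := AlgebraicClosure k) (X := Xb k X) hbR.dim
  have hF := isFF k X hdim
  have hFb := isFF (AlgebraicClosure k) (Xb k X) hbR.dim
  obtain ⟨L, φ, U₀, hU₀, e₀, hL, -, hm, hD⟩ := exists_invertible_embedding (k := k) h D
  have hφ : IsDivEmb h φ D := ⟨hm, hD⟩
  haveI := hm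
  obtain ⟨s, hs, -⟩ := exists_sections h hK hL hφ z hz hli
  have hU : ⨆ i, ToPn.U L s i = ⊤ := by
    refine eq_top_iff.mpr fun y _ => Opens.mem_iSup.mpr ?_
    haveI := hF.finiteDimensional_L D
    have hspan : FunFld.L D ≤ Submodule.span k (Set.range z) := by
      refine (Submodule.eq_of_le_of_finrank_le (Submodule.span_le.mpr (by rintro _ ⟨l, rfl⟩; exact hz l)) ?_).ge
      rw [finrank_span_eq_card hli, Fintype.card_fin]
      exact hn.le
    have key : ∀ x : Pt X, ∃ l, x.1 ∈ ToPn.U L s l := fun x => by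
      set P := placeAt (k := k) h x with hP
      obtain ⟨w, hw, hwP⟩ := exists_val_eq_of_ell_lt hF (hb P)
      by_contra! hc
      have hlt : ∀ l, P.1 (z l) < exp (D P) := fun l => by
        refine lt_of_le_of_ne (hz l P) fun he => hc l ((mem_gloc_iff h hφ hL (s l) x).mpr ?_)
        rw [hs l, ← hP]; exact he
      obtain ⟨c, hc'⟩ := (Submodule.mem_span_range_iff_exists_fun k).mp (hspan hw)
      rw [← hc'] at hwP
      refine hwP.not_lt (Valuation.map_sum_lt _ exp_ne_zero fun l _ => ?_)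
      rw [Algebra.smul_def, map_mul]
      rcases eq_or_ne (c l) 0 with h00 | h00
      · rw [h00, map_zero, map_zero, zero_mul]; exact exp_pos
      · rw [Groth.FunFld1.val_algebraMap P h00, one_mul]; exact hlt l
    by_cases hy : y = genericPoint X
    · obtain ⟨P⟩ := hF.nonempty_place
      obtain ⟨x, -⟩ := placeAt_surjective (k := k) h P
      obtain ⟨l, hl'⟩ := key x
      exact ⟨l, hy ▸ (genericPoint_specializes x.1).mem_open (ToPn.U L s l).2 hl'⟩
    · exact key ⟨y, (isClosed_singleton_iff X h.dim y).mpr hy⟩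
  obtain ⟨r, hr⟩ := ToPn.exists_r (X ↘ Spec (CommRingCat.of k)) L s hU
  have hover := ToPn.r_toSpec hr hU
  refine ⟨L, φ, s, r, hs, hU, hr, hover, ?_⟩
  obtain ⟨τ, -⟩ := ToPn.exists_tau hr hU
  obtain ⟨Lb, sb, rb, hLb, hUb, ⟨eb⟩, hrb, hr', hci⟩ := BarImm.exists_bar_map k X n r hover
  have eL : Lb ≅ (Scheme.Modules.pullback (proj k X)).obj L :=
    eb.symm ≪≫ ((Scheme.Modules.pullbackComp (proj k X) r).app _).symm ≪≫
      (Scheme.Modules.pullback (proj k X)).mapIso τ
  obtain ⟨φL, D', hφL, e0', ed', -⟩ := exists_divEmb (k := AlgebraicClosure k) hbR hKb hLb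
  haveI := hφL.1
  haveI := (Groth.EulerDeg.isCoh_of_isInvertible hL).1
  obtain ⟨n0, nd, -⟩ := numerics_of_divEmb h hK hL hφ
  rw [Groth.EulerDeg.finrank_congr eL 0, finrank_bc k X L 0, n0, hn] at e0'
  rw [Groth.EulerDeg.deg_congr (AlgebraicClosure k) eL 1, deg_bc k X L 1, nd] at ed'
  refine hci.mp (isClosedImmersion_of_sep hbR sb hKb hφL hLb hr' hUb ?_ (hsep D' ed'.symm e0'.symm))
  have hne0 : zv φ (s 0) ≠ 0 := by rw [hs]; exact hli.ne_zero 0
  have hη : genericPoint X ∈ ToPn.U L s 0 := by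
    obtain ⟨j, hj⟩ := Opens.mem_iSup.mp (hU.ge (Set.mem_univ (genericPoint X)))
    have hm0 : genericPoint X ∈ X.basicOpen (ToPn.c L s j 0) :=
      (X.mem_basicOpen _ _ hj).mpr (isUnit_iff_ne_zero.mpr fun hz0 => hne0 (by
        rw [zv_coord s (φ := φ) j 0 hj, hz0, zero_mul]))
    rw [← ToPn.U_inf] at hm0
    exact hm0.1
  choose hηb hc using fun l => BarImm.germ_c_bar k X hU hr hUb hrb 0 l hη
  have hne0b : zv φL (sb 0) ≠ 0 := fun hz0 => by
    obtain ⟨P⟩ := hFb.nonempty_place
    obtain ⟨x, rfl⟩ := placeAt_surjective (k := AlgebraicClosure k) hbR P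
    obtain ⟨j, hj⟩ := Opens.mem_iSup.mp (hUb.ge (Set.mem_univ x.1))
    have h1 := (mem_gloc_iff hbR hφL hLb (sb j) x).mp hj
    rw [zv_coord sb (φ := φL) 0 j (hηb j), hz0, mul_zero, map_zero] at h1
    exact exp_ne_zero h1.symm
  have hlit : LinearIndependent k fun l => z l / z 0 := by
    exact hli.map' (LinearMap.mulRight k (z 0)⁻¹)
      (LinearMap.ker_eq_bot.mpr (mul_left_injective₀ (inv_ne_zero (hli.ne_zero 0))))
  have heq : ∀ l, zv φL (sb l) = BarField.incl k X (z l / z 0) * zv φL (sb 0) := fun l => by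
    rw [zv_coord sb (φ := φL) 0 l (hηb l), hc l, ← hs l, ← hs 0, zv_coord s (φ := φ) 0 l hη,
      mul_div_assoc, div_self hne0, mul_one]
  have hlib : LinearIndependent (AlgebraicClosure k) fun l => zv φL (sb l) := by
    rw [show (fun l => zv φL (sb l)) = fun l => BarField.incl k X (z l / z 0) * zv φL (sb 0) from funext heq]
    exact (BarField.linearIndependent_incl k X hlit).map'
      (LinearMap.mulRight (AlgebraicClosure k) (zv φL (sb 0)))
      (LinearMap.ker_eq_bot.mpr (mul_left_injective₀ hne0b))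
  haveI := hFb.finiteDimensional_L D'
  have hle : Submodule.span (AlgebraicClosure k) (Set.range fun l => zv φL (sb l)) ≤ FunFld.L D' :=
    Submodule.span_le.mpr (by rintro _ ⟨l, rfl⟩; exact zv_mem hbR hφL (sb l))
  refine (Submodule.eq_of_le_of_finrank_le hle ?_).ge
  rw [finrank_span_eq_card hlib, Fintype.card_fin]
  exact e0'.ge

end Groth.CurveBridge
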