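import Groth.Agent.CurveBridge.AutField
import Groth.Agent.CurveBridge.PencilMap

/-!
The function field of the line inside the function field of a double cover.
-/

set_option linter.style.haveILetI false
set_option linter.unusedSectionVars false
set_option backward.isDefEq.respectTransparency.types false

universe u

open CategoryTheory AlgebraicGeometry Opposite TopologicalSpace
open Groth.CurveBridge.AutField

namespace Groth.CurveBridge.LineField

variable {k : Type u} [Field k] {X : Scheme.{u}} [X.Over (Spec (CommRingCat.of k))] [IsIntegral X]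

/-- A finite flat map of rank two to the line: the subfield it defines and the endomorphisms over it. -/
theorem exists_double_field [IsProper (X ↘ Spec (CommRingCat.of k))] (h : IsRegCurve X)
    (f : X ⟶ CohB1.ProjSpace 1 k) [IsFinite f] [Flat f]
    (hf : f ≫ CohB1.ProjSpace.toSpec 1 k = X ↘ Spec (CommRingCat.of k))
    (hr : ∀ y : ↥(CohB1.ProjSpace 1 k), Scheme.Hom.finrank f y = 2) :
    f (genericPoint X) = genericPoint ↥(CohB1.ProjSpace 1 k) ∧
    ∃ t : X.functionField, Transcendental k t ∧
      Module.finrank (IntermediateField.adjoin k ({t} : Set X.functionField)) X.functionField = 2 ∧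
      ∀ (u : X ⟶ X) (hu : u (genericPoint X) = genericPoint X), u ≫ f = f →
        ∀ z ∈ IntermediateField.adjoin k ({t} : Set X.functionField), fieldMap u hu z = z := by
  obtain ⟨hfη, hres⟩ := DoubleCover.residueDegree_of_rank h f hr
  obtain ⟨t, ht⟩ := ToLine.range_eq_adjoin (k := k) f hf
  obtain ⟨ht2, -⟩ := ToLine.coordinate_of_range f ht
  rw [hres] at ht2
  refine ⟨hfη, t, ToLine.transcendental_of_finrank h.dim (by omega), ht2, fun u hu hcomp z hz => ?_⟩
  obtain ⟨w, rfl⟩ := ht.ge hz
  obtain ⟨b, rfl⟩ := IsLocalRing.residue_surjective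
    (R := (CohB1.ProjSpace 1 k).presheaf.stalk (f (genericPoint X))) w
  have key : (ToLine.genEquiv X).symm.toRingHom.comp (f.residueFieldMap (genericPoint X)).hom
      ((CohB1.ProjSpace 1 k).residue _ b) = (f.stalkMap (genericPoint X)).hom b :=
    (congrArg (ToLine.genEquiv X).symm
      (ConcreteCategory.congr_hom (Scheme.residue_residueFieldMap f (genericPoint X)) b)).trans
      ((ToLine.genEquiv X).symm_apply_apply _)
  change fieldMap u hu ((ToLine.genEquiv X).symm.toRingHom.comp (f.residueFieldMap (genericPoint X)).hom
      ((CohB1.ProjSpace 1 k).residue _ b)) = (ToLine.genEquiv X).symm.toRingHom.comp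
        (f.residueFieldMap (genericPoint X)).hom ((CohB1.ProjSpace 1 k).residue _ b)
  rw [key]
  have e : f.stalkMap (genericPoint X) ≫ fieldHom u hu = f.stalkMap (genericPoint X) := by
    refine Spec.map_injective ((cancel_mono ((CohB1.ProjSpace 1 k).fromSpecStalk (f (genericPoint X)))).mp ?_)
    rw [Spec.map_comp, Category.assoc, Scheme.SpecMap_stalkMap_fromSpecStalk, ← Category.assoc]
    change (Spec.map (fieldHom u hu) ≫ genMap) ≫ f = genMap ≫ f
    rw [spec_fieldHom, Category.assoc, hcomp]
  exact ConcreteCategory.congr_hom e b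

/-- An endomorphism over a map to the line keeps the generic point. -/
theorem map_generic_of_comp [IsProper (X ↘ Spec (CommRingCat.of k))] (h : IsRegCurve X)
    (f : X ⟶ CohB1.ProjSpace 1 k) [IsFinite f] (hfη : f (genericPoint X) = genericPoint ↥(CohB1.ProjSpace 1 k))
    (hP : topologicalKrullDim ↥(CohB1.ProjSpace 1 k) = 1) (u : X ⟶ X) (hu : u ≫ f = f) :
    u (genericPoint X) = genericPoint X := by
  by_contra hne
  have hc : IsClosed ({u (genericPoint X)} : Set X) :=
    (isClosed_singleton_iff X h.dim _).mpr hne
  have hc' := f.isClosedMap _ hc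
  rw [Set.image_singleton, ← Scheme.Hom.comp_apply, hu, hfη] at hc'
  exact Groth.Curves1.CurveMor.not_isClosed_genericPoint hP hc'

end Groth.CurveBridge.LineField
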