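import Groth.Agent.CurveBridge.Omega
import Groth.Agent.Chow.AmpleTwist

/-!
Maps between embedded invertible modules, linear equivalence and global generation.
-/

set_option linter.style.haveILetI false
set_option linter.unusedSectionVars false

universe u

open CategoryTheory AlgebraicGeometry Opposite TopologicalSpace WithZero
open Groth.PicAux

namespace Groth.CurveBridge

variable {X : Scheme.{u}} [IsIntegral X] {L M : X.Modules}

theorem inStalk_generic (φ : L ⟶ constK X) [Mono φ] (hL : PicF.IsInvertible L) (z : X.functionField) :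
    InStalk φ (genericPoint X) z := by
  obtain ⟨U, e, hU, he⟩ := (isInvertible_iff_exists_gen L).1 hL (genericPoint X)
  have hw : kv (generic_mem U hU) (φ.app U e) ≠ 0 := kv_gen_ne_zero φ hU he
  obtain ⟨a, ha⟩ := range_toFF_generic (X := X) (genericPoint X) rfl
    (z / kv (generic_mem U hU) (φ.app U e))
  exact (inStalk_iff_of_gen φ hU he z).mpr ⟨a, by rw [ha, div_mul_cancel₀ _ hw]⟩

/-- A rational function lying in all stalks over an open is the value of a section. -/
theorem exists_section_of_inStalk (ψ : M ⟶ constK X) [Mono ψ] (V : X.Opens) (z : X.functionField)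
    (hz : ∀ y ∈ V, InStalk ψ y z) :
    ∃ m : Γ(M, V), ∀ hV : genericPoint X ∈ V, kv hV (ψ.app V m) = z := by
  choose W hW m hm using fun y : V => hz y.1 y.2
  have hle : ∀ y : V, V ⊓ W y ≤ V := fun _ => inf_le_left
  have hcov : V ≤ ⨆ y : V, V ⊓ W y := fun y hy => Opens.mem_iSup.mpr ⟨⟨y, hy⟩, hy, hW _⟩
  obtain ⟨g, hg, -⟩ := res_glue (fun y : V => V ⊓ W y) hle hcov
    (fun y => res M (inf_le_right : V ⊓ W y ≤ W y) (m y)) fun i j => by
      refine app_injective ψ _ (constK_ext fun hU => ?_)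
      simp only [app_res, kv_res]
      rw [hm, hm]
  refine ⟨g, fun hV => ?_⟩
  obtain ⟨y, hy⟩ : ∃ y, y ∈ V := ⟨_, hV⟩
  have hη : genericPoint X ∈ V ⊓ W ⟨y, hy⟩ := ⟨hV, generic_mem _ (hW ⟨y, hy⟩)⟩
  have h1 := congrArg (fun s => kv hη (ψ.app (V ⊓ W ⟨y, hy⟩) s)) (hg ⟨y, hy⟩)
  rw [app_res, app_res, kv_res, kv_res, hm] at h1
  exact h1

/-- An inclusion of stalks gives a map of modules. -/
theorem exists_hom_of_inStalk (φ : L ⟶ constK X) (ψ : M ⟶ constK X) [Mono ψ]
    (hle : ∀ y : X, ∀ z, InStalk φ y z → InStalk ψ y z) :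
    ∃ α : L ⟶ M, α ≫ ψ = φ := by
  have key : ∀ (V : X.Opens) (m : Γ(L, V)), ∃ m' : Γ(M, V), ψ.app V m' = φ.app V m := by
    intro V m
    by_cases hV : genericPoint X ∈ V
    · obtain ⟨m', hm'⟩ := exists_section_of_inStalk ψ V (kv hV (φ.app V m))
        fun y hy => hle y _ ⟨V, hy, m, rfl⟩
      exact ⟨m', constK_ext fun hU => hm' hU⟩
    · exact ⟨0, constK_ext fun hU => absurd hU hV⟩
  choose g hg using key
  obtain ⟨α, hα⟩ := exists_hom_of_cover (U := fun _ : Unit => (⊤ : X.Opens)) (by simp)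
    (fun _ V _ m => g V m)
    (fun _ V _ x y => app_injective ψ V (by rw [hg, map_add, map_add, hg, hg]))
    (fun _ V _ r x => app_injective ψ V (by
      rw [hg, Scheme.Modules.Hom.app_smul, Scheme.Modules.Hom.app_smul, hg]))
    (fun _ V W _ h x => app_injective ψ W (by rw [app_res, hg, hg, app_res]))
    (fun _ _ _ _ _ _ => rfl)
  refine ⟨α, ?_⟩
  ext V m
  change ψ.app V (α.app V m) = φ.app V m
  rw [hα () V le_top, hg]

theorem nonempty_iso_of_inStalk (φ : L ⟶ constK X) [Mono φ] (ψ : M ⟶ constK X) [Mono ψ]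
    (heq : ∀ y : X, ∀ z, InStalk φ y z ↔ InStalk ψ y z) : Nonempty (L ≅ M) := by
  obtain ⟨α, hα⟩ := exists_hom_of_inStalk φ ψ fun y z => (heq y z).mp
  obtain ⟨β, hβ⟩ := exists_hom_of_inStalk ψ φ fun y z => (heq y z).mpr
  exact ⟨⟨α, β, by rw [← cancel_mono φ, Category.assoc, hβ, hα, Category.id_comp],
    by rw [← cancel_mono ψ, Category.assoc, hα, hβ, Category.id_comp]⟩⟩

variable {k : Type u} [Field k] [X.Over (Spec (CommRingCat.of k))]
  [IsProper (X ↘ Spec (CommRingCat.of k))] (h : IsRegCurve X)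
include h

/-- `D` is the divisor of the embedding `φ`. -/
def IsDivEmb (φ : L ⟶ constK X) (D : FunFld.Divisor k X.functionField) : Prop :=
  Mono φ ∧ ∀ (x : Pt X) z, InStalk φ x.1 z ↔
    (placeAt (k := k) h x).1 z ≤ exp (D (placeAt (k := k) h x))

theorem nonempty_iso_of_divEmb (hL : PicF.IsInvertible L) (hM : PicF.IsInvertible M)
    {φ : L ⟶ constK X} {ψ : M ⟶ constK X} {D : FunFld.Divisor k X.functionField}
    (hφ : IsDivEmb h φ D) (hψ : IsDivEmb h ψ D) : Nonempty (L ≅ M) := by
  haveI := hφ.1; haveI := hψ.1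
  refine nonempty_iso_of_inStalk φ ψ fun y z => ?_
  by_cases hy : y = genericPoint X
  · subst hy
    exact iff_of_true (inStalk_generic φ hL z) (inStalk_generic ψ hM z)
  · exact (hφ.2 ⟨y, (isClosed_singleton_iff X h.dim y).mpr hy⟩ z).trans
      (hψ.2 ⟨y, (isClosed_singleton_iff X h.dim y).mpr hy⟩ z).symm

/-- Scaling by a rational function shifts the divisor by a principal one. -/
theorem exists_divEmb_add_div {φ : L ⟶ constK X} {D : FunFld.Divisor k X.functionField}
    (hφ : IsDivEmb h φ D) {μ : X.functionField} (hμ : μ ≠ 0) :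
    ∃ ψ : L ⟶ constK X, IsDivEmb h ψ (D + FunFld.div k μ) := by
  haveI := hφ.1
  obtain ⟨ψ, hψ⟩ := exists_scale φ μ⁻¹
  refine ⟨ψ, ?_, fun x z => ?_⟩
  · rw [Groth.QCohMod.mono_iff_stalk]
    intro x
    refine (TopCat.Presheaf.app_injective_iff_stalkFunctor_map_injective
      (F := (⟨L.presheaf, L.isSheaf⟩ : TopCat.Sheaf Ab.{u} X)) (G := (constK X).presheaf)
      ((Scheme.Modules.toPresheaf X).map ψ)).mpr (fun U a b hab => ?_) x
    refine app_injective φ U (constK_ext fun hU => ?_)
    have := congrArg (kv hU) (show ψ.app U a = ψ.app U b from hab)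
    rw [hψ, hψ] at this
    exact mul_left_cancel₀ (inv_ne_zero hμ) this
  · have hiff : InStalk ψ x.1 z ↔ InStalk φ x.1 (μ * z) := by
      constructor
      · rintro ⟨W, hW, m, rfl⟩
        exact ⟨W, hW, m, by rw [hψ, mul_inv_cancel_left₀ hμ]⟩
      · rintro ⟨W, hW, m, hm⟩
        exact ⟨W, hW, m, by rw [hψ, hm, inv_mul_cancel_left₀ hμ]⟩
    rw [hiff, hφ.2, map_mul, Finsupp.add_apply, (isFF k X h.dim).div_apply,
      Groth.FunFld1.val_eq_exp_neg_ord _ hμ, exp_add, mul_comm (exp (-_)), ← le_div_iff₀ (exp_pos),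
      div_eq_mul_inv, ← exp_neg, neg_neg]

variable (hK : FunFld.IsFunctionField k X.functionField)
include hK

/-- An invertible module with an embedding, its divisor and the numerics. -/
theorem exists_divEmb (hL : PicF.IsInvertible L) :
    ∃ (φ : L ⟶ constK X) (D : FunFld.Divisor k X.functionField), IsDivEmb h φ D ∧
      Module.finrank k (Coh.HH X L 0) = FunFld.ell D ∧ Curv2.deg k X L 1 = D.deg ∧
      (Module.finrank k (Coh.HH X L 1) : ℤ) =
        (FunFld.ell D : ℤ) - (D.deg + 1 - Curv2.genus k X) := by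
  obtain ⟨U, e, hU, he⟩ := (isInvertible_iff_exists_gen L).1 hL (genericPoint X)
  obtain ⟨φ, hmono, hφ⟩ := exists_embedding hL hU he
  obtain ⟨D, hD⟩ := exists_divisor (k := k) φ h hL hU he hφ
  obtain ⟨e0⟩ := nonempty_h0_equiv φ h hU hφ hD
  obtain ⟨e1⟩ := nonempty_h1_equiv φ h hU hφ hD
  obtain ⟨-, hq⟩ := Groth.FunFld1.adele_quotient hK D
  rw [e1.finrank_eq, ← genus_eq h hK] at hq
  unfold Groth.FunFld1.delta at hq
  have h0 : Module.finrank k (Coh.HH X L 0) = FunFld.ell D := e0.finrank_eq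
  refine ⟨φ, D, ⟨hmono, hD⟩, h0, ?_, by linarith⟩
  unfold Curv2.deg
  rw [euler_structure h hK, Groth.EulerDeg.euler_eq_sub fun n hn => subsingleton_HH k h L hn, h0]
  push_cast
  linarith

/-- Invertible modules with linearly equivalent divisors are isomorphic. -/
theorem nonempty_iso_of_linEquiv (hL : PicF.IsInvertible L) (hM : PicF.IsInvertible M)
    {φ : L ⟶ constK X} {ψ : M ⟶ constK X} {D E : FunFld.Divisor k X.functionField}
    (hφ : IsDivEmb h φ D) (hψ : IsDivEmb h ψ E) {μ : X.functionField} (hμ : μ ≠ 0)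
    (he : E = D + FunFld.div k μ) : Nonempty (L ≅ M) := by
  obtain ⟨φ', hφ'⟩ := exists_divEmb_add_div h hφ hμ
  exact nonempty_iso_of_divEmb h hL hM hφ' (he ▸ hψ)

/-- Global generation from the absence of base places. -/
theorem isGloballyGenerated_of_no_base (hL : PicF.IsInvertible L) {φ : L ⟶ constK X}
    {D : FunFld.Divisor k X.functionField} (hφ : IsDivEmb h φ D)
    (hb : ∀ P, FunFld.ell (D - Finsupp.single P 1) < FunFld.ell D) :
    Curv2.IsGloballyGenerated L := by
  haveI := hφ.1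
  have key : ∀ x : Pt X, ∃ t : Γ(L, ⊤), x.1 ∈ Groth.PropsBasic.Ample.gloc t := by
    intro x
    set P := placeAt (k := k) h x with hP
    have hne : ¬ FunFld.L D ≤ FunFld.L (D - Finsupp.single P 1) := fun hle => by
      haveI := (isFF k X h.dim).finiteDimensional_L (D - Finsupp.single P 1)
      exact (hb P).not_ge (Submodule.finrank_mono hle)
    obtain ⟨z, hz, hzn⟩ := Set.not_subset.mp hne
    have hzP : P.1 z = exp (D P) := by
      refine le_antisymm (hz P) (not_lt.mp fun hlt => hzn fun Q => ?_)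
      by_cases hQ : P = Q
      · subst hQ
        rw [Finsupp.sub_apply, Finsupp.single_eq_same]
        rcases eq_or_ne (P.1 z) 0 with h0 | h0
        · rw [h0]; exact zero_le
        · rw [← exp_log h0, exp_lt_exp] at hlt
          rw [← exp_log h0, exp_le_exp]
          omega
      · rw [Finsupp.sub_apply, Finsupp.single_eq_of_ne (Ne.symm hQ), sub_zero]
        exact hz Q
    obtain ⟨t, ht⟩ := exists_section_of_inStalk φ ⊤ z fun y _ => by
      by_cases hy : y = genericPoint X
      · subst hy; exact inStalk_generic φ hL z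
      · exact (hφ.2 ⟨y, (isClosed_singleton_iff X h.dim y).mpr hy⟩ z).mpr (hz _)
    obtain ⟨U, e, hxU, he⟩ := (isInvertible_iff_exists_gen L).1 hL x.1
    obtain ⟨c, hc⟩ := he.exists_coeff le_rfl (res L (le_top : U ≤ ⊤) t)
    rw [res_self] at hc
    have hηU := generic_mem U hxU
    have h1 := congrArg (fun s => kv hηU (φ.app U s)) hc
    rw [app_res, kv_res, ht, Scheme.Modules.Hom.app_smul, kv_smul] at h1
    have hw : P.1 (kv hηU (φ.app U e)) ≤ exp (D P) := (hφ.2 x _).mp ⟨U, hxU, e, rfl⟩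
    have hc1 : IsUnit (X.presheaf.germ U x.1 hxU c) := by
      haveI := h.dvr (k := k) x
      by_contra hnu
      have hlt : P.1 (algebraMap (X.presheaf.stalk x.1) X.functionField
          (X.presheaf.germ U x.1 hxU c)) < 1 := by
        rw [hP, placeAt_lt_one_iff]
        exact (IsLocalRing.mem_maximalIdeal _).mpr hnu
      rw [germ_generic] at hlt
      have h2 := congrArg P.1 h1
      rw [hzP, map_mul] at h2
      have h3 := (mul_le_mul' le_rfl hw).trans_lt
        ((mul_lt_mul_of_pos_right hlt (exp_pos (a := D P))).trans_eq (one_mul _))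
      exact absurd h2.symm h3.ne
    refine ⟨t, ?_⟩
    have hmem : x.1 ∈ Groth.PropsBasic.Ample.gloc t ⊓ U := by
      rw [Groth.PropsBasic.Ample.gloc_inf_eq_basicOpen he hc, Scheme.mem_basicOpen X c x.1 hxU]
      exact hc1
    exact hmem.1
  refine Groth.Chow.isGloballyGenerated_of_cover (fun t : Γ(L, ⊤) => t) (eq_top_iff.mpr fun y _ =>
    Opens.mem_iSup.mpr ?_)
  by_cases hy : y = genericPoint X
  · obtain ⟨P⟩ := (isFF k X h.dim).nonempty_place
    obtain ⟨t, ht⟩ := key ((placeEquiv (k := k) h).symm P)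
    exact ⟨t, hy ▸ generic_mem _ ht⟩
  · exact key ⟨y, (isClosed_singleton_iff X h.dim y).mpr hy⟩

end Groth.CurveBridge
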