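import Groth.Agent.CurveBridge.Places
import Groth.Agent.PicAux.Integral
import Groth.Agent.QCohMod.Pullback
import Groth.Agent.EulerDeg.DimOne

/-!
The constant module of rational functions and the embedding of an invertible module.
-/

set_option linter.style.haveILetI false

universe u

open CategoryTheory AlgebraicGeometry Opposite TopologicalSpace
open Groth.PicAux

namespace Groth.CurveBridge

variable {X : Scheme.{u}} [IsIntegral X]

theorem generic_mem (U : X.Opens) {x : X} (hx : x ∈ U) : genericPoint X ∈ U :=
  (Groth.PropsBasic2.generic_specializes x).mem_open U.isOpen hx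

noncomputable instance : Module (X.presheaf.stalk (genericPoint X)) X.functionField :=
  inferInstanceAs (Module X.functionField X.functionField)

theorem generic_smul (a : X.presheaf.stalk (genericPoint X)) (z : X.functionField) :
    a • z = (show X.functionField from a) * z := rfl

theorem germ_generic (U : X.Opens) (x : X) (hx : x ∈ U) (r : Γ(X, U)) :
    algebraMap (X.presheaf.stalk x) X.functionField (X.presheaf.germ U x hx r) =
      X.presheaf.germ U (genericPoint X) (generic_mem U hx) r :=
  TopCat.Presheaf.germ_stalkSpecializes_apply X.presheaf hx _ r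

/-- The constant module of rational functions. -/
noncomputable def constK (X : Scheme.{u}) [IsIntegral X] : X.Modules :=
  Groth.QCohMod.sky (genericPoint X) X.functionField

/-- The value of a section of `constK X`. -/
noncomputable def kv {U : X.Opens} (hU : genericPoint X ∈ U) : Γ(constK X, U) →+ X.functionField where
  toFun s := (show Groth.QCohMod.SkyObj (genericPoint X) X.functionField U from s) ⟨hU⟩
  map_zero' := rfl
  map_add' _ _ := rfl

/-- The constant section. -/
noncomputable def ksec (U : X.Opens) : X.functionField →+ Γ(constK X, U) where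
  toFun z := (show Groth.QCohMod.SkyObj (genericPoint X) X.functionField U from fun _ => z)
  map_zero' := rfl
  map_add' _ _ := rfl

@[simp] theorem kv_ksec {U : X.Opens} (hU : genericPoint X ∈ U) (z : X.functionField) :
    kv hU (ksec U z) = z := rfl

theorem kv_res {U V : X.Opens} (h : V ≤ U) (hV : genericPoint X ∈ V) (s : Γ(constK X, U)) :
    kv hV (res (constK X) h s) = kv (h hV) s := rfl

theorem res_ksec {U V : X.Opens} (h : V ≤ U) (z : X.functionField) :
    res (constK X) h (ksec U z) = ksec V z := rfl

theorem constK_ext {U : X.Opens} {s t : Γ(constK X, U)}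
    (h : ∀ hU : genericPoint X ∈ U, kv hU s = kv hU t) : s = t :=
  funext fun hh : PLift.{0} (genericPoint X ∈ U) => h hh.down

theorem kv_injective {U : X.Opens} (hU : genericPoint X ∈ U) : Function.Injective (kv hU) :=
  fun _ _ h => constK_ext fun _ => h

theorem kv_smul {U : X.Opens} (hU : genericPoint X ∈ U) (r : Γ(X, U)) (s : Γ(constK X, U)) :
    kv hU (r • s) = X.presheaf.germ U (genericPoint X) hU r * kv hU s := rfl

theorem ksec_smul {U : X.Opens} (hU : genericPoint X ∈ U) (r : Γ(X, U)) (z : X.functionField) :
    r • ksec U z = ksec U (X.presheaf.germ U (genericPoint X) hU r * z) :=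
  constK_ext fun _ => rfl

theorem isFlasque_constK : TopCat.Sheaf.IsFlasque (Coh.toAb (constK X)) := by
  refine ⟨fun {U V} i => (AddCommGrpCat.epi_iff_surjective _).2 fun s => ?_⟩
  by_cases h : genericPoint X ∈ V.unop
  · exact ⟨ksec U.unop (kv h (show Γ(constK X, V.unop) from s)), constK_ext (U := V.unop) fun _ => rfl⟩
  · exact ⟨0, constK_ext (U := V.unop) fun hV => absurd hV h⟩

theorem subsingleton_HH_constK (n : ℕ) : Subsingleton (Coh.HH X (constK X) (n + 1)) :=
  haveI := isFlasque_constK (X := X)
  Groth.SiteCohomology.subsingleton_H_succ_of_flasque (X := X.toTopCat) (Coh.toAb (constK X)) n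

theorem germ_resX' {U V : X.Opens} (h : V ≤ U) (x : X) (hx : x ∈ V) (r : Γ(X, U)) :
    X.presheaf.germ V x hx (resX X h r) = X.presheaf.germ U x (h hx) r :=
  TopCat.Presheaf.germ_res_apply X.presheaf (homOfLE h) x hx r

/-- An invertible module embeds in the rational functions, a chosen local basis going to one. -/
theorem exists_embedding {L : X.Modules} (hL : PicF.IsInvertible L) {U₀ : X.Opens}
    (hU₀ : genericPoint X ∈ U₀) {e₀ : Γ(L, U₀)} (he₀ : Gen L U₀ e₀) :
    ∃ φ : L ⟶ constK X, Mono φ ∧ φ.app U₀ e₀ = ksec U₀ 1 := by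
  choose c hc using fun (V : X.Opens) (m : Γ(L, V)) =>
    he₀.exists_coeff (inf_le_right : V ⊓ U₀ ≤ U₀) (res L (inf_le_left : V ⊓ U₀ ≤ V) m)
  let t : ∀ (V : X.Opens), genericPoint X ∈ V → (Γ(L, V) →+ X.functionField) := fun V hV =>
    AddMonoidHom.mk' (fun m => X.presheaf.germ (V ⊓ U₀) (genericPoint X) ⟨hV, hU₀⟩ (c V m))
      fun m m' => by
        rw [← map_add]
        congr 1
        refine he₀.smul_inj inf_le_right ?_
        rw [add_smul, ← hc, ← hc, ← hc, res_add]
  have hres : ∀ (U V : X.Opens) (h : V ≤ U) (hx : genericPoint X ∈ V) (m : Γ(L, U)),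
      t V hx (res L h m) = t U (h hx) m := by
    intro U V h hx m
    show X.presheaf.germ _ _ _ _ = X.presheaf.germ _ _ _ _
    have e : c V (res L h m) = resX X (inf_le_inf_right U₀ h) (c U m) := by
      refine he₀.smul_inj inf_le_right ?_
      rw [← hc, ← res_res (inf_le_right : U ⊓ U₀ ≤ U₀) (inf_le_inf_right U₀ h), ← res_smul, ← hc,
        res_res, res_res]
    rw [e, germ_resX']
  have hsmul : ∀ (U : X.Opens) (hx : genericPoint X ∈ U) (r : Γ(X, U)) (m : Γ(L, U)),
      t U hx (r • m) = X.presheaf.germ U (genericPoint X) hx r • t U hx m := by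
    intro U hx r m
    rw [generic_smul]
    show X.presheaf.germ _ _ _ _ = _ * X.presheaf.germ _ _ _ _
    have e : c U (r • m) = resX X inf_le_left r * c U m := by
      refine he₀.smul_inj inf_le_right ?_
      rw [← hc, mul_smul, ← hc, res_smul]
    rw [e, map_mul, germ_resX']
  let φ : L ⟶ constK X := Groth.QCohMod.toSky L t hres hsmul
  have hφ : ∀ (U : X.Opens) (hU : genericPoint X ∈ U) (m : Γ(L, U)), kv hU (φ.app U m) = t U hU m :=
    fun U hU m => rfl
  refine ⟨φ, ?_, constK_ext fun hU => ?_⟩
  · have hinj : ∀ U : X.Opens, Function.Injective (φ.app U) := by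
      intro U
      refine (injective_iff_map_eq_zero _).mpr fun m hm => ?_
      by_cases hU : genericPoint X ∈ U
      · have h0 := hφ U hU m
        rw [hm, map_zero] at h0
        have h1 : c U m = 0 := germ_injective_of_isIntegral X (U := U ⊓ U₀) (genericPoint X) ⟨hU, hU₀⟩
          (by rw [map_zero]; exact h0.symm)
        refine inv_sec_eq_zero hL (inf_le_left : U ⊓ U₀ ≤ U) ⟨⟨_, hU, hU₀⟩⟩ m ?_
        rw [hc, h1, zero_smul]
      · have hb : U = ⊥ := by
          rw [← Opens.not_nonempty_iff_eq_bot]
          exact fun ⟨x, hx⟩ => hU (generic_mem U hx)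
        subst hb
        exact res_ext (ι := Empty) (fun i => i.elim) (fun i => i.elim) bot_le (fun i => i.elim)
    rw [Groth.QCohMod.mono_iff_stalk]
    intro x
    exact (TopCat.Presheaf.app_injective_iff_stalkFunctor_map_injective
      (F := (⟨L.presheaf, L.isSheaf⟩ : TopCat.Sheaf Ab.{u} X)) (G := (constK X).presheaf)
      ((Scheme.Modules.toPresheaf X).map φ)).mpr hinj x
  · rw [hφ, kv_ksec]
    show X.presheaf.germ _ _ _ _ = 1
    have e : c U₀ e₀ = 1 := he₀.smul_inj inf_le_right (by rw [← hc, one_smul])
    rw [e, map_one]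

end Groth.CurveBridge
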