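import Groth.Agent.CurveBridge.Differentials
import Groth.Agent.CurveBridge.Meromorphic
import Groth.Agent.CurveBridge.Main
import Groth.Agent.Variety2.OmegaRank
import Groth.Agent.LocFree.Basic

/-!
The differentials of a smooth curve over an algebraically closed field are invertible.
-/

set_option linter.style.haveILetI false
set_option linter.unusedSectionVars false

universe u

open CategoryTheory AlgebraicGeometry Opposite TopologicalSpace
open Groth.PicAux

namespace Groth.CurveBridge

variable {k : Type u} [Field k] {X : Scheme.{u}} [X.Over (Spec (CommRingCat.of k))] [IsIntegral X]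

theorem base_open_eq_top (f : X ⟶ Spec (CommRingCat.of k)) {x : X} {V : (Spec (CommRingCat.of k)).Opens}
    (hx : x ∈ f ⁻¹ᵁ V) : V = ⊤ := by
  refine eq_top_iff.mpr fun y _ => ?_
  haveI : Subsingleton (Spec (CommRingCat.of k) : Scheme.{u}) :=
    inferInstanceAs (Subsingleton (PrimeSpectrum k))
  rw [Subsingleton.elim y (f x)]
  exact hx

theorem exists_const_section (f : X ⟶ Spec (CommRingCat.of k)) {x : X}
    {V : (Spec (CommRingCat.of k)).Opens} (hx : x ∈ f ⁻¹ᵁ V) (r : Γ(Spec (CommRingCat.of k), V)) :
    ∃ c : k, X.presheaf.germ (f ⁻¹ᵁ V) x hx (f.app V r) =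
      X.presheaf.germ ⊤ x trivial (f.app ⊤ ((Scheme.ΓSpecIso (CommRingCat.of k)).inv c)) := by
  obtain rfl := base_open_eq_top f hx
  obtain ⟨c, rfl⟩ :=
    (ConcreteCategory.bijective_of_isIso (Scheme.ΓSpecIso (CommRingCat.of k)).inv).2 r
  exact ⟨c, rfl⟩

theorem exists_germ_const {x : X} {V : (Spec (CommRingCat.of k)).Opens}
    (hx : x ∈ (X ↘ Spec (CommRingCat.of k)) ⁻¹ᵁ V) (r : Γ(Spec (CommRingCat.of k), V)) :
    ∃ c : k, X.presheaf.germ _ x hx ((X ↘ Spec (CommRingCat.of k)).app V r) =
      Curv2.stalkMap k X x c := by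
  obtain ⟨c, hc⟩ := exists_const_section _ hx r
  exact ⟨c, hc⟩

variable [IsAlgClosed k]

/-- The differentials of the function field over the stalk of the base are one-dimensional. -/
theorem relRank_generic (hK : FunFld.IsFunctionField k X.functionField) :
    Groth.Variety2.CotSmooth.relRank (X ↘ Spec (CommRingCat.of k)) (genericPoint X) = 1 := by
  obtain ⟨δ, C, -, ⟨v, hv⟩, -, hunif⟩ := exists_derivation_canonical hK
  set f := X ↘ Spec (CommRingCat.of k)
  let A := (Spec (CommRingCat.of k)).presheaf.stalk (f (genericPoint X))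
  let ρ : k →+* A :=
    (((Spec (CommRingCat.of k)).presheaf.germ ⊤ (f (genericPoint X)) trivial).hom).comp
      (Scheme.ΓSpecIso (CommRingCat.of k)).inv.hom
  letI : Algebra A X.functionField := (f.stalkMap (genericPoint X)).hom.toAlgebra
  have htow : ∀ c : k, algebraMap k X.functionField c = algebraMap A X.functionField (ρ c) := fun c =>
    (Scheme.Hom.germ_stalkMap_apply f ⊤ (genericPoint X) trivial _).symm
  have hsurj : Function.Surjective ρ := fun a => by
    obtain ⟨V, hV, r, rfl⟩ := TopCat.Presheaf.exists_germ_eq (Spec (CommRingCat.of k)).presheaf a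
    obtain rfl := base_open_eq_top f (x := genericPoint X) (V := V) hV
    obtain ⟨c, rfl⟩ :=
      (ConcreteCategory.bijective_of_isIso (Scheme.ΓSpecIso (CommRingCat.of k)).inv).2 r
    exact ⟨c, rfl⟩
  letI : Algebra k A := ρ.toAlgebra
  haveI : IsScalarTower k A X.functionField := IsScalarTower.of_algebraMap_eq htow
  have hspan : ∀ a : X.functionField, KaehlerDifferential.D A X.functionField a =
      δ a • KaehlerDifferential.D A X.functionField v := fun a => by
    have := congrArg (KaehlerDifferential.map k A X.functionField X.functionField) (hv a)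
    rwa [map_smul, KaehlerDifferential.map_D, KaehlerDifferential.map_D] at this
  let δA : Derivation A X.functionField X.functionField := Derivation.mk'
    { toFun := δ
      map_add' := map_add δ
      map_smul' := fun a x => by
        obtain ⟨c, rfl⟩ := hsurj a
        rw [RingHom.id_apply, Algebra.smul_def, Algebra.smul_def, ← htow, ← Algebra.smul_def,
          ← Algebra.smul_def]
        exact Derivation.map_smul δ c x }
    fun a b => δ.leibniz a b
  have hne : KaehlerDifferential.D A X.functionField v ≠ 0 := fun h0 => by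
    obtain ⟨P⟩ := (Groth.FunFld1.IsFF.of_isFunctionField hK).nonempty_place
    obtain ⟨t, ht⟩ := Groth.FunFld1.exists_val_eq_exp P (-1)
    have h1 : δA t = 0 := by
      rw [← Derivation.liftKaehlerDifferential_comp_D δA t, hspan t, h0, smul_zero, map_zero]
    have h2 := hunif P t ht
    rw [show δ t = 0 from h1, map_zero] at h2
    exact WithZero.exp_ne_zero h2.symm
  have hb : Submodule.span X.functionField {KaehlerDifferential.D A X.functionField v} = ⊤ := by
    rw [eq_top_iff, ← KaehlerDifferential.span_range_derivation, Submodule.span_le]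
    rintro _ ⟨a, rfl⟩
    exact Submodule.mem_span_singleton.mpr ⟨_, (hspan a).symm⟩
  haveI : Module.Finite X.functionField Ω[X.functionField⁄A] :=
    ⟨hb ▸ Submodule.fg_span_singleton _⟩
  have h1 : Module.finrank X.functionField Ω[X.functionField⁄A] = 1 := by
    rw [← finrank_top, ← hb, finrank_span_singleton hne]
  have key : Module.finrank (IsLocalRing.ResidueField X.functionField)
      (TensorProduct X.functionField (IsLocalRing.ResidueField X.functionField)
        Ω[X.functionField⁄A]) = 1 := by
    rw [Module.finrank_baseChange, h1]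
  exact key

theorem rank_eq_one (hK : FunFld.IsFunctionField k X.functionField)
    [QuasiSeparated (X ↘ Spec (CommRingCat.of k))] {U : X.Opens} {n : ℕ}
    {s : Fin n → Γ(Omega.sheaf (X ↘ Spec (CommRingCat.of k)), U)}
    (hs : Basis' (Omega.sheaf (X ↘ Spec (CommRingCat.of k))) U s) {x : X} (hx : x ∈ U) : n = 1 := by
  obtain ⟨c, hηc, hc⟩ := Groth.OmegaSheaf.exists_chart (X ↘ Spec (CommRingCat.of k)) (generic_mem U hx)
  let := ((X ↘ Spec (CommRingCat.of k)).appLE c.V c.U c.e).hom.toAlgebra
  have hbij : Function.Bijective fun r : Fin n → Γ(X, c.U) =>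
      ∑ i, r i • res (Omega.sheaf (X ↘ Spec (CommRingCat.of k))) hc (s i) := hs c.U hc
  have hb : Function.Bijective (Fintype.linearCombination Γ(X, c.U)
      fun i => res (Omega.sheaf (X ↘ Spec (CommRingCat.of k))) hc (s i)) := by
    convert hbij using 1
    funext r
    exact Fintype.linearCombination_apply _ _ r
  let b : Module.Basis (Fin n) Γ(X, c.U) Γ(Omega.sheaf (X ↘ Spec (CommRingCat.of k)), c.U) :=
    Module.Basis.ofEquivFun (LinearEquiv.ofBijective _ hb).symm
  exact (Groth.Variety2.CotSmooth.relRank_eq_of_chart (X ↘ Spec (CommRingCat.of k)) c.hV c.hU c.e hηc n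
    (b.map (Groth.OmegaSheaf.chartEquiv (X ↘ Spec (CommRingCat.of k)) c.e c.hV c.hU).symm)).symm.trans (relRank_generic hK)

/-- The differentials of a smooth curve are invertible. -/
theorem isInvertible_omega (hK : FunFld.IsFunctionField k X.functionField)
    [QuasiSeparated (X ↘ Spec (CommRingCat.of k))] [Smooth (X ↘ Spec (CommRingCat.of k))] :
    PicF.IsInvertible (Omega.sheaf (X ↘ Spec (CommRingCat.of k))) := by
  rw [Groth.LocFree.isInvertible_iff_ofRank_one]
  intro x
  obtain ⟨U, n, hx, ⟨e⟩⟩ := Groth.OmegaSheaf.isFinLocFree_sheaf (X ↘ Spec (CommRingCat.of k)) x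
  obtain ⟨s, hs⟩ := Groth.LocFree.exists_basis_of_iso e
  obtain rfl := rank_eq_one hK hs hx
  exact ⟨U, hx, ⟨e⟩⟩

end Groth.CurveBridge
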