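import Groth.Agent.CurveBridge.Linear
import Groth.Agent.CurveBridge.FromDivisor
import Groth.Agent.PicAux.EffCartierLine

/-!
Divisors of tensor products and of ideals of closed points.
-/

set_option linter.style.haveILetI false
set_option linter.unusedSectionVars false

universe u

open CategoryTheory AlgebraicGeometry Opposite TopologicalSpace WithZero
open Groth.PicAux

namespace Groth.CurveBridge

variable {X : Scheme.{u}} [IsIntegral X] {L M : X.Modules}

/-- Mono criterion through local bases with nonzero values. -/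
theorem mono_of_gen_ne_zero (ψ : L ⟶ constK X) {ι : Type*} (U : ι → X.Opens) (hU : iSup U = ⊤)
    (e : ∀ i, Γ(L, U i)) (he : ∀ i, Gen L (U i) (e i))
    (hne : ∀ i (hη : genericPoint X ∈ U i), kv hη (ψ.app (U i) (e i)) ≠ 0) : Mono ψ := by
  have hinj : ∀ V : X.Opens, Function.Injective (ψ.app V) := by
    intro V
    refine (injective_iff_map_eq_zero _).mpr fun m hm => ?_
    refine res_ext (fun i => V ⊓ U i) (fun _ => inf_le_left) (le_iSup_inf hU V) fun i => ?_
    obtain ⟨c, hc⟩ := (he i).exists_coeff (inf_le_right : V ⊓ U i ≤ U i) (res _ inf_le_left m)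
    by_cases hη : genericPoint X ∈ V ⊓ U i
    · have h1 := congrArg (fun m => kv hη (ψ.app (V ⊓ U i) m)) hc
      rw [app_res, hm, res_zero, map_zero, Scheme.Modules.Hom.app_smul, kv_smul, app_res, kv_res,
        eq_comm, mul_eq_zero] at h1
      have h2 : c = 0 := germ_injective_of_isIntegral X (U := V ⊓ U i) (genericPoint X) hη
        ((h1.resolve_right (hne i hη.2)).trans (map_zero _).symm)
      rw [hc, h2, zero_smul, res_zero]
    · have hb : V ⊓ U i = ⊥ := by
        rw [← Opens.not_nonempty_iff_eq_bot]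
        exact fun ⟨x, hx⟩ => hη (generic_mem _ hx)
      exact res_ext (ι := Empty) (fun e => e.elim) (fun e => e.elim) (hb.le.trans bot_le)
        (fun e => e.elim)
  rw [Groth.QCohMod.mono_iff_stalk]
  intro x
  exact (TopCat.Presheaf.app_injective_iff_stalkFunctor_map_injective
    (F := (⟨L.presheaf, L.isSheaf⟩ : TopCat.Sheaf Ab.{u} X)) (G := (constK X).presheaf)
    ((Scheme.Modules.toPresheaf X).map ψ)).mpr hinj x

/-- The inclusion of an ideal sheaf in the rational functions. -/
theorem exists_idealEmb (I : X.IdealSheafData) :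
    ∃ χ : ClSub.idealMod I ⟶ constK X, ∀ (V : X.Opens) (hV : genericPoint X ∈ V)
      (m : Γ(ClSub.idealMod I, V)),
      kv hV (χ.app V m) = X.presheaf.germ V (genericPoint X) hV (OmegaSh.idealSect I V m) := by
  refine ⟨Groth.QCohMod.toSky (ClSub.idealMod I)
    (fun V hV => (X.presheaf.germ V (genericPoint X) hV).hom.toAddMonoidHom.comp
      (AddMonoidHom.mk' (fun m => OmegaSh.idealSect I V m) fun a b => map_add _ a b))
    (fun U V h hx m => ?_) (fun U hx r m => ?_), fun V hV m => rfl⟩
  · change X.presheaf.germ V _ hx (OmegaSh.idealSect I V (res _ h m)) =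
      X.presheaf.germ U _ (h hx) (OmegaSh.idealSect I U m)
    rw [idealSect_res', germ_resX']
  · rw [generic_smul]
    change X.presheaf.germ U _ hx (OmegaSh.idealSect I U (r • m)) =
      _ * X.presheaf.germ U _ hx (OmegaSh.idealSect I U m)
    rw [Groth.OmegaSheaf.idealSect_smul, map_mul]

variable {k : Type u} [Field k] [X.Over (Spec (CommRingCat.of k))]
  [IsProper (X ↘ Spec (CommRingCat.of k))] (h : IsRegCurve X)
include h

/-- The divisor of a tensor product is the sum of the divisors, and values of sections multiply. -/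
theorem exists_divEmb_tensor_val (hL : PicF.IsInvertible L) (hM : PicF.IsInvertible M)
    {φ : L ⟶ constK X} {ψ : M ⟶ constK X} {D E : FunFld.Divisor k X.functionField}
    (hφ : IsDivEmb h φ D) (hψ : IsDivEmb h ψ E) :
    ∃ χ : CohB1.tensorMod L M ⟶ constK X, IsDivEmb h χ (D + E) ∧
      ∀ (s : Γ(L, (⊤ : X.Opens))) (t : Γ(M, (⊤ : X.Opens))),
        kv (show genericPoint X ∈ (⊤ : X.Opens) from trivial) (χ.app ⊤ (tmulSec s t)) =
          kv (show genericPoint X ∈ (⊤ : X.Opens) from trivial) (φ.app ⊤ s) *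
          kv (show genericPoint X ∈ (⊤ : X.Opens) from trivial) (ψ.app ⊤ t) := by
  haveI := hφ.1; haveI := hψ.1
  have hloc : ∀ y : X, ∃ (U : X.Opens) (a : Γ(L, U)) (b : Γ(M, U)),
      y ∈ U ∧ Gen L U a ∧ Gen M U b := by
    intro y
    obtain ⟨U, a, hU, ha⟩ := (isInvertible_iff_exists_gen L).1 hL y
    obtain ⟨V, b, hV, hb⟩ := (isInvertible_iff_exists_gen M).1 hM y
    exact ⟨U ⊓ V, res L inf_le_left a, res M inf_le_right b, ⟨hU, hV⟩, ha.res inf_le_left,
      hb.res inf_le_right⟩
  choose U a b hy ha hb using hloc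
  have hcov : iSup U = ⊤ := eq_top_iff.2 fun y _ => Opens.mem_iSup.2 ⟨y, hy y⟩
  have hη : ∀ y, genericPoint X ∈ U y := fun y => generic_mem _ (hy y)
  obtain ⟨χ, hχ⟩ := exists_hom_of_gen (M := constK X) hcov _ (fun y => (ha y).tensor (hb y))
    (fun y => ksec (U y) (kv (hη y) (φ.app (U y) (a y)) * kv (hη y) (ψ.app (U y) (b y))))
    fun i j r hr => by
      obtain ⟨p, hp⟩ := (ha j).exists_coeff inf_le_right
        (res _ (inf_le_left : U i ⊓ U j ≤ U i) (a i))
      obtain ⟨q, hq⟩ := (hb j).exists_coeff inf_le_right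
        (res _ (inf_le_left : U i ⊓ U j ≤ U i) (b i))
      rw [res_tmulSec, res_tmulSec, hp, hq, tmulSec_smul_left, tmulSec_smul_right, ← mul_smul] at hr
      have hpq : p * q = r := ((ha j).tensor (hb j)).smul_inj inf_le_right
        (by rw [res_tmulSec]; exact hr)
      have hij : genericPoint X ∈ U i ⊓ U j := ⟨hη i, hη j⟩
      have e1 := congrArg (fun m => kv hij (φ.app (U i ⊓ U j) m)) hp
      have e2 := congrArg (fun m => kv hij (ψ.app (U i ⊓ U j) m)) hq
      rw [app_res, kv_res, Scheme.Modules.Hom.app_smul, kv_smul, app_res, kv_res] at e1 e2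
      rw [res_ksec, res_ksec, ksec_smul hij, ← hpq]
      congr 1
      rw [e1, e2, map_mul]; exact mul_mul_mul_comm _ _ _ _
  have hval : ∀ y, kv (hη y) (χ.app (U y) (tmulSec (a y) (b y))) =
      kv (hη y) (φ.app (U y) (a y)) * kv (hη y) (ψ.app (U y) (b y)) := fun y => by
    rw [hχ, kv_ksec]
  refine ⟨χ, ⟨mono_of_gen_ne_zero χ U hcov _ (fun y => (ha y).tensor (hb y)) fun y hy' => ?_,
    fun x z => ?_⟩, fun s t => ?_⟩
  · rw [show kv hy' _ = _ from hval y]
    exact mul_ne_zero (kv_gen_ne_zero φ (hy y) (ha y)) (kv_gen_ne_zero ψ (hy y) (hb y))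
  · set P := placeAt (k := k) h x with hP
    have key : ∀ {N : X.Modules} {η' : N ⟶ constK X} {F : FunFld.Divisor k X.functionField}
        (_ : IsDivEmb h η' F) {W : X.Opens} (hW : x.1 ∈ W) {e : Γ(N, W)} (_ : Gen N W e),
        P.1 (kv (generic_mem W hW) (η'.app W e)) = exp (F P) := by
      intro N η' F hη' W hW e he
      haveI := hη'.1
      refine le_antisymm ((hη'.2 x _).mp ⟨W, hW, e, rfl⟩) ?_
      obtain ⟨z, hz⟩ := Groth.FunFld1.exists_val_eq_exp P (F P)
      obtain ⟨c, hc⟩ := (inStalk_iff_of_gen η' hW he z).mp ((hη'.2 x z).mpr hz.le)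
      rw [← hz, ← hc, map_mul]
      refine (mul_le_mul' ?_ le_rfl).trans_eq (one_mul _)
      rw [hP, placeAt_le_one_iff]
      exact ⟨c, rfl⟩
    have hw : P.1 (kv (hη x.1) (χ.app (U x.1) (tmulSec (a x.1) (b x.1)))) = exp ((D + E) P) := by
      rw [hval, map_mul, key hφ (hy x.1) (ha x.1), key hψ (hy x.1) (hb x.1), ← exp_add,
        Finsupp.add_apply]
    have hne : kv (hη x.1) (χ.app (U x.1) (tmulSec (a x.1) (b x.1))) ≠ 0 := fun h0 => by
      rw [h0, map_zero] at hw
      exact exp_ne_zero hw.symm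
    rw [inStalk_iff_of_gen χ (hy x.1) ((ha x.1).tensor (hb x.1)), ← hw,
      ← div_le_one₀ (zero_lt_iff.mpr ((Valuation.ne_zero_iff _).mpr hne)), ← map_div₀, hP,
      placeAt_le_one_iff]
    exact exists_congr fun c => (eq_div_iff hne).symm
  · set y := genericPoint X
    obtain ⟨p, hp⟩ := (ha y).exists_coeff le_rfl (res L (le_top : U y ≤ ⊤) s)
    obtain ⟨q, hq⟩ := (hb y).exists_coeff le_rfl (res M (le_top : U y ≤ ⊤) t)
    rw [res_self] at hp hq
    have et : res _ (le_top : U y ≤ ⊤) (tmulSec s t) = (p * q) • tmulSec (a y) (b y) := by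
      rw [res_tmulSec, hp, hq, tmulSec_smul_left, tmulSec_smul_right, ← mul_smul]
    have e0 := congrArg (fun m => kv (hη y) (χ.app (U y) m)) et
    have e1 := congrArg (fun m => kv (hη y) (φ.app (U y) m)) hp
    have e2 := congrArg (fun m => kv (hη y) (ψ.app (U y) m)) hq
    rw [app_res, kv_res, Scheme.Modules.Hom.app_smul, kv_smul] at e0 e1 e2
    rw [e0, e1, e2, map_mul, hval y]
    exact mul_mul_mul_comm _ _ _ _

/-- The divisor of a tensor product is the sum of the divisors. -/
theorem exists_divEmb_tensor (hL : PicF.IsInvertible L) (hM : PicF.IsInvertible M)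
    {φ : L ⟶ constK X} {ψ : M ⟶ constK X} {D E : FunFld.Divisor k X.functionField}
    (hφ : IsDivEmb h φ D) (hψ : IsDivEmb h ψ E) :
    ∃ χ : CohB1.tensorMod L M ⟶ constK X, IsDivEmb h χ (D + E) :=
  (exists_divEmb_tensor_val h hL hM hφ hψ).imp fun _ => And.left

/-- The ideal of a closed point is invertible with divisor minus the place. -/
theorem exists_divEmb_pointIdeal (x : Pt X) :
    PicF.IsInvertible (ClSub.idealMod (Scheme.IdealSheafData.vanishingIdeal ⟨{x.1}, x.2⟩)) ∧
    ∃ χ : ClSub.idealMod (Scheme.IdealSheafData.vanishingIdeal ⟨{x.1}, x.2⟩) ⟶ constK X,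
      IsDivEmb h χ (-(Finsupp.single (placeAt (k := k) h x) 1) : FunFld.Divisor k X.functionField) := by
  classical
  set I := Scheme.IdealSheafData.vanishingIdeal (X := X) ⟨{x.1}, x.2⟩ with hI
  obtain ⟨χ, hχ⟩ := exists_idealEmb I
  set D : FunFld.Divisor k X.functionField := -(Finsupp.single (placeAt (k := k) h x) 1) with hD
  haveI : Mono χ := by
    rw [Groth.QCohMod.mono_iff_stalk]
    intro z
    refine (TopCat.Presheaf.app_injective_iff_stalkFunctor_map_injective
      (F := (⟨(ClSub.idealMod I).presheaf, (ClSub.idealMod I).isSheaf⟩ : TopCat.Sheaf Ab.{u} X))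
      (G := (constK X).presheaf) ((Scheme.Modules.toPresheaf X).map χ)).mpr (fun V m m' hm => ?_) z
    by_cases hV : genericPoint X ∈ V
    · refine Groth.OmegaSheaf.idealSect_injective I V
        (germ_injective_of_isIntegral X (U := V) (genericPoint X) hV ?_)
      rw [← hχ, ← hχ]
      exact congrArg (kv hV) hm
    · have hb : V = ⊥ := by
        rw [← Opens.not_nonempty_iff_eq_bot]
        exact fun ⟨y, hy⟩ => hV (generic_mem _ hy)
      exact res_ext (ι := Empty) (fun e => e.elim) (fun e => e.elim) (hb.le.trans bot_le)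
        (fun e => e.elim)
  -- membership in the ideal on affines
  have hmem : ∀ (W : X.affineOpens) (r : Γ(X, W.1)), r ∈ I.ideal W ↔
      ∀ hx : x.1 ∈ W.1, X.presheaf.germ W.1 x.1 hx r ∈ IsLocalRing.maximalIdeal _ := by
    intro W r
    rw [hI, Scheme.IdealSheafData.vanishingIdeal_ideal, PrimeSpectrum.mem_vanishingIdeal]
    constructor
    · intro hr hx
      have h1 := hr (W.2.primeIdealOf ⟨x.1, hx⟩) (by
        rw [Set.mem_preimage]; exact (W.2.fromSpec_primeIdealOf ⟨x.1, hx⟩))
      letI := TopCat.Presheaf.algebra_section_stalk X.presheaf (⟨x.1, hx⟩ : W.1)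
      haveI := IsAffineOpen.isLocalization_stalk W.2 ⟨x.1, hx⟩
      exact (IsLocalization.AtPrime.to_map_mem_maximal_iff (X.presheaf.stalk x.1)
        (IsAffineOpen.primeIdealOf W.2 ⟨x.1, hx⟩).asIdeal r).mpr h1
    · intro hr p hp
      rw [Set.mem_preimage] at hp
      have hx : x.1 ∈ W.1 := by
        rw [← (show W.2.fromSpec p = x.1 from hp)]
        exact W.2.range_fromSpec.le ⟨p, rfl⟩
      have hpe : W.2.primeIdealOf ⟨x.1, hx⟩ = p :=
        W.2.fromSpec.isOpenEmbedding.injective
          ((W.2.fromSpec_primeIdealOf _).trans (show W.2.fromSpec p = x.1 from hp).symm)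
      rw [← hpe]
      letI := TopCat.Presheaf.algebra_section_stalk X.presheaf (⟨x.1, hx⟩ : W.1)
      haveI := IsAffineOpen.isLocalization_stalk W.2 ⟨x.1, hx⟩
      exact (IsLocalization.AtPrime.to_map_mem_maximal_iff (X.presheaf.stalk x.1)
        (IsAffineOpen.primeIdealOf W.2 ⟨x.1, hx⟩).asIdeal r).mp (hr hx)
  have hfwd : ∀ (y : X) (z : X.functionField), InStalk χ y z →
      ∃ a : X.presheaf.stalk y, algebraMap (X.presheaf.stalk y) X.functionField a = z ∧
        ∀ e : y = x.1, a ∈ IsLocalRing.maximalIdeal _ := by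
    rintro y z ⟨V, hy, m, rfl⟩
    obtain ⟨W, hW, hyW, hWV⟩ := exists_isAffineOpen_mem_and_subset (x := y) (U := V) hy
    refine ⟨X.presheaf.germ V y hy (OmegaSh.idealSect I V m), ?_, fun e => ?_⟩
    · rw [hχ, germ_generic]
    · subst e
      have h1 := (hmem ⟨W, hW⟩ _).mp (Groth.OmegaSheaf.idealSect_mem I ⟨W, hW⟩ (res _ hWV m)) hyW
      rwa [idealSect_res', germ_resX'] at h1
  have hbwd : ∀ (y : X) (a : X.presheaf.stalk y),
      (∀ e : y = x.1, a ∈ IsLocalRing.maximalIdeal _) →
      InStalk χ y (algebraMap (X.presheaf.stalk y) X.functionField a) := by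
    intro y a ha
    obtain ⟨V, hyV, r, rfl⟩ := TopCat.Presheaf.exists_germ_eq X.presheaf a
    let V' : X.Opens := if y = x.1 then V else V ⊓ ⟨({x.1} : Set X)ᶜ, x.2.isOpen_compl⟩
    have hV' : y ∈ V' ∧ V' ≤ V := by
      by_cases e : y = x.1
      · simp only [V', if_pos e]; exact ⟨hyV, le_rfl⟩
      · simp only [V', if_neg e]; exact ⟨⟨hyV, e⟩, inf_le_left⟩
    obtain ⟨W, hW, hyW, hWV⟩ := exists_isAffineOpen_mem_and_subset (x := y) (U := V') hV'.1
    have hr : resX X (le_trans hWV hV'.2) r ∈ I.ideal ⟨W, hW⟩ := by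
      refine (hmem ⟨W, hW⟩ _).mpr fun hx => ?_
      by_cases e : y = x.1
      · subst e
        have := ha rfl
        rwa [← germ_resX' (le_trans hWV hV'.2) x.1 hx r] at this
      · have : x.1 ∈ V' := hWV hx
        simp only [V', if_neg e] at this
        exact absurd rfl this.2
    obtain ⟨m, hm⟩ := Groth.OmegaSheaf.exists_idealSect I ⟨W, hW⟩ hr
    exact ⟨W, hyW, m, by rw [hχ, hm, germ_resX', germ_generic]⟩
  have hdiv : ∀ (y : Pt X) z, InStalk χ y.1 z ↔
      (placeAt (k := k) h y).1 z ≤ exp (D (placeAt (k := k) h y)) := by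
    intro y z
    by_cases hyx : y = x
    · subst hyx
      rw [hD, Finsupp.neg_apply, Finsupp.single_eq_same]
      constructor
      · intro hz
        obtain ⟨a, rfl, ha⟩ := hfwd _ _ hz
        have hlt := (placeAt_lt_one_iff (k := k) h y a).mpr (ha rfl)
        rcases eq_or_ne ((placeAt (k := k) h y).1 (algebraMap _ X.functionField a)) 0 with h0 | h0
        · rw [h0]; exact zero_le
        · have h2 := hlt.trans_eq exp_zero.symm
          rw [← exp_log h0, exp_lt_exp] at h2
          rw [← exp_log h0, exp_le_exp]; omega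
      · intro hz
        have hlt : (placeAt (k := k) h y).1 z < 1 := hz.trans_lt (by rw [← exp_zero, exp_lt_exp]; norm_num)
        obtain ⟨a, rfl⟩ := (placeAt_le_one_iff (k := k) h y z).mp hlt.le
        exact hbwd _ a fun _ => (placeAt_lt_one_iff (k := k) h y a).mp hlt
    · have hne : placeAt (k := k) h y ≠ placeAt (k := k) h x :=
        fun e => hyx (placeAt_injective (k := k) h e)
      rw [hD, Finsupp.neg_apply, Finsupp.single_eq_of_ne hne, neg_zero, exp_zero, placeAt_le_one_iff]
      constructor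
      · intro hz
        obtain ⟨a, ha, -⟩ := hfwd _ _ hz
        exact ⟨a, ha⟩
      · rintro ⟨a, rfl⟩
        exact hbwd _ a fun e => absurd (Subtype.ext e) hyx
  refine ⟨?_, χ, inferInstance, hdiv⟩
  obtain ⟨L', φ', -, -, -, hL', -, hm', hd'⟩ := exists_invertible_embedding (k := k) h D
  have hφ' : IsDivEmb h φ' D := ⟨hm', hd'⟩
  haveI := hφ'.1
  obtain ⟨e⟩ := nonempty_iso_of_inStalk φ' χ fun y z => by
    by_cases hy : y = genericPoint X
    · subst hy
      refine iff_of_true (inStalk_generic φ' hL' z) ?_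
      obtain ⟨a, rfl⟩ := range_toFF_generic (X := X) (genericPoint X) rfl z
      exact hbwd _ a fun e => absurd e.symm ((isClosed_singleton_iff X h.dim x.1).mp x.2)
    · exact (hφ'.2 ⟨y, (isClosed_singleton_iff X h.dim y).mpr hy⟩ z).trans
        (hdiv ⟨y, (isClosed_singleton_iff X h.dim y).mpr hy⟩ z).symm
  rw [isInvertible_iff_exists_gen] at hL' ⊢
  intro y
  obtain ⟨W, s, hyW, hs⟩ := hL' y
  exact ⟨W, _, hyW, hs.map e.hom⟩

end Groth.CurveBridge
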