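import Groth.Agent.CurveBridge.HypImage
import Groth.Agent.CurveBridge.CubicAlgebra
import Groth.Agent.FunFld1.GenusOne
import Groth.Agent.CurveBridge.SectionH0

/-!
A genus one curve with functions of pole orders two and three at a rational place satisfying a
Weierstrass equation is isomorphic to that cubic.
-/

set_option linter.style.haveILetI false
set_option linter.unusedSectionVars false

universe u

open CategoryTheory AlgebraicGeometry Opposite TopologicalSpace WithZero
open Groth.PicAux Groth.Chow Groth.FunFld1 Groth.PropsBasic.Ample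

namespace Groth.CurveBridge

variable (k : Type u) [Field k] (X : Scheme.{u}) [X.Over (Spec (CommRingCat.of k))] [IsIntegral X]
  [IsProper (X ↘ Spec (CommRingCat.of k))] [Smooth (X ↘ Spec (CommRingCat.of k))]
  (hdim : topologicalKrullDim X = 1)
  (h0 : Module.finrank k (Coh.HH X (Coh.structureModule X) 0) = 1)
include hdim h0

theorem exists_cubic_coords (hg : Curv2.genus k X = 1) {P : FunFld.Place k X.functionField}
    (hP : P.deg = 1) {u v : X.functionField} (huL : u ∈ FunFld.L (Finsupp.single P 2))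
    (hvL : v ∈ FunFld.L (Finsupp.single P 3)) (hu : P.1 u = exp (2 : ℤ)) (hv : P.1 v = exp (3 : ℤ)) :
    ∃ (L : X.Modules) (s : Fin (2 + 1) → ProjUP.Γm L) (r : X ⟶ CohB1.ProjSpace 2 k),
      (⨆ i, ToPn.U L s i = ⊤) ∧
      (∀ i, (ToPn.U L s i).ι ≫ r = ToPn.rU (X ↘ Spec (CommRingCat.of k)) L s i) ∧
      r ≫ CohB1.ProjSpace.toSpec 2 k = X ↘ Spec (CommRingCat.of k) ∧ IsClosedImmersion r ∧
      (∀ l, (![u, v, 1] : Fin (2 + 1) → X.functionField) l ≠ 0) ∧
      (∀ j, genericPoint X ∈ ToPn.U L s j) ∧
      ∀ j l, ∀ hη : genericPoint X ∈ ToPn.U L s j,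
        X.presheaf.germ (ToPn.U L s j) (genericPoint X) hη (ToPn.c L s j l) =
          (![u, v, 1] : Fin (2 + 1) → X.functionField) l / (![u, v, 1] : Fin (2 + 1) → X.functionField) j := by
  classical
  have h : IsRegCurve X := isRegCurve_of_smooth k X hdim
  have hK := isFunctionField_field k X hdim h0
  have hF := isFF k X hdim
  have hgK : FunFld.genus k X.functionField = 1 := by rw [← genus_eq h hK]; exact hg
  haveI := isIntegral_bar k X h0
  have hbR : IsRegCurve (Xb k X) := isRegCurve_bar k X hdim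
  have hKb := isFunctionField (k := AlgebraicClosure k) (X := Xb k X) hbR.dim
  have hgb : FunFld.genus (AlgebraicClosure k) (Xb k X).functionField = 1 := by
    rw [← genus_eq hbR hKb, genus_bc k X]; exact hg
  set D : FunFld.Divisor k X.functionField := Finsupp.single P (3 : ℤ)
  have hD : D.deg = 3 := by rw [deg_single, hP]; rfl
  have hell : FunFld.ell D = 2 + 1 := by
    have := ell_eq_of_deg_ge hK (D := D) (by rw [hD, hgK]; norm_num)
    rw [hD, hgK] at this; omega
  let z : Fin (2 + 1) → X.functionField := ![u, v, 1]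
  have hz : ∀ l, z l ∈ FunFld.L D := fun l => by
    fin_cases l
    · exact L_mono (Finsupp.single_le_single.mpr (by norm_num)) huL
    · exact hvL
    · intro Q
      show Q.1 1 ≤ _
      rw [map_one, ← exp_zero, exp_le_exp]
      simp only [D]
      rw [Finsupp.single_apply]
      split_ifs <;> norm_num
  have hli : LinearIndependent k z := by
    rw [Fintype.linearIndependent_iff]
    intro c hc
    have hc' : Polynomial.aeval v (Polynomial.C (c 2) + Polynomial.C (c 1) * Polynomial.X) +
        u * Polynomial.aeval v (Polynomial.C (c 0)) + u ^ 2 * Polynomial.aeval v (0 : Polynomial k) = 0 := by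
      rw [Fin.sum_univ_three] at hc
      simp only [map_add, map_mul, Polynomial.aeval_C, Polynomial.aeval_X, map_zero, mul_zero, add_zero]
      rw [← hc]
      simp [z, Algebra.smul_def]
      ring
    obtain ⟨e1, e2, -⟩ := CubicAlgebra.eq_zero_of_aeval hu hv hc'
    have i1 : c 1 = 0 := by simpa using congrArg (fun q : Polynomial k => q.coeff 1) e1
    have i2 : c 2 = 0 := by simpa using congrArg (fun q : Polynomial k => q.coeff 0) e1
    intro i
    fin_cases i
    · simpa using e2
    · exact i1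
    · exact i2
  have hb : ∀ Q, FunFld.ell (D - Finsupp.single Q 1) < FunFld.ell D := fun Q => by
    have hQ := hF.deg_pos Q
    have hd : (D - Finsupp.single Q (1 : ℤ)).deg = 3 - Q.deg := by
      rw [deg_sub, hD, deg_single]; simp
    by_cases hQ2 : Q.deg ≤ 2
    · have := ell_eq_of_deg_ge hK (D := D - Finsupp.single Q 1) (by rw [hd, hgK]; omega)
      rw [hd, hgK] at this; omega
    · by_contra hlt
      obtain ⟨w, hwne, hw⟩ := hF.exists_effective_of_ne_bot (D := D - Finsupp.single Q 1) (fun hbot => by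
        have h00 : FunFld.ell (D - Finsupp.single Q 1) = 0 := by
          unfold FunFld.ell; rw [hbot]; exact finrank_bot _ _
        omega)
      have h1 := ell_le_deg_add_one hK hw
      rw [hF.ell_add_div _ hwne, deg_add, hd, hF.deg_div] at h1
      omega
  obtain ⟨L, φ, s, r, hs, hU, hr, hover, hclosed⟩ := exists_embedding_of_basis k X hdim h0 z hz hli hell hb
    (fun E hEd hEe A B => by
      have hA := deg_eq_one_of_isAlgClosed (IsFF.of_isFunctionField hKb) A
      have hB := deg_eq_one_of_isAlgClosed (IsFF.of_isFunctionField hKb) B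
      have := ell_eq_of_deg_ge hKb (D := E - Finsupp.single A 1 - Finsupp.single B 1) (by
        rw [deg_sub, deg_sub, deg_single, deg_single, hA, hB, hEd, hD, hgb]; norm_num)
      rw [deg_sub, deg_sub, deg_single, deg_single, hA, hB, hEd, hD, hgb] at this
      rw [hEe]; omega)
  have hz0 : ∀ l, z l ≠ 0 := fun l => hli.ne_zero l
  have hη : ∀ l, genericPoint X ∈ ToPn.U L s l := fun l => by
    obtain ⟨j, hj⟩ := Opens.mem_iSup.mp (hU.ge (Set.mem_univ (genericPoint X)))
    have hm0 : genericPoint X ∈ X.basicOpen (ToPn.c L s j l) :=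
      (X.mem_basicOpen _ _ hj).mpr (isUnit_iff_ne_zero.mpr fun he => hz0 l (by
        rw [← hs l, zv_coord s (φ := φ) j l hj, he, zero_mul]))
    rw [← ToPn.U_inf] at hm0
    exact hm0.1
  refine ⟨L, s, r, hU, hr, hover, hclosed, hz0, hη, fun j l hj => ?_⟩
  change _ = z l / z j
  rw [eq_div_iff (hz0 j)]
  rw [← hs l, ← hs j]
  exact (zv_coord s (φ := φ) j l hj).symm

theorem exists_iso_cubic (hg : Curv2.genus k X = 1) {P : FunFld.Place k X.functionField}
    (hP : P.deg = 1) {u v : X.functionField} (huL : u ∈ FunFld.L (Finsupp.single P 2))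
    (hvL : v ∈ FunFld.L (Finsupp.single P 3)) (hu : P.1 u = exp (2 : ℤ)) (hv : P.1 v = exp (3 : ℤ))
    {a₁ a₂ a₃ a₄ a₆ : k} (W : LefPen.Form 2 k 3)
    (hW : (W : MvPolynomial (Fin (2 + 1)) k) = MvPolynomial.X 1 ^ 2 * MvPolynomial.X 2 + MvPolynomial.C a₁ * MvPolynomial.X 0 * MvPolynomial.X 1 * MvPolynomial.X 2 + MvPolynomial.C a₃ * MvPolynomial.X 1 * MvPolynomial.X 2 ^ 2 - MvPolynomial.X 0 ^ 3 - MvPolynomial.C a₂ * MvPolynomial.X 0 ^ 2 * MvPolynomial.X 2 - MvPolynomial.C a₄ * MvPolynomial.X 0 * MvPolynomial.X 2 ^ 2 - MvPolynomial.C a₆ * MvPolynomial.X 2 ^ 3)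
    (heq : v ^ 2 + algebraMap k _ a₁ * u * v + algebraMap k _ a₃ * v =
      u ^ 3 + algebraMap k _ a₂ * u ^ 2 + algebraMap k _ a₄ * u + algebraMap k _ a₆) :
    ∃ e : X ≅ (LefPen.hypIdeal W).subscheme,
      e.hom ≫ (LefPen.hypIdeal W).subschemeι ≫ CohB1.ProjSpace.toSpec 2 k =
        X ↘ Spec (CommRingCat.of k) := by
  classical
  obtain ⟨L, s, r, hU, hr, hover, hclosed, hz0, hη, hc⟩ :=
    exists_cubic_coords k X hdim h0 hg hP huL hvL hu hv
  let z : Fin (2 + 1) → X.functionField := ![u, v, 1]
  have hWz : MvPolynomial.aeval z (W : MvPolynomial (Fin (2 + 1)) k) = 0 := by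
    simp [hW, z]
    linear_combination heq
  have hker : LefPen.hypIdeal W = r.ker := HypImage.ker_eq_hypIdeal hU hr hz0 hc
    hη W hWz fun d p hp hpz => CubicAlgebra.dvd_of_aeval_eq_zero hu hv hW hWz hp hpz
  haveI := hclosed
  have hk : (LefPen.hypIdeal W).subschemeι.ker = r.ker := by
    rw [Scheme.IdealSheafData.ker_subschemeι, hker]
  haveI := IsClosedImmersion.isIso_lift (LefPen.hypIdeal W).subschemeι r hk
  refine ⟨asIso (IsClosedImmersion.lift (LefPen.hypIdeal W).subschemeι r hk.le), ?_⟩
  rw [asIso_hom, IsClosedImmersion.lift_fac_assoc, hover]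

end Groth.CurveBridge
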